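import Mathlib.GroupTheory.GroupAction.Quotient
import Mathlib.Data.Fin.VecNotation
import Mathlib.Data.Fintype.Card
import Mathlib.Tactic

/-!
Binary coset actions: witnesses against and a criterion for.
-/

set_option autoImplicit false

namespace Cfsg.Agent.Lib.BinaryPSL2

variable {G : Type*} [Group G]

/-- The action on the cosets of `H` is binary. -/
def IsBinary (H : Subgroup G) : Prop :=
  ∀ (n : ℕ) (I J : Fin n → G ⧸ H), 2 ≤ n →
    (∀ i j : Fin n, i ≠ j → ∃ g : G, g • I i = J i ∧ g • I j = J j) →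
    ∃ g : G, ∀ i, g • I i = J i

theorem smul_mk_eq {H : Subgroup G} (g x y : G) :
    g • (x : G ⧸ H) = (y : G ⧸ H) ↔ y⁻¹ * g * x ∈ H := by
  rw [MulAction.Quotient.smul_coe, smul_eq_mul, eq_comm, QuotientGroup.eq, mul_assoc]

theorem smul_mk_self {H : Subgroup G} (g x : G) :
    g • (x : G ⧸ H) = (x : G ⧸ H) ↔ x⁻¹ * g * x ∈ H :=
  smul_mk_eq g x x

/-- The defining property over any finite index type. -/
theorem IsBinary.fintype {H : Subgroup G} (hb : IsBinary H) {ι : Type*} [Fintype ι]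
    (hι : 2 ≤ Fintype.card ι) (I J : ι → G ⧸ H)
    (h : ∀ i j, i ≠ j → ∃ g : G, g • I i = J i ∧ g • I j = J j) :
    ∃ g : G, ∀ i, g • I i = J i := by
  obtain ⟨g, hg⟩ := hb _ (I ∘ (Fintype.equivFin ι).symm) (J ∘ (Fintype.equivFin ι).symm) hι
    fun i j hij => h _ _ ((Fintype.equivFin ι).symm.injective.ne hij)
  exact ⟨g, fun i => by simpa using hg (Fintype.equivFin ι i)⟩

/-- A triangle of conjugates of `K` with conjugators in `L`. -/
def HasTriangle (L : Subgroup G) (K : G → Prop) : Prop :=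
  ∃ x ∈ L, ∃ y ∈ L, ∃ z ∈ L, ∃ h k : G, K (x⁻¹ * h * x) ∧ K (y⁻¹ * k * y) ∧
    K (z⁻¹ * (h⁻¹ * k) * z) ∧
    ∀ g : G, K (x⁻¹ * g * x) → K (y⁻¹ * g * y) → ¬ K (z⁻¹ * (g⁻¹ * h) * z)

/-- A triangle in `G` prevents a binary action. -/
theorem not_isBinary_of_triangle {H : Subgroup G} (ht : HasTriangle (⊤ : Subgroup G) (· ∈ H)) :
    ¬ IsBinary H := by
  obtain ⟨x, -, y, -, z, -, h, k, hh, hk, hc, hno⟩ := ht
  intro hb
  obtain ⟨g, hg⟩ := hb.fintype (ι := Fin 3) (by simp)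
    ![(x : G ⧸ H), y, z] ![(x : G ⧸ H), y, h • (z : G ⧸ H)] (by
      intro i j hij
      have h01 : ∃ g : G, g • (x : G ⧸ H) = x ∧ g • (y : G ⧸ H) = y :=
        ⟨1, one_smul G _, one_smul G _⟩
      have h02 : ∃ g : G, g • (x : G ⧸ H) = x ∧ g • (z : G ⧸ H) = h • (z : G ⧸ H) :=
        ⟨h, (smul_mk_self h x).mpr hh, rfl⟩
      have h12 : ∃ g : G, g • (y : G ⧸ H) = y ∧ g • (z : G ⧸ H) = h • (z : G ⧸ H) := by
        refine ⟨k, (smul_mk_self k y).mpr hk, ?_⟩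
        rw [← inv_smul_eq_iff, ← mul_smul, smul_mk_self]
        exact hc
      fin_cases i <;> fin_cases j <;> simp at hij ⊢
      · exact h01
      · exact h02
      · obtain ⟨g, a, b⟩ := h01; exact ⟨g, b, a⟩
      · exact h12
      · obtain ⟨g, a, b⟩ := h02; exact ⟨g, b, a⟩
      · obtain ⟨g, a, b⟩ := h12; exact ⟨g, b, a⟩)
  have hgz : g • (z : G ⧸ H) = h • (z : G ⧸ H) := hg 2
  rw [eq_comm, ← inv_smul_eq_iff, ← mul_smul, smul_mk_self] at hgz
  exact hno g ((smul_mk_self g x).mp (hg 0)) ((smul_mk_self g y).mp (hg 1)) hgz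

/-- A triangle in the action of `H` on the orbit of `c`. -/
theorem not_isBinary_of_orbit_triangle {H : Subgroup G} (c : G)
    (ht : HasTriangle H (fun u => u ∈ H ∧ c⁻¹ * u * c ∈ H)) : ¬ IsBinary H := by
  obtain ⟨x, hx, y, hy, z, hz, h, k, ⟨hh0, hh⟩, ⟨hk0, hk⟩, ⟨-, hc⟩, hno⟩ := ht
  intro hb
  have conjMem : ∀ {w u : G}, w ∈ H → w⁻¹ * u * w ∈ H → u ∈ H := fun {w u} hw hu => by
    simpa [mul_assoc] using H.mul_mem (H.mul_mem hw hu) (H.inv_mem hw)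
  have e : ∀ w u : G, u • ((w * c : G) : G ⧸ H) = ((w * c : G) : G ⧸ H) ↔
      c⁻¹ * (w⁻¹ * u * w) * c ∈ H := fun w u => by
    rw [smul_mk_self, show (w * c)⁻¹ * u * (w * c) = c⁻¹ * (w⁻¹ * u * w) * c by group]
  have base : ∀ u : G, u • ((1 : G) : G ⧸ H) = ((1 : G) : G ⧸ H) ↔ u ∈ H := fun u => by
    rw [smul_mk_self, inv_one, one_mul, mul_one]
  have hhH : h ∈ H := conjMem hx hh0
  have hkH : k ∈ H := conjMem hy hk0
  set P : Fin 4 → G ⧸ H :=
    ![((1 : G) : G ⧸ H), ((x * c : G) : G ⧸ H), ((y * c : G) : G ⧸ H), ((z * c : G) : G ⧸ H)]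
  set Q : Fin 4 → G ⧸ H :=
    ![((1 : G) : G ⧸ H), ((x * c : G) : G ⧸ H), ((y * c : G) : G ⧸ H),
      h • ((z * c : G) : G ⧸ H)]
  have low : ∀ i : Fin 4, i ≠ 3 → P i = Q i := by
    intro i hi; fin_cases i <;> simp [P, Q] at hi ⊢
  have hk3 : k • P 3 = Q 3 := by
    simp only [P, Q, Matrix.cons_val]
    rw [← inv_smul_eq_iff, ← mul_smul, e]
    exact hc
  have top : ∀ i : Fin 4, i ≠ 3 → ∃ u : G, u • P i = Q i ∧ u • P 3 = Q 3 := by
    intro i hi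
    fin_cases i
    · exact ⟨h, (base h).mpr hhH, rfl⟩
    · exact ⟨h, (e x h).mpr hh, rfl⟩
    · exact ⟨k, (e y k).mpr hk, hk3⟩
    · exact absurd rfl hi
  obtain ⟨g, hg⟩ := hb.fintype (ι := Fin 4) (by simp) P Q (by
    intro i j hij
    by_cases hi : i = 3
    · subst hi
      obtain ⟨u, a, b⟩ := top j (Ne.symm hij)
      exact ⟨u, b, a⟩
    · by_cases hj : j = 3
      · subst hj; exact top i hi
      · exact ⟨1, by rw [one_smul]; exact low i hi, by rw [one_smul]; exact low j hj⟩)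
  have hgH : g ∈ H := (base g).mp (hg 0)
  have hgz : g • ((z * c : G) : G ⧸ H) = h • ((z * c : G) : G ⧸ H) := hg 3
  rw [eq_comm, ← inv_smul_eq_iff, ← mul_smul, e] at hgz
  exact hno g ⟨H.mul_mem (H.mul_mem (H.inv_mem hx) hgH) hx, (e x g).mp (hg 1)⟩
    ⟨H.mul_mem (H.mul_mem (H.inv_mem hy) hgH) hy, (e y g).mp (hg 2)⟩
    ⟨H.mul_mem (H.mul_mem (H.inv_mem hz) (H.mul_mem (H.inv_mem hgH) hhH)) hz, hgz⟩

theorem IsBinary.map {G' : Type*} [Group G'] {H : Subgroup G} (hb : IsBinary H) (e : G ≃* G') :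
    IsBinary (H.map e.toMonoidHom) := by
  intro n I J hn hp
  choose a ha using fun i => QuotientGroup.mk_surjective (I i)
  choose b hb' using fun i => QuotientGroup.mk_surjective (J i)
  have key : ∀ (g : G') (i : Fin n), g • I i = J i ↔
      e.symm g • ((e.symm (a i) : G) : G ⧸ H) = ((e.symm (b i) : G) : G ⧸ H) := fun g i => by
    rw [← ha, ← hb', smul_mk_eq, smul_mk_eq, ← map_inv, ← map_mul, ← map_mul,
      Subgroup.mem_map_equiv]
  obtain ⟨g, hg⟩ := hb n (fun i => ((e.symm (a i) : G) : G ⧸ H))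
    (fun i => ((e.symm (b i) : G) : G ⧸ H)) hn fun i j hij => by
      obtain ⟨g, h1, h2⟩ := hp i j hij
      exact ⟨e.symm g, (key g i).mp h1, (key g j).mp h2⟩
  exact ⟨e g, fun i => (key _ i).mpr (by rw [MulEquiv.symm_apply_apply]; exact hg i)⟩

theorem isBinary_map_iff {G' : Type*} [Group G'] {H : Subgroup G} (e : G ≃* G') :
    IsBinary (H.map e.toMonoidHom) ↔ IsBinary H := by
  refine ⟨fun h => ?_, fun h => h.map e⟩
  have := h.map e.symm
  rwa [Subgroup.map_map,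
    show e.symm.toMonoidHom.comp e.toMonoidHom = MonoidHom.id G from
      MonoidHom.ext fun x => e.symm_apply_apply x, Subgroup.map_id] at this

/-- The regular action is binary. -/
theorem isBinary_bot : IsBinary (⊥ : Subgroup G) := by
  intro n I J hn hp
  obtain ⟨g, hg, -⟩ := hp ⟨0, by omega⟩ ⟨1, hn⟩ (by simp [Fin.ext_iff])
  refine ⟨g, fun j => ?_⟩
  by_cases hj : j = ⟨0, by omega⟩
  · subst hj; exact hg
  obtain ⟨g', hg', hj'⟩ := hp ⟨0, by omega⟩ j (Ne.symm hj)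
  obtain ⟨a, ha⟩ := QuotientGroup.mk_surjective (I ⟨0, by omega⟩)
  obtain ⟨b, hb⟩ := QuotientGroup.mk_surjective (J ⟨0, by omega⟩)
  rw [← ha, ← hb, smul_mk_eq, Subgroup.mem_bot, mul_assoc, inv_mul_eq_one] at hg hg'
  rwa [mul_right_cancel (hg.symm.trans hg')]

/-- Conjugates without triangles give a binary action. -/
theorem isBinary_of_no_triangle (H : Subgroup G)
    (hNT : ∀ x y z a b : G, H.map (MulAut.conj x).toMonoidHom ≠ H.map (MulAut.conj y).toMonoidHom →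
      x⁻¹ * a * x ∈ H → y⁻¹ * b * y ∈ H → z⁻¹ * (a * b) * z ∈ H → a = 1 ∨ b = 1) :
    IsBinary H := by
  intro n I J hn hp
  choose a ha using fun i => QuotientGroup.mk_surjective (I i)
  let i₀ : Fin n := ⟨0, by omega⟩
  set A : Fin n → Subgroup G := fun i => H.map (MulAut.conj (a i)).toMonoidHom
  have hA : ∀ i (g : G), g ∈ A i ↔ (a i)⁻¹ * g * a i ∈ H := fun i g => by
    rw [Subgroup.mem_map_equiv, MulAut.conj_symm_apply]
  have hfix : ∀ i (g : G), g • I i = I i ↔ g ∈ A i := fun i g => by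
    rw [← ha, smul_mk_self, hA]
  obtain ⟨g₀, hg₀, -⟩ := hp i₀ ⟨1, hn⟩ (by simp [i₀, Fin.ext_iff])
  set J' : Fin n → G ⧸ H := fun i => g₀⁻¹ • J i
  have h0 : J' i₀ = I i₀ := inv_smul_eq_iff.mpr hg₀.symm
  have hp' : ∀ i j, i ≠ j → ∃ g : G, g • I i = J' i ∧ g • I j = J' j := by
    intro i j hij
    obtain ⟨g, h1, h2⟩ := hp i j hij
    exact ⟨g₀⁻¹ * g, by rw [mul_smul, h1], by rw [mul_smul, h2]⟩
  suffices ∃ g : G, ∀ i, g • I i = J' i by
    obtain ⟨g, hg⟩ := this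
    exact ⟨g₀ * g, fun i => by rw [mul_smul, hg, smul_inv_smul]⟩
  have same : ∀ (i j : Fin n) (g : G), A i = A j → g • I i = I i → g • I j = I j := fun i j g h hg => by
    rw [hfix] at hg ⊢; rwa [← h]
  by_cases hall : ∀ j, A j = A i₀
  · refine ⟨1, fun j => ?_⟩
    rw [one_smul]
    by_cases hj : j = i₀
    · rw [hj, h0]
    obtain ⟨g, h1, h2⟩ := hp' i₀ j (Ne.symm hj)
    rw [h0] at h1
    rw [← h2, same i₀ j g (hall j).symm h1]
  push Not at hall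
  obtain ⟨i₁, h10⟩ := hall
  obtain ⟨g₁, hg10, hg11⟩ := hp' i₀ i₁ fun h => h10 (by rw [h])
  rw [h0] at hg10
  refine ⟨g₁, fun j => ?_⟩
  by_cases hj0 : j = i₀
  · rw [hj0, hg10, h0]
  by_cases hj1 : j = i₁
  · rw [hj1, hg11]
  obtain ⟨u, hu0, hu⟩ := hp' i₀ j (Ne.symm hj0)
  obtain ⟨v, hv1, hv⟩ := hp' i₁ j (Ne.symm hj1)
  rw [h0] at hu0
  have hu' : g₁⁻¹ * u ∈ A i₀ :=
    Subgroup.mul_mem _ (Subgroup.inv_mem _ ((hfix _ _).mp hg10)) ((hfix _ _).mp hu0)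
  have hv' : (g₁⁻¹ * v) • I i₁ = I i₁ := by
    rw [mul_smul, hv1, ← hg11, inv_smul_smul]
  by_cases hz : A j = A i₀
  · rw [← hu, same i₀ j g₁ hz.symm hg10, same i₀ j u hz.symm hu0]
  have huv : (g₁⁻¹ * u)⁻¹ * (g₁⁻¹ * v) ∈ A j := by
    rw [← hfix, show (g₁⁻¹ * u)⁻¹ * (g₁⁻¹ * v) = u⁻¹ * v by group, mul_smul, hv, ← hu, inv_smul_smul]
  rcases hNT (a i₀) (a i₁) (a j) (g₁⁻¹ * u)⁻¹ (g₁⁻¹ * v) (Ne.symm h10)
    ((hA i₀ _).mp (Subgroup.inv_mem _ hu')) ((hA i₁ _).mp ((hfix _ _).mp hv'))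
    ((hA j _).mp huv) with e | e
  · rw [inv_eq_one, inv_mul_eq_one] at e
    rw [e, hu]
  · rw [inv_mul_eq_one] at e
    rw [e, hv]

end Cfsg.Agent.Lib.BinaryPSL2
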