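import Cfsg.Agent.Lib.BinaryPSL2.Inverters
import Cfsg.Agent.Lib.DicksonId.Exclude

/-!
Triangles built from involutions: groups of order two, four groups, and dihedral groups with
rotation subgroup of even order.
-/

set_option autoImplicit false

namespace Cfsg.Agent.Lib.BinaryPSL2

open Matrix Cfsg.Agent.Lib.Linear
open Cfsg.Agent.Lib.DicksonFull (mk_eq_one_of_smul)

variable {F : Type*} [Field F]

local notation "SL2" => Matrix.SpecialLinearGroup (Fin 2) F
local notation "M2" => Matrix (Fin 2) (Fin 2) F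
local notation "PSL2" => Matrix.ProjectiveSpecialLinearGroup (Fin 2) F

/-- Commuting in `PSL` is commuting up to sign. -/
theorem comm_sign {X Y : SL2} (h : (X : PSL2) * Y = (Y : PSL2) * X) :
    (Y : M2) * X = (X : M2) * Y ∨ (Y : M2) * X = -((X : M2) * Y) := by
  rw [← QuotientGroup.mk_mul, ← QuotientGroup.mk_mul] at h
  obtain ⟨c, hc2, hc⟩ := exists_sign h
  rw [Matrix.SpecialLinearGroup.coe_mul, Matrix.SpecialLinearGroup.coe_mul] at hc
  rcases mul_eq_zero.mp (show (c - 1) * (c + 1) = 0 by linear_combination hc2) with e | e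
  · left; rw [hc, sub_eq_zero.mp e, one_smul]
  · right; rw [hc, eq_neg_of_add_eq_zero_left e, neg_smul, one_smul]

theorem mul_add_mul_swap {A B : SL2} (hA : Matrix.trace (A : M2) = 0)
    (hB : Matrix.trace (B : M2) = 0) :
    (A : M2) * (B : M2) + (B : M2) * (A : M2) = Matrix.trace ((A : M2) * (B : M2)) • (1 : M2) := by
  rw [Matrix.trace_fin_two] at hA hB
  have ha : (A : M2) 1 1 = -(A : M2) 0 0 := by linear_combination hA
  have hb : (B : M2) 1 1 = -(B : M2) 0 0 := by linear_combination hB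
  ext i j
  fin_cases i <;> fin_cases j <;>
    simp [Matrix.mul_apply, Fin.sum_univ_two, Matrix.trace_fin_two, ha, hb] <;> ring

/-- An element commuting with a pair of commuting involutions, lifted. -/
theorem eq_of_commute_lift (h2 : (2 : F) ≠ 0) {A B G : SL2} (hA1 : (A : PSL2) ≠ 1)
    (hAB : (B : M2) * A = -((A : M2) * (B : M2))) (hgA : G * A = A * G)
    (hgB : (G : PSL2) * B = (B : PSL2) * G) : (G : PSL2) = 1 ∨ (G : PSL2) = A := by
  obtain ⟨u, v, e⟩ := exists_eq_add_smul_of_commute (DicksonId.nonScalar_of_ne hA1) hgA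
  have hABunit : IsUnit ((A : M2) * (B : M2)) := by
    rw [← Matrix.SpecialLinearGroup.coe_mul, Matrix.isUnit_iff_isUnit_det, (A * B).2]
    exact isUnit_one
  rcases comm_sign hgB with h | h
  · left
    refine mk_eq_one_of_smul (a := u) ?_
    have h0 : (2 * v) • ((A : M2) * (B : M2)) = 0 := by
      rw [e, Matrix.mul_add, Matrix.add_mul, mul_smul_comm, mul_smul_comm, smul_mul_assoc,
        smul_mul_assoc, Matrix.mul_one, Matrix.one_mul, hAB, smul_neg] at h
      have h' := add_left_cancel h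
      calc (2 * v) • ((A : M2) * (B : M2)) = v • ((A : M2) * (B : M2)) + v • ((A : M2) * (B : M2)) := by
            rw [two_mul, add_smul]
        _ = 0 := by nth_rw 1 [← h']; exact neg_add_cancel _
    rcases smul_eq_zero.mp h0 with h1 | h1
    · rw [e, (mul_eq_zero.mp h1).resolve_left h2, zero_smul, add_zero]
    · exact absurd h1 hABunit.ne_zero
  · right
    have h0 : (2 * u) • (B : M2) = 0 := by
      rw [e, Matrix.mul_add, Matrix.add_mul, mul_smul_comm, mul_smul_comm, smul_mul_assoc,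
        smul_mul_assoc, Matrix.mul_one, Matrix.one_mul, hAB, smul_neg, neg_add] at h
      have h' := add_right_cancel h
      calc (2 * u) • (B : M2) = u • (B : M2) + u • (B : M2) := by rw [two_mul, add_smul]
        _ = 0 := by nth_rw 1 [h']; exact neg_add_cancel _
    rcases smul_eq_zero.mp h0 with h1 | h1
    · symm
      refine DicksonId.mk_eq_of_smul (c := v) ?_
      rw [e, (mul_eq_zero.mp h1).resolve_left h2, zero_smul, zero_add]
    · exact absurd h1 ((Matrix.isUnit_iff_isUnit_det _).mpr (by rw [B.2]; exact isUnit_one) : IsUnit (B : M2)).ne_zero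

/-- A four group is its own centraliser. -/
theorem mem_four_of_commute (h2 : (2 : F) ≠ 0) {a b g : PSL2} (ha : a * a = 1) (ha1 : a ≠ 1)
    (hb : b * b = 1) (hb1 : b ≠ 1) (hab : a * b = b * a) (hne : a ≠ b)
    (hga : g * a = a * g) (hgb : g * b = b * g) : g = 1 ∨ g = a ∨ g = b ∨ g = a * b := by
  obtain ⟨A, rfl⟩ := QuotientGroup.mk_surjective a
  obtain ⟨B, rfl⟩ := QuotientGroup.mk_surjective b
  obtain ⟨G, rfl⟩ := QuotientGroup.mk_surjective g
  have hA0 := trace_of_mul_self ha1 ha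
  have hB0 := trace_of_mul_self hb1 hb
  have hAB : (B : M2) * A = -((A : M2) * (B : M2)) := by
    refine (comm_sign hab).resolve_left fun h => hne ?_
    obtain ⟨u, v, e⟩ := exists_eq_add_smul_of_commute (DicksonId.nonScalar_of_ne ha1)
      (g := B) (x := A) (Subtype.ext h)
    rw [Matrix.trace_fin_two] at hB0 hA0
    simp [e] at hB0
    have hu : u = 0 := (mul_eq_zero.mp (show 2 * u = 0 by linear_combination hB0 - v * hA0)).resolve_left h2
    exact DicksonId.mk_eq_of_smul (c := v) (by rw [e, hu, zero_smul, zero_add])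
  rcases comm_sign hga.symm with h | h
  · rcases eq_of_commute_lift h2 ha1 hAB (Subtype.ext h) hgb with e | e
    · exact Or.inl e
    · exact Or.inr (Or.inl e)
  · have hc : (G * B) * A = A * (G * B) := by
      apply Subtype.ext
      simp only [Matrix.SpecialLinearGroup.coe_mul]
      rw [Matrix.mul_assoc, hAB, Matrix.mul_neg, ← Matrix.mul_assoc,
        h, Matrix.neg_mul, neg_neg, Matrix.mul_assoc]
    rcases eq_of_commute_lift h2 ha1 hAB hc (by
        rw [QuotientGroup.mk_mul, mul_assoc, hb, mul_one, ← mul_assoc, ← hgb, mul_assoc, hb, mul_one])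
      with e | e <;> rw [QuotientGroup.mk_mul] at e
    · refine Or.inr (Or.inr (Or.inl ?_))
      rw [eq_inv_of_mul_eq_one_left e, inv_eq_of_mul_eq_one_right hb]
    · refine Or.inr (Or.inr (Or.inr ?_))
      rw [← e, mul_assoc, hb, mul_one]

/-- Involutions without a common perpendicular. -/
theorem eq_one_of_commute_pair (h2 : (2 : F) ≠ 0) {A B G : SL2}
    (hA : Matrix.trace (A : M2) = 0) (hB : Matrix.trace (B : M2) = 0)
    (hne : (A : M2) * (B : M2) ≠ (B : M2) * (A : M2)) (hτ : Matrix.trace ((A : M2) * (B : M2)) ≠ 0)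
    (hsq : ∀ l : F, l * l * (4 - Matrix.trace ((A : M2) * (B : M2)) * Matrix.trace ((A : M2) * (B : M2))) ≠ 1)
    (hga : (G : PSL2) * A = (A : PSL2) * G) (hgb : (G : PSL2) * B = (B : PSL2) * G) :
    (G : PSL2) = 1 := by
  have hB1 : (B : PSL2) ≠ 1 := fun e => by
    obtain ⟨c, hc⟩ := (DicksonFull.mem_center_iff_smul B).mp ((QuotientGroup.eq_one_iff B).mp e)
    exact hne (by rw [hc, mul_smul_comm, smul_mul_assoc, Matrix.mul_one, Matrix.one_mul])
  have hA1 : (A : PSL2) ≠ 1 := fun e => by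
    obtain ⟨c, hc⟩ := (DicksonFull.mem_center_iff_smul A).mp ((QuotientGroup.eq_one_iff A).mp e)
    exact hne (by rw [hc, mul_smul_comm, smul_mul_assoc, Matrix.mul_one, Matrix.one_mul])
  set τ := Matrix.trace ((A : M2) * (B : M2)) with hτdef
  -- a lift commuting with one member gives `G` in its torus
  have key : ∀ A' B' : SL2, Matrix.trace (A' : M2) = 0 → Matrix.trace (B' : M2) = 0 →
      (A' : M2) * (B' : M2) ≠ (B' : M2) * (A' : M2) → Matrix.trace ((A' : M2) * (B' : M2)) = τ → (A' : PSL2) ≠ 1 →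
      G * A' = A' * G → (G : PSL2) * B' = (B' : PSL2) * G → (G : PSL2) = 1 := by
    intro A' B' hA' hB' hne' hτ' hA'1 hc hgB'
    obtain ⟨u, v, e⟩ := exists_eq_add_smul_of_commute (DicksonId.nonScalar_of_ne hA'1) hc
    refine mk_eq_one_of_smul (a := u) ?_
    suffices v = 0 by rw [e, this, zero_smul, add_zero]
    rcases comm_sign hgB' with h | h
    · rw [e, Matrix.mul_add, Matrix.add_mul, mul_smul_comm, mul_smul_comm, smul_mul_assoc,
        smul_mul_assoc, Matrix.mul_one, Matrix.one_mul] at h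
      by_contra hv
      exact hne' (smul_right_injective M2 hv (add_left_cancel h)).symm
    · have hsum : (2 * u) • (B' : M2) + (v * τ) • (1 : M2) = 0 := by
        rw [e, Matrix.mul_add, Matrix.add_mul, mul_smul_comm, mul_smul_comm, smul_mul_assoc,
          smul_mul_assoc, Matrix.mul_one, Matrix.one_mul, eq_neg_iff_add_eq_zero] at h
        have hsw := mul_add_mul_swap hA' hB'
        rw [hτ'] at hsw
        rw [← h, mul_smul v τ, ← hsw, smul_add, two_mul, add_smul]
        abel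
      have ht := congrArg Matrix.trace hsum
      rw [Matrix.trace_add, Matrix.trace_smul, Matrix.trace_smul, hB', smul_zero, zero_add,
        Matrix.trace_one, Matrix.trace_zero, smul_eq_mul] at ht
      simp [h2, hτ] at ht
      exact ht
  rcases comm_sign hga.symm with h | h
  · exact key A B hA hB hne rfl hA1 (Subtype.ext h) hgb
  rcases comm_sign hgb.symm with h' | h'
  · exact key B A hB hA (Ne.symm hne) (by rw [hτdef, Matrix.trace_mul_comm]) hB1 (Subtype.ext h') hga
  exfalso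
  have hc : G * (A * B) = A * B * G := by
    apply Subtype.ext
    simp only [Matrix.SpecialLinearGroup.coe_mul]
    rw [← Matrix.mul_assoc, h, Matrix.neg_mul, Matrix.mul_assoc,
      h', Matrix.mul_neg, neg_neg, Matrix.mul_assoc]
  have hns : NonScalar (A * B) := by
    intro c hc'
    rw [Matrix.SpecialLinearGroup.coe_mul] at hc'
    refine hne ?_
    have hsw := mul_add_mul_swap hA hB
    have htr : τ = c * 2 := by rw [hτdef, hc', Matrix.trace_smul, Matrix.trace_one, smul_eq_mul]; simp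
    rw [← hτdef, htr, hc', mul_comm, mul_smul, two_smul] at hsw
    rw [hc', add_left_cancel hsw]
  obtain ⟨u, v, e⟩ := exists_eq_add_smul_of_commute hns hc
  have hG0 : Matrix.trace (G : M2) = 0 := by
    have hGA : G * A * G⁻¹ = Dickson.negI * A := by
      rw [mul_inv_eq_iff_eq_mul]
      apply Subtype.ext
      rw [Matrix.SpecialLinearGroup.coe_mul, Matrix.SpecialLinearGroup.coe_mul,
        Matrix.SpecialLinearGroup.coe_mul, Dickson.coe_negI, h, Matrix.neg_mul, Matrix.one_mul,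
        Matrix.neg_mul]
    have hAA : (A : M2) * (A : M2) = -1 := by rw [sl2_mul_self, hA, zero_smul, zero_sub]
    have h3 : (A : M2) * ((G : M2) * A) = (G : M2) := by
      rw [h, Matrix.mul_neg, ← Matrix.mul_assoc, hAA, Matrix.neg_mul, Matrix.one_mul, neg_neg]
    have h4 := congrArg Matrix.trace h3
    rw [Matrix.trace_mul_comm, Matrix.mul_assoc, hAA, Matrix.mul_neg, Matrix.mul_one,
      Matrix.trace_neg] at h4
    exact (mul_eq_zero.mp (show 2 * Matrix.trace (G : M2) = 0 by linear_combination -h4)).resolve_left h2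
  rw [Matrix.SpecialLinearGroup.coe_mul] at e
  have hd := sl2_det G
  have hdAB := sl2_det (A * B)
  rw [Matrix.SpecialLinearGroup.coe_mul] at hdAB
  rw [Matrix.trace_fin_two] at hG0
  have hτ2 : τ = ((A : M2) * (B : M2)) 0 0 + ((A : M2) * (B : M2)) 1 1 := Matrix.trace_fin_two _
  set M := (A : M2) * (B : M2)
  simp [e] at hd hG0
  refine hsq (v / 2) ?_
  have h4 : (2 : F) * 2 ≠ 0 := mul_ne_zero h2 h2
  apply mul_left_cancel₀ h4
  rw [hτ2]
  field_simp
  linear_combination 4 * hd - (2 * u + v * (M 0 0 + M 1 1)) * hG0 - (4 * v ^ 2) * hdAB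

section Model

variable (x y : F)

/-- The trace-zero matrices in coordinates. -/
def vmat (i j l : F) : Matrix (Fin 2) (Fin 2) F :=
  !![j * x - l * y, -i + j * y + l * x; i + j * y + l * x, -(j * x - l * y)]

/-- The involution with given coordinates. -/
def vinv (i j l : F) (hxy : x * x + y * y = -1) (h : i * i + j * j + l * l = 1) :
    Matrix.SpecialLinearGroup (Fin 2) F :=
  ⟨vmat x y i j l, by
    rw [vmat, Matrix.det_fin_two_of]
    linear_combination h - (j * j + l * l) * hxy⟩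

theorem coe_vinv (i j l : F) (hxy : x * x + y * y = -1) (h : i * i + j * j + l * l = 1) :
    ((vinv x y i j l hxy h : SL2) : M2) = vmat x y i j l := rfl

theorem trace_vinv (i j l : F) (hxy : x * x + y * y = -1) (h : i * i + j * j + l * l = 1) :
    Matrix.trace ((vinv x y i j l hxy h : SL2) : M2) = 0 := by
  rw [coe_vinv, vmat, Matrix.trace_fin_two_of]; ring

variable {x y} (hxy : x * x + y * y = -1)

theorem trace_vmat_mul (i j l i' j' l' : F) (hxy : x * x + y * y = -1) :
    Matrix.trace (vmat x y i j l * vmat x y i' j' l') = -2 * (i * i' + j * j' + l * l') := by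
  simp [vmat, Matrix.trace_fin_two, Matrix.mul_apply, Fin.sum_univ_two]
  linear_combination 2 * (j * j' + l * l') * hxy

theorem vmat_mul_sub (i j l i' j' l' : F) (hxy : x * x + y * y = -1) :
    vmat x y i j l * vmat x y i' j' l' - vmat x y i' j' l' * vmat x y i j l =
      (2 : F) • vmat x y (j * l' - l * j') (l * i' - i * l') (i * j' - j * i') := by
  ext r c
  fin_cases r <;> fin_cases c <;> simp [vmat, Matrix.mul_apply, Fin.sum_univ_two]
  · ring
  · linear_combination (2 * (j * l' - l * j')) * hxy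
  · linear_combination (-2 * (j * l' - l * j')) * hxy
  · ring

theorem vmat_eq_zero {i j l : F} (h2 : (2 : F) ≠ 0) (hxy : x * x + y * y = -1)
    (h : vmat x y i j l = 0) : i = 0 ∧ j = 0 ∧ l = 0 := by
  have e00 : j * x - l * y = 0 := by simpa [vmat] using congrFun (congrFun h 0) 0
  have e01 : -i + j * y + l * x = 0 := by simpa [vmat] using congrFun (congrFun h 0) 1
  have e10 : i + j * y + l * x = 0 := by simpa [vmat] using congrFun (congrFun h 1) 0
  refine ⟨(mul_eq_zero.mp (show 2 * i = 0 by linear_combination e10 - e01)).resolve_left h2, ?_, ?_⟩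
  · refine (mul_eq_zero.mp (show 2 * j = 0 from ?_)).resolve_left h2
    linear_combination 2 * j * hxy - 2 * x * e00 - y * (e01 + e10)
  · refine (mul_eq_zero.mp (show 2 * l = 0 from ?_)).resolve_left h2
    linear_combination 2 * l * hxy + 2 * y * e00 - x * (e01 + e10)

/-- Perpendicular involutions commute. -/
theorem vinv_commute {i j l i' j' l' : F} (h : i * i + j * j + l * l = 1)
    (h' : i' * i' + j' * j' + l' * l' = 1) (hd : i * i' + j * j' + l * l' = 0) :
    ((vinv x y i j l hxy h : SL2) : PSL2) * vinv x y i' j' l' hxy h' =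
      ((vinv x y i' j' l' hxy h' : SL2) : PSL2) * vinv x y i j l hxy h := by
  rw [← QuotientGroup.mk_mul, ← QuotientGroup.mk_mul]
  refine (DicksonId.mk_eq_of_smul (c := -1) ?_).symm
  have hs := mul_add_mul_swap (trace_vinv x y i j l hxy h) (trace_vinv x y i' j' l' hxy h')
  rw [coe_vinv, coe_vinv, trace_vmat_mul _ _ _ _ _ _ hxy, hd, mul_zero, zero_smul] at hs
  rw [Matrix.SpecialLinearGroup.coe_mul, Matrix.SpecialLinearGroup.coe_mul, coe_vinv, coe_vinv,
    neg_one_smul]
  exact eq_neg_of_add_eq_zero_left hs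

/-- Skew involutions do not. -/
theorem vinv_not_commute (h2 : (2 : F) ≠ 0) {i j l i' j' l' : F} (h : i * i + j * j + l * l = 1)
    (h' : i' * i' + j' * j' + l' * l' = 1) (hd : i * i' + j * j' + l * l' ≠ 0)
    (hc : j * l' - l * j' ≠ 0 ∨ l * i' - i * l' ≠ 0 ∨ i * j' - j * i' ≠ 0) :
    ((vinv x y i j l hxy h : SL2) : PSL2) * vinv x y i' j' l' hxy h' ≠
      ((vinv x y i' j' l' hxy h' : SL2) : PSL2) * vinv x y i j l hxy h := by
  intro e
  rcases comm_sign e with e' | e'
  · rw [coe_vinv, coe_vinv, eq_comm, ← sub_eq_zero, vmat_mul_sub _ _ _ _ _ _ hxy, smul_eq_zero] at e'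
    obtain ⟨h1, h3, h5⟩ := vmat_eq_zero h2 hxy (e'.resolve_left h2)
    simp [h1, h3, h5] at hc
  · have ht := congrArg Matrix.trace e'
    rw [Matrix.trace_neg, Matrix.trace_mul_comm, coe_vinv, coe_vinv, trace_vmat_mul _ _ _ _ _ _ hxy] at ht
    exact mul_ne_zero h2 (mul_ne_zero h2 hd) (by linear_combination -ht)

end Model

section Finite

variable [Fintype F] (p : ℕ) [hp : Fact p.Prime] [CharP F p]

omit hp [CharP F p] in
open Polynomial in
theorem exists_xy (h2 : (2 : F) ≠ 0) : ∃ x y : F, x * x + y * y = -1 := by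
  obtain ⟨x, y, h⟩ := FiniteField.exists_root_sum_quadratic (R := F)
    (f := C 1 * X ^ 2 + C 0 * X + C 0) (g := C 1 * X ^ 2 + C 0 * X + C 1)
    (degree_quadratic one_ne_zero) (degree_quadratic one_ne_zero)
    (FiniteField.odd_card_of_char_ne_two (fun hc => h2 (by
      have := ringChar.Nat.cast_ringChar (R := F)
      rw [hc] at this
      exact_mod_cast this)))
  refine ⟨x, y, ?_⟩
  simp at h
  linear_combination h

omit hp [CharP F p] in
theorem exists_unit_pair (h2 : (2 : F) ≠ 0) (h7 : 7 ≤ Fintype.card F) :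
    ∃ α β : F, α * α + β * β = 1 ∧ α ≠ 0 ∧ β ≠ 0 := by
  classical
  let P : Polynomial F := Polynomial.X * (Polynomial.X ^ 4 - Polynomial.C 1)
  have hdeg : P.natDegree = 5 := by
    rw [Polynomial.natDegree_mul Polynomial.X_ne_zero (Polynomial.X_pow_sub_C_ne_zero (by norm_num) 1),
      Polynomial.natDegree_X, Polynomial.natDegree_X_pow_sub_C]
  have hP0 : P ≠ 0 := fun e => by rw [e] at hdeg; simp at hdeg
  obtain ⟨t, ht⟩ : ∃ t : F, t ∉ P.roots.toFinset := by
    by_contra hall
    push Not at hall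
    have h1 := Finset.card_le_card (fun t _ => hall t : (Finset.univ : Finset F) ⊆ P.roots.toFinset)
    have h3 := (Multiset.toFinset_card_le P.roots).trans (Polynomial.card_roots' P)
    rw [Finset.card_univ] at h1
    omega
  rw [Multiset.mem_toFinset, Polynomial.mem_roots hP0] at ht
  simp [P] at ht
  obtain ⟨ht0, ht4⟩ := ht
  have hd : 1 + t * t ≠ 0 := fun e => ht4 (by linear_combination (t * t - 1) * e)
  have hn : 1 - t * t ≠ 0 := fun e => ht4 (by linear_combination (-(t * t) - 1) * e)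
  refine ⟨(1 - t * t) / (1 + t * t), 2 * t / (1 + t * t), ?_, div_ne_zero hn hd,
    div_ne_zero (mul_ne_zero h2 ht0) hd⟩
  rw [div_mul_div_comm, div_mul_div_comm, ← add_div, div_eq_one_iff_eq (mul_ne_zero hd hd)]
  ring

/-- Centralisers of involutions. -/
theorem not_isBinary_centralizer (hp2 : p ≠ 2) (h7 : 7 ≤ Fintype.card F) {H : Subgroup PSL2}
    {z : PSL2} (hz : z * z = 1) (hz1 : z ≠ 1) (hH : ∀ g, g ∈ H ↔ g * z = z * g) :
    ¬ IsBinary H := by
  classical
  have h2 : (2 : F) ≠ 0 := DicksonId.two_ne_zero_of_char (p := p) hp2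
  obtain ⟨x, y, hxy⟩ := exists_xy h2
  obtain ⟨α, β, hαβ, hα, hβ⟩ := exists_unit_pair h2 h7
  have hex : ∃ n, 0 < n ∧ ¬ ∃ r : F, r ≠ 0 ∧ 1 - (β * β) ^ n = r * r := by
    refine ⟨Fintype.card F - 1, by omega, ?_⟩
    rintro ⟨r, hr, e⟩
    rw [FiniteField.pow_card_sub_one_eq_one _ (mul_ne_zero hβ hβ), sub_self] at e
    exact hr (mul_self_eq_zero.mp e.symm)
  obtain ⟨hn0, hnsq⟩ := Nat.find_spec hex
  obtain ⟨m, hm⟩ : ∃ m, Nat.find hex = m + 1 := ⟨Nat.find hex - 1, by omega⟩
  rw [hm] at hnsq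
  have hm0 : 0 < m := by
    rcases Nat.eq_zero_or_pos m with e | e
    · exfalso
      apply hnsq
      refine ⟨α, hα, ?_⟩
      rw [e]
      linear_combination -hαβ
    · exact e
  obtain ⟨γ, hγ, hγe⟩ : ∃ r : F, r ≠ 0 ∧ 1 - (β * β) ^ m = r * r := by
    by_contra h
    exact Nat.find_min hex (m := m) (by omega) ⟨hm0, h⟩
  have hδ : γ * γ + β ^ m * β ^ m = 1 := by
    rw [← mul_pow]; linear_combination -hγe
  set δ := β ^ m with hδdef
  have hδ0 : δ ≠ 0 := pow_ne_zero _ hβ
  let V := fun i j l (h : i * i + j * j + l * l = (1 : F)) => ((vinv x y i j l hxy h : SL2) : PSL2)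
  have e1 : (1 : F) * 1 + 0 * 0 + 0 * 0 = 1 := by ring
  have e2 : (0 : F) * 0 + 1 * 1 + 0 * 0 = 1 := by ring
  have e3 : (0 : F) * 0 + 0 * 0 + 1 * 1 = 1 := by ring
  have ea : (0 : F) * 0 + α * α + β * β = 1 := by linear_combination hαβ
  have eb : γ * γ + 0 * 0 + δ * δ = 1 := by linear_combination hδ
  have ec : α * α + β * β + 0 * 0 = 1 := by linear_combination hαβ
  have hone : ∀ i j l (h : i * i + j * j + l * l = (1 : F)), V i j l h ≠ 1 := fun i j l h e => by
    obtain ⟨c, hc⟩ := (DicksonFull.mem_center_iff_smul _).mp ((QuotientGroup.eq_one_iff _).mp e)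
    have hc0 : c = 0 := by
      have := congrArg Matrix.trace hc
      rw [trace_vinv, Matrix.trace_smul, Matrix.trace_one, smul_eq_mul] at this
      simpa [h2] using this
    rw [hc0, zero_smul, coe_vinv] at hc
    obtain ⟨rfl, rfl, rfl⟩ := vmat_eq_zero h2 hxy hc
    simp at h
  have hsq : ∀ i j l (h : i * i + j * j + l * l = (1 : F)), V i j l h * V i j l h = 1 :=
    fun i j l h => mul_self_of_trace (trace_vinv x y i j l hxy h)
  have conjTo : ∀ i j l (h : i * i + j * j + l * l = (1 : F)),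
      ∃ P : PSL2, ∀ g, P⁻¹ * g * P ∈ H ↔ g * V i j l h = V i j l h * g := by
    intro i j l h
    obtain ⟨P, hP⟩ := exists_conj_involution (p := p) hp2 hz hz1 (hsq i j l h) (hone i j l h)
    refine ⟨P, fun g => ?_⟩
    rw [hH, ← hP]
    constructor <;> intro e
    · calc g * (P * z * P⁻¹) = P * (P⁻¹ * g * P * z) * P⁻¹ := by group
        _ = P * z * P⁻¹ * g := by rw [e]; group
    · calc P⁻¹ * g * P * z = P⁻¹ * (g * (P * z * P⁻¹)) * P := by group
        _ = z * (P⁻¹ * g * P) := by rw [e]; group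
  obtain ⟨P, hP⟩ := conjTo _ _ _ ea
  obtain ⟨Q, hQ⟩ := conjTo _ _ _ eb
  obtain ⟨R, hR⟩ := conjTo _ _ _ ec
  have hperp : V 1 0 0 e1 * V 0 1 0 e2 = V 0 0 1 e3 := by
    refine DicksonId.mk_eq_of_smul (c := 1) ?_
    rw [one_smul, Matrix.SpecialLinearGroup.coe_mul, coe_vinv, coe_vinv, coe_vinv]
    ext i j
    fin_cases i <;> fin_cases j <;> simp [vmat, Matrix.mul_apply, Fin.sum_univ_two]
  refine not_isBinary_of_triangle ⟨P, trivial, Q, trivial, R, trivial, V 1 0 0 e1, V 0 1 0 e2,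
    (hP _).mpr (vinv_commute hxy e1 ea (by ring)), (hQ _).mpr (vinv_commute hxy e2 eb (by ring)),
    (hR _).mpr ?_, fun g hgA hgB hgC => ?_⟩
  · rw [inv_eq_of_mul_eq_one_right (hsq _ _ _ e1), hperp]
    exact vinv_commute hxy e3 ec (by ring)
  obtain ⟨G, rfl⟩ := QuotientGroup.mk_surjective g
  have hg : (G : PSL2) = 1 := by
    have hτ : Matrix.trace (((vinv x y 0 α β hxy ea : SL2) : M2) *
        ((vinv x y γ 0 δ hxy eb : SL2) : M2)) = -2 * (β * δ) := by
      rw [coe_vinv, coe_vinv, trace_vmat_mul _ _ _ _ _ _ hxy]; ring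
    refine eq_one_of_commute_pair h2 (trace_vinv x y 0 α β hxy ea) (trace_vinv x y γ 0 δ hxy eb)
      ?_ ?_ ?_ ((hP _).mp hgA) ((hQ _).mp hgB)
    · intro e
      rw [coe_vinv, coe_vinv, ← sub_eq_zero, vmat_mul_sub _ _ _ _ _ _ hxy, smul_eq_zero] at e
      obtain ⟨h1, -, -⟩ := vmat_eq_zero h2 hxy (e.resolve_left h2)
      simp [hα, hδ0] at h1
    · rw [hτ]
      exact mul_ne_zero (neg_ne_zero.mpr h2) (mul_ne_zero hβ hδ0)
    · intro l hl
      rw [hτ] at hl
      have hl0 : l ≠ 0 := fun e => by rw [e] at hl; simp at hl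
      refine hnsq ⟨1 / (2 * l), div_ne_zero one_ne_zero (mul_ne_zero h2 hl0), ?_⟩
      rw [pow_succ, show (β * β) ^ m = δ * δ by rw [hδdef, mul_pow]]
      field_simp
      linear_combination hl
  rw [hg, inv_one, one_mul] at hgC
  exact vinv_not_commute hxy h2 e1 ec (by simpa using hα) (Or.inr (Or.inr (by simpa using hβ)))
    ((hR _).mp hgC)

/-- Dihedral groups with rotation subgroup of even order, not the full torus normaliser. -/
theorem not_isBinary_dihedral_even (hp2 : p ≠ 2) {H : Subgroup PSL2} {x z c : PSL2} (hxH : x ∈ H)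
    (hx2 : x * x ≠ 1) (hzH : z ∈ H) (hz : z * z = 1) (hz1 : z ≠ 1) (hzc : ∀ y ∈ H, y * z = z * y)
    (hH : ∀ y ∈ H, y * x = x * y ∨ (y * y = 1 ∧ y * x * y⁻¹ = x⁻¹))
    (hc : c * x * c⁻¹ = x⁻¹) (hcH : c ∉ H) : ¬ IsBinary H := by
  have hc2 : c * c = 1 := mul_self_of_inverts hx2 hc
  have hcxinv : c * x * c = x⁻¹ := by
    rw [← hc]; congr 1; exact (inv_eq_of_mul_eq_one_right hc2).symm
  have hb2 : x * c * (x * c) = 1 := by
    rw [show x * c * (x * c) = x * (c * x * c) by group, hcxinv, mul_inv_cancel]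
  have hb1 : x * c ≠ 1 := fun e => hcH (by rw [eq_inv_of_mul_eq_one_right e]; exact H.inv_mem hxH)
  have hc1 : c ≠ 1 := fun e => hcH (e ▸ H.one_mem)
  obtain ⟨R, hR⟩ := exists_conj_involution (p := p) hp2 hz hz1 hb2 hb1
  obtain ⟨Q, hQ⟩ := exists_conj_involution (p := p) hp2 hz hz1 hc2 hc1
  have hconj : ∀ S g : PSL2, S⁻¹ * g * S ∈ H → g * (S * z * S⁻¹) = S * z * S⁻¹ * g := fun S g h => by
    calc g * (S * z * S⁻¹) = S * (S⁻¹ * g * S * z) * S⁻¹ := by group
      _ = S * (z * (S⁻¹ * g * S)) * S⁻¹ := by rw [hzc _ h]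
      _ = S * z * S⁻¹ * g := by group
  refine not_isBinary_of_triangle ⟨1, trivial, R, trivial, Q, trivial, x, x * c,
    by simpa using hxH, ?_, ?_, fun g hgA hgB hgC => ?_⟩
  · rwa [← hR, show R⁻¹ * (R * z * R⁻¹) * R = z by group]
  · rwa [inv_mul_cancel_left, ← hQ, show Q⁻¹ * (Q * z * Q⁻¹) * Q = z by group]
  have hgH : g ∈ H := by simpa using hgA
  have hgb := hconj R g hgB
  rw [hR] at hgb
  have hsc := hconj Q _ hgC
  rw [hQ] at hsc
  set s := g⁻¹ * x with hs
  have hsH : s ∈ H := H.mul_mem (H.inv_mem hgH) hxH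
  rcases hH s hsH with hsx | ⟨hs2, hsx⟩
  · -- `g` commutes with `x` and with `c`
    have hgx : g * x = x * g := by
      have hgs : g = x * s⁻¹ := by rw [hs]; group
      rw [hgs]
      calc x * s⁻¹ * x = x * (s⁻¹ * x) := by group
        _ = x * (x * s⁻¹) := by rw [(Commute.inv_left (show Commute s x from hsx)).eq]
    have hgc : g * c = c * g := by
      calc g * c = g * x⁻¹ * (x * c) := by group
        _ = x⁻¹ * (g * (x * c)) := by
          rw [(Commute.inv_right (show Commute g x from hgx)).eq]; group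
        _ = c * g := by rw [hgb]; group
    have hxc : x * c = c * x := by
      have hx' : x = g * s := by rw [hs]; group
      rw [hx']
      calc g * s * c = g * (s * c) := by group
        _ = g * (c * s) := by rw [hsc]
        _ = (g * c) * s := by group
        _ = c * (g * s) := by rw [hgc]; group
    rw [← hxc, mul_inv_cancel_right] at hc
    exact hx2 (by nth_rw 2 [hc]; exact mul_inv_cancel x)
  · have hw : s * c * (s * c) = 1 := by
      calc s * c * (s * c) = s * (c * s) * c := by group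
        _ = s * s * (c * c) := by rw [← hsc]; group
        _ = 1 := by rw [hs2, hc2, one_mul]
    have hwx : s * c * x = x * (s * c) := by
      calc s * c * x = s * (c * x * c⁻¹) * c := by group
        _ = (s * x * s⁻¹)⁻¹ * (s * c) := by rw [hc]; group
        _ = x * (s * c) := by rw [hsx, inv_inv]
    by_cases hw1 : s * c = 1
    · exact hcH (by rw [eq_inv_of_mul_eq_one_right hw1]; exact H.inv_mem hsH)
    · have := involution_unique hx2 hw hw1 hz hz1 hwx (hzc x hxH).symm
      exact hcH (by rw [show c = s⁻¹ * z by rw [← this]; group]; exact H.mul_mem (H.inv_mem hsH) hzH)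

/-- A full list of inverters forces the centraliser of the involution. -/
theorem mem_iff_commute {H : Subgroup PSL2} {x z r : PSL2} (hxp : x ^ p ≠ 1)
    (hx2 : x * x ≠ 1) (hzH : z ∈ H) (hz : z * z = 1) (hz1 : z ≠ 1) (hzc : ∀ y ∈ H, y * z = z * y)
    (hxH : x ∈ H) (hrH : r ∈ H) (hr : r * x * r⁻¹ = x⁻¹)
    (hfull : ∀ c : PSL2, c * x * c⁻¹ = x⁻¹ → c ∈ H) (g : PSL2) : g ∈ H ↔ g * z = z * g := by
  refine ⟨hzc g, fun hg => ?_⟩
  rcases inverts_of_commute p hx2 hxp hz1 (hzc x hxH).symm hg.symm with h | h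
  · have h' : (g * r) * x * (g * r)⁻¹ = x⁻¹ := by
      calc (g * r) * x * (g * r)⁻¹ = g * (r * x * r⁻¹) * g⁻¹ := by group
        _ = (g * x * g⁻¹)⁻¹ := by rw [hr]; group
        _ = x⁻¹ := by rw [h]
    have := H.mul_mem (hfull _ h') (H.inv_mem hrH)
    rwa [mul_inv_cancel_right] at this
  · exact hfull g h

/-- Groups of order two. -/
theorem not_isBinary_two (hp2 : p ≠ 2) {H : Subgroup PSL2} {z : PSL2} (hz : z * z = 1) (hz1 : z ≠ 1)
    (hH : ∀ g, g ∈ H ↔ g = 1 ∨ g = z) : ¬ IsBinary H := by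
  have h2 : (2 : F) ≠ 0 := DicksonId.two_ne_zero_of_char (p := p) hp2
  obtain ⟨x, y, hxy⟩ := exists_xy h2
  have e1 : (1 : F) * 1 + 0 * 0 + 0 * 0 = 1 := by ring
  have e2 : (0 : F) * 0 + 1 * 1 + 0 * 0 = 1 := by ring
  set A := (vinv x y 1 0 0 hxy e1 : SL2)
  set B := (vinv x y 0 1 0 hxy e2 : SL2)
  have hA1 : (A : PSL2) ≠ 1 := fun e => by
    obtain ⟨h01, h10, h00⟩ := exists_diag_sign e
    simp [A, coe_vinv, vmat] at h01
  have hB1 : (B : PSL2) ≠ 1 := fun e => by
    obtain ⟨h01, -, h00⟩ := exists_diag_sign e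
    simp [B, coe_vinv, vmat] at h01 h00
    have hx0 : x = 0 := (mul_eq_zero.mp (show 2 * x = 0 by linear_combination h00)).resolve_left h2
    simp [h01, hx0] at hxy
  have hA2 : (A : PSL2) * A = 1 := mul_self_of_trace (trace_vinv x y _ _ _ hxy e1)
  have hB2 : (B : PSL2) * B = 1 := mul_self_of_trace (trace_vinv x y _ _ _ hxy e2)
  have hne : (A : PSL2) ≠ (B : PSL2) := fun e => by
    obtain ⟨c, -, hc⟩ := exists_sign e
    have h10 := congrFun (congrFun hc 1) 0
    have h01 := congrFun (congrFun hc 0) 1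
    simp [A, B, coe_vinv, vmat] at h10 h01
    have : c = 0 := (mul_eq_zero.mp (show 2 * c = 0 by linear_combination h01 - h10)).resolve_left h2
    have h00 := congrFun (congrFun hc 0) 0
    simp [A, B, coe_vinv, vmat] at h00
    rw [this] at h01
    simp [h00] at hxy
    simp at h01
    simp [h01] at hxy
  have hcom : (A : PSL2) * B = (B : PSL2) * A := vinv_commute hxy e1 e2 (by ring)
  have hab1 : (A : PSL2) * B ≠ 1 := fun e => hne ((eq_inv_of_mul_eq_one_left e).trans
    (inv_eq_of_mul_eq_one_right hB2))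
  have hab2 : (A : PSL2) * B * ((A : PSL2) * B) = 1 := by
    calc (A : PSL2) * B * (A * B) = A * (B * A) * B := by group
      _ = (A * A) * (B * B) := by rw [← hcom]; group
      _ = 1 := by rw [hA2, hB2, one_mul]
  have conjTo : ∀ a : PSL2, a * a = 1 → a ≠ 1 → ∃ P : PSL2, ∀ g, P⁻¹ * g * P ∈ H ↔ g = 1 ∨ g = a := by
    intro a ha ha1
    obtain ⟨P, hP⟩ := exists_conj_involution (p := p) hp2 hz hz1 ha ha1
    refine ⟨P, fun g => ?_⟩
    rw [hH]
    constructor <;> rintro (e | e)
    · left; calc g = P * (P⁻¹ * g * P) * P⁻¹ := by group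
        _ = 1 := by rw [e]; group
    · right; rw [← hP, ← e]; group
    · left; rw [e]; group
    · right; rw [e, ← hP]; group
  obtain ⟨P, hP⟩ := conjTo _ hA2 hA1
  obtain ⟨Q, hQ⟩ := conjTo _ hB2 hB1
  obtain ⟨R, hR⟩ := conjTo _ hab2 hab1
  refine not_isBinary_of_triangle ⟨P, trivial, Q, trivial, R, trivial, (A : PSL2), (B : PSL2),
    (hP _).mpr (Or.inr rfl), (hQ _).mpr (Or.inr rfl), (hR _).mpr (Or.inr ?_), fun g hgA hgB hgC => ?_⟩
  · rw [inv_eq_of_mul_eq_one_right hA2]
  rcases (hP _).mp hgA with rfl | rfl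
  · rw [inv_one, one_mul] at hgC
    rcases (hR _).mp hgC with e | e
    · exact hA1 e
    · exact hB1 (mul_eq_left.mp e.symm)
  · rcases (hQ _).mp hgB with e | e
    · exact hA1 e
    · exact hne e

/-- Four groups. -/
theorem not_isBinary_four (hp2 : p ≠ 2) (h7 : 7 ≤ Fintype.card F) {H : Subgroup PSL2}
    {z : PSL2} (hzH : z ∈ H) (hz1 : z ≠ 1) (hcard : Nat.card H ≤ 4)
    (hinv : ∀ g ∈ H, g * g = 1) : ¬ IsBinary H := by
  classical
  have h2 : (2 : F) ≠ 0 := DicksonId.two_ne_zero_of_char (p := p) hp2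
  by_cases hH2 : ∀ g, g ∈ H ↔ g = 1 ∨ g = z
  · exact not_isBinary_two p hp2 (hinv z hzH) hz1 hH2
  obtain ⟨w, hwH, hw1, hwz⟩ : ∃ w ∈ H, w ≠ 1 ∧ w ≠ z := by
    by_contra hall
    push Not at hall
    refine hH2 fun g => ⟨fun h => or_iff_not_imp_left.mpr (hall g h), ?_⟩
    rintro (rfl | rfl)
    · exact H.one_mem
    · exact hzH
  have hz := hinv z hzH
  have hw := hinv w hwH
  -- the group is `{1, z, w, z w}`
  have hzw : z * w = w * z := by
    have := hinv _ (H.mul_mem hzH hwH)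
    calc z * w = (z * w)⁻¹ := (inv_eq_of_mul_eq_one_right this).symm
      _ = w * z := by rw [_root_.mul_inv_rev, inv_eq_of_mul_eq_one_right hw, inv_eq_of_mul_eq_one_right hz]
  have helts : ∀ g ∈ H, g = 1 ∨ g = z ∨ g = w ∨ g = z * w := by
    intro g hg
    refine mem_four_of_commute h2 hz hz1 hw hw1 hzw hwz.symm ?_ ?_
    · have := hinv _ (H.mul_mem hg hzH)
      calc g * z = (g * z)⁻¹ := (inv_eq_of_mul_eq_one_right this).symm
        _ = z * g := by rw [_root_.mul_inv_rev, inv_eq_of_mul_eq_one_right hz, inv_eq_of_mul_eq_one_right (hinv g hg)]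
    · have := hinv _ (H.mul_mem hg hwH)
      calc g * w = (g * w)⁻¹ := (inv_eq_of_mul_eq_one_right this).symm
        _ = w * g := by rw [_root_.mul_inv_rev, inv_eq_of_mul_eq_one_right hw, inv_eq_of_mul_eq_one_right (hinv g hg)]
  let In := fun (P g : PSL2) => P⁻¹ * g * P ∈ H
  have conjTo : ∀ a : PSL2, a * a = 1 → a ≠ 1 → ∃ P, In P a := fun a ha ha1 => by
    obtain ⟨P, hP⟩ := exists_conj_involution (p := p) hp2 hz hz1 ha ha1
    exact ⟨P, by show P⁻¹ * a * P ∈ H; rwa [← hP, show P⁻¹ * (P * z * P⁻¹) * P = z by group]⟩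
  have hsqIn : ∀ P g, In P g → g * g = 1 := fun P g h => by
    have := hinv _ h
    calc g * g = P * (P⁻¹ * g * P * (P⁻¹ * g * P)) * P⁻¹ := by group
      _ = 1 := by rw [this]; group
  have hcommIn : ∀ P g g', In P g → In P g' → g * g' = g' * g := fun P g g' h h' => by
    have e : (g * g') * (g * g') = 1 := hsqIn P _ (by
      show P⁻¹ * (g * g') * P ∈ H
      have := H.mul_mem h h'
      rwa [show P⁻¹ * g * P * (P⁻¹ * g' * P) = P⁻¹ * (g * g') * P by group] at this)
    calc g * g' = (g * g')⁻¹ := (inv_eq_of_mul_eq_one_right e).symm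
      _ = g' * g := by
        rw [_root_.mul_inv_rev, inv_eq_of_mul_eq_one_right (hsqIn P g h), inv_eq_of_mul_eq_one_right (hsqIn P g' h')]
  -- three conjugates, each containing one member of a four group
  suffices h : ∃ a b : PSL2, a * a = 1 ∧ a ≠ 1 ∧ b * b = 1 ∧ b ≠ 1 ∧ a * b = b * a ∧ a ≠ b ∧
      ∃ P Q R : PSL2, In P a ∧ In Q b ∧ In R (a * b) ∧ ¬ In P b ∧ ¬ In Q a ∧ ¬ In R a by
    obtain ⟨a, b, ha, ha1, hb, hb1, hab, hne, P, Q, R, hPa, hQb, hRc, hPb, hQa, hRa⟩ := h
    refine not_isBinary_of_triangle ⟨P, trivial, Q, trivial, R, trivial, a, b, hPa, hQb, ?_,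
      fun g hgA hgB hgC => ?_⟩
    · rw [inv_eq_of_mul_eq_one_right ha]; exact hRc
    have hg := mem_four_of_commute h2 ha ha1 hb hb1 hab hne (hcommIn P g a hgA hPa)
      (hcommIn Q g b hgB hQb)
    rcases hg with rfl | rfl | rfl | rfl
    · rw [inv_one, one_mul] at hgC; exact hRa hgC
    · exact hQa hgB
    · exact hPb hgA
    · refine hPb ?_
      have := H.mul_mem hPa hgA
      rwa [show P⁻¹ * a * P * (P⁻¹ * (a * b) * P) = P⁻¹ * (a * a * b) * P by group, ha, one_mul] at this
  by_cases huniq : ∀ P : PSL2, In P z → ∀ g, In P g → g ∈ H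
  · -- the conjugate through an involution is unique
    have huniq' : ∀ (a : PSL2), a * a = 1 → a ≠ 1 → ∀ P Q, In P a → In Q a → ∀ g, In Q g → In P g := by
      intro a ha ha1 P Q hP hQ g hg
      obtain ⟨T, hT⟩ := exists_conj_involution (p := p) hp2 hz hz1 ha ha1
      have hback : ∀ S, In S a → In (T⁻¹ * S) z := fun S h => by
        show (T⁻¹ * S)⁻¹ * z * (T⁻¹ * S) ∈ H
        rwa [show (T⁻¹ * S)⁻¹ * z * (T⁻¹ * S) = S⁻¹ * (T * z * T⁻¹) * S by group, hT]
      have h1 : T⁻¹ * g * T ∈ H := huniq (T⁻¹ * Q) (hback Q hQ) _ (by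
        show (T⁻¹ * Q)⁻¹ * (T⁻¹ * g * T) * (T⁻¹ * Q) ∈ H
        rwa [show (T⁻¹ * Q)⁻¹ * (T⁻¹ * g * T) * (T⁻¹ * Q) = Q⁻¹ * g * Q by group])
      -- the same group, seen from `P`
      set S := T⁻¹ * P with hS
      have hmaps : Set.MapsTo (fun u => S * u * S⁻¹) (H : Set PSL2) (H : Set PSL2) := fun u hu =>
        huniq S (hback P hP) _ (by
          show S⁻¹ * (S * u * S⁻¹) * S ∈ H
          rwa [show S⁻¹ * (S * u * S⁻¹) * S = u by group])
      haveI : Finite PSL2 := inferInstance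
      obtain ⟨u, hu, hue⟩ := (Finite.injective_iff_surjective.mp (hmaps.restrict_inj.mpr
        (fun _ _ _ _ e => mul_left_cancel (mul_right_cancel e)))) ⟨_, h1⟩ |>
          fun ⟨u, hu⟩ => (⟨u.1, u.2, congrArg Subtype.val hu⟩ : ∃ v, v ∈ H ∧ S * v * S⁻¹ = T⁻¹ * g * T)
      show P⁻¹ * g * P ∈ H
      rwa [show P⁻¹ * g * P = S⁻¹ * (T⁻¹ * g * T) * S by rw [hS]; group, ← hue,
        show S⁻¹ * (S * u * S⁻¹) * S = u by group]
    -- an involution commuting with `z` outside `H`
    obtain ⟨x, y, hxy⟩ := exists_xy h2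
    obtain ⟨α, β, hαβ, hα, hβ⟩ := exists_unit_pair h2 h7
    have e1 : (1 : F) * 1 + 0 * 0 + 0 * 0 = 1 := by ring
    have e2 : (0 : F) * 0 + 1 * 1 + 0 * 0 = 1 := by ring
    have e4 : (0 : F) * 0 + α * α + β * β = 1 := by linear_combination hαβ
    have hone : ∀ i j l (h : i * i + j * j + l * l = (1 : F)),
        ((vinv x y i j l hxy h : SL2) : PSL2) ≠ 1 := fun i j l h e => by
      obtain ⟨c, hc⟩ := (DicksonFull.mem_center_iff_smul _).mp ((QuotientGroup.eq_one_iff _).mp e)
      have hc0 : c = 0 := by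
        have := congrArg Matrix.trace hc
        rw [trace_vinv, Matrix.trace_smul, Matrix.trace_one, smul_eq_mul] at this
        simpa [h2] using this
      rw [hc0, zero_smul, coe_vinv] at hc
      obtain ⟨rfl, rfl, rfl⟩ := vmat_eq_zero h2 hxy hc
      simp at h
    have hsq : ∀ i j l (h : i * i + j * j + l * l = (1 : F)),
        ((vinv x y i j l hxy h : SL2) : PSL2) * (vinv x y i j l hxy h : SL2) = 1 :=
      fun i j l h => mul_self_of_trace (trace_vinv x y i j l hxy h)
    obtain ⟨P, hPa⟩ := conjTo _ (hsq _ _ _ e1) (hone _ _ _ e1)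
    obtain ⟨b, hb, hb1, hab, hPb, hne⟩ : ∃ b : PSL2, b * b = 1 ∧ b ≠ 1 ∧
        ((vinv x y 1 0 0 hxy e1 : SL2) : PSL2) * b = b * ((vinv x y 1 0 0 hxy e1 : SL2) : PSL2) ∧
        ¬ In P b ∧ ((vinv x y 1 0 0 hxy e1 : SL2) : PSL2) ≠ b := by
      have hne : ∀ j l (h : (0 : F) * 0 + j * j + l * l = 1),
          ((vinv x y 1 0 0 hxy e1 : SL2) : PSL2) ≠ ((vinv x y 0 j l hxy h : SL2) : PSL2) := by
        intro j l h e
        obtain ⟨c, -, hc⟩ := exists_sign e
        have e0 : vmat x y (-c) j l = 0 := by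
          rw [coe_vinv, coe_vinv] at hc
          have : vmat x y (-c) j l = vmat x y 0 j l - c • vmat x y 1 0 0 := by
            ext r s; fin_cases r <;> fin_cases s <;> simp [vmat] <;> ring
          rw [this, hc, sub_self]
        obtain ⟨-, rfl, rfl⟩ := vmat_eq_zero h2 hxy e0
        simp at h
      by_cases hJ : In P ((vinv x y 0 1 0 hxy e2 : SL2) : PSL2)
      · refine ⟨_, hsq _ _ _ e4, hone _ _ _ e4, vinv_commute hxy e1 e4 (by ring), fun hb => ?_, hne _ _ e4⟩
        exact vinv_not_commute hxy h2 e2 e4 (by simpa using hα) (Or.inl (by simpa using hβ))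
          (hcommIn P _ _ hJ hb)
      · exact ⟨_, hsq _ _ _ e2, hone _ _ _ e2, vinv_commute hxy e1 e2 (by ring), hJ, hne _ _ e2⟩
    set a := ((vinv x y 1 0 0 hxy e1 : SL2) : PSL2)
    have ha := hsq _ _ _ e1
    have ha1 := hone _ _ _ e1
    have hab1 : a * b ≠ 1 := fun e => hne ((eq_inv_of_mul_eq_one_left e).trans
      (inv_eq_of_mul_eq_one_right hb))
    have hab2 : a * b * (a * b) = 1 := by
      calc a * b * (a * b) = a * (b * a) * b := by group
        _ = (a * a) * (b * b) := by rw [← hab]; group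
        _ = 1 := by rw [ha, hb, one_mul]
    obtain ⟨Q, hQb⟩ := conjTo b hb hb1
    obtain ⟨R, hRc⟩ := conjTo _ hab2 hab1
    refine ⟨a, b, ha, ha1, hb, hb1, hab, hne, P, Q, R, hPa, hQb, hRc, hPb, fun h => ?_, fun h => ?_⟩
    · exact hPb (huniq' a ha ha1 P Q hPa h b hQb)
    · refine hPb (huniq' a ha ha1 P R hPa h b ?_)
      have := H.mul_mem h hRc
      rwa [show R⁻¹ * a * R * (R⁻¹ * (a * b) * R) = R⁻¹ * (a * a * b) * R by group, ha, one_mul] at this
  · -- every involution lies in a conjugate avoiding the other two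
    push Not at huniq
    obtain ⟨P₀, hP₀, g₀, hg₀, hg₀H⟩ := huniq
    have hzw2 : z * w * (z * w) = 1 := hinv _ (H.mul_mem hzH hwH)
    have hzw1 : z * w ≠ 1 := fun e => hwz (by
      rw [eq_inv_of_mul_eq_one_right e, inv_eq_of_mul_eq_one_right hz])
    -- a second conjugate through any involution of `H`
    have other : ∀ a ∈ H, a ≠ 1 → ∃ P, In P a ∧ ∀ b ∈ H, In P b → b = 1 ∨ b = a := by
      intro a haH ha1
      obtain ⟨T, hT⟩ := exists_conj_involution (p := p) hp2 hz hz1 (hinv a haH) ha1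
      -- either `T H T⁻¹` or `T P₀ H P₀⁻¹ T⁻¹` differs from `H`
      obtain ⟨P, hPa, g, hg, hgH⟩ : ∃ P, In P a ∧ ∃ g, In P g ∧ g ∉ H := by
        by_cases hT' : ∀ g, In T g → g ∈ H
        · refine ⟨T * P₀, ?_, T * g₀ * T⁻¹, ?_, fun hh => hg₀H ?_⟩
          · show (T * P₀)⁻¹ * a * (T * P₀) ∈ H
            rwa [← hT, show (T * P₀)⁻¹ * (T * z * T⁻¹) * (T * P₀) = P₀⁻¹ * z * P₀ by group]
          · show (T * P₀)⁻¹ * (T * g₀ * T⁻¹) * (T * P₀) ∈ H
            rwa [show (T * P₀)⁻¹ * (T * g₀ * T⁻¹) * (T * P₀) = P₀⁻¹ * g₀ * P₀ by group]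
          · have hmaps : Set.MapsTo (fun u => T * u * T⁻¹) (H : Set PSL2) (H : Set PSL2) := fun u hu =>
              hT' _ (by show T⁻¹ * (T * u * T⁻¹) * T ∈ H; rwa [show T⁻¹ * (T * u * T⁻¹) * T = u by group])
            obtain ⟨⟨u, hu⟩, hue⟩ := Finite.injective_iff_surjective.mp (hmaps.restrict_inj.mpr
              (fun _ _ _ _ e => mul_left_cancel (mul_right_cancel e))) ⟨_, hh⟩
            have hue' : T * u * T⁻¹ = T * g₀ * T⁻¹ := congrArg Subtype.val hue
            rwa [← mul_left_cancel (mul_right_cancel hue')]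
        · push Not at hT'
          refine ⟨T, ?_, hT'⟩
          show T⁻¹ * a * T ∈ H
          rwa [← hT, show T⁻¹ * (T * z * T⁻¹) * T = z by group]
      refine ⟨P, hPa, fun b hb hPb => ?_⟩
      by_contra hcon
      push Not at hcon
      have hab : a * b = b * a := hcommIn P a b hPa hPb
      refine hgH ?_
      rcases mem_four_of_commute h2 (hinv a haH) ha1 (hinv b hb) hcon.1 hab hcon.2.symm
        (hcommIn P g a hg hPa) (hcommIn P g b hg hPb) with e | e | e | e <;> rw [e]
      · exact H.one_mem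
      · exact haH
      · exact hb
      · exact H.mul_mem haH hb
    obtain ⟨P, hPa, hP⟩ := other z hzH hz1
    obtain ⟨Q, hQb, hQ⟩ := other w hwH hw1
    obtain ⟨R, hRc, hR⟩ := other _ (H.mul_mem hzH hwH) hzw1
    refine ⟨z, w, hz, hz1, hw, hw1, hzw, hwz.symm, P, Q, R, hPa, hQb, hRc, fun h => ?_, fun h => ?_,
      fun h => ?_⟩
    · exact (hP w hwH h).elim hw1 hwz
    · exact (hQ z hzH h).elim hz1 hwz.symm
    · refine (hR z hzH h).elim hz1 fun e => hw1 ?_
      exact mul_eq_left.mp e.symm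

end Finite

end Cfsg.Agent.Lib.BinaryPSL2
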