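import Cfsg.Agent.Lib.BinaryPSL2.Inverters

/-!
Triangles for cyclic groups and for dihedral groups with odd rotation subgroup.
-/

set_option autoImplicit false

namespace Cfsg.Agent.Lib.BinaryPSL2

open Matrix Cfsg.Agent.Lib.Linear
open Cfsg.Agent.Lib.DicksonFull (mk_eq_one_of_smul)

variable {F : Type*} [Field F] [Fintype F] (p : ℕ) [hp : Fact p.Prime] [CharP F p]

local notation "SL2" => Matrix.SpecialLinearGroup (Fin 2) F
local notation "M2" => Matrix (Fin 2) (Fin 2) F
local notation "PSL2" => Matrix.ProjectiveSpecialLinearGroup (Fin 2) F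

omit hp [CharP F p] in
/-- A factorisation with prescribed traces. -/
theorem exists_factor_trace {G : SL2} (hG : (G : PSL2) ≠ 1) {t s : F}
    (he : Matrix.trace (G : M2) * Matrix.trace (G : M2) ≠ 4)
    (h : (2 : F) = 0 → s = t ∨ s = 0) :
    ∃ A : SL2, Matrix.trace (A : M2) = t ∧ Matrix.trace ((A⁻¹ * G : SL2) : M2) = s := by
  set e := Matrix.trace (G : M2) with he'
  obtain ⟨a, b, hab⟩ : ∃ a b : F, a ^ 2 - e * a * b + b ^ 2 - t * a + s * b + 1 = 0 := by
    by_cases h2 : (2 : F) = 0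
    · have hc : ringChar F = 2 := by
        have h' : ringChar F ∣ 2 := (CharP.cast_eq_zero_iff F (ringChar F) 2).1 (by exact_mod_cast h2)
        exact (Nat.prime_dvd_prime_iff_eq (CharP.char_is_prime F (ringChar F)) Nat.prime_two).1 h'
      rcases h h2 with rfl | rfl
      · have he0 : e ≠ 0 := fun e0 => he (by linear_combination (e) * e0 - 2 * h2)
        obtain ⟨c, hc'⟩ := FiniteField.isSquare_of_char_two hc e⁻¹
        refine ⟨c, c, ?_⟩
        have : e * (c * c) = 1 := by rw [← hc', mul_inv_cancel₀ he0]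
        linear_combination (-1) * this + c * c * h2
      · exact ⟨0, 1, by linear_combination h2⟩
    · have h4 : (4 : F) ≠ 0 := by
        rw [show (4 : F) = 2 * 2 by norm_num]; exact mul_ne_zero h2 h2
      open Polynomial in
      obtain ⟨u, b, hub⟩ := FiniteField.exists_root_sum_quadratic (R := F)
        (f := C 1 * X ^ 2 + C (-t) * X + C 1) (g := C (1 - e * e / 4) * X ^ 2 + C (s - t * e / 2) * X + C 0)
        (degree_quadratic one_ne_zero) (degree_quadratic (fun h0 => he (by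
          field_simp at h0; linear_combination (-1) * h0)))
        (Nat.odd_iff.mp (Nat.odd_iff.mpr (FiniteField.odd_card_of_char_ne_two (fun hc => h2 (by
          have := ringChar.Nat.cast_ringChar (R := F)
          rw [hc] at this
          exact_mod_cast this)))))
      refine ⟨u + e / 2 * b, b, ?_⟩
      simp at hub
      field_simp at hub ⊢
      apply mul_left_cancel₀ h2
      linear_combination hub
  obtain ⟨A, h1, h2⟩ := SL2Tori.Products.exists_factor (DicksonId.nonScalar_psl hG) (a := a) (b := b)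
    (t := t) (s := s) (by rw [DicksonId.slTr_eq]; exact hab)
  exact ⟨A, by rw [← DicksonId.slTr_eq, h1], by rw [← DicksonId.slTr_eq, h2]⟩

omit hp [CharP F p] [Fintype F] in
theorem eq_of_trace_eq {A B : SL2} (h : (A : PSL2) = (B : PSL2))
    (ht : Matrix.trace (A : M2) = Matrix.trace (B : M2)) (h0 : Matrix.trace (A : M2) ≠ 0) : A = B := by
  obtain ⟨c, -, hc⟩ := exists_sign h
  have h1 := congrArg Matrix.trace hc
  rw [← ht, Matrix.trace_smul, smul_eq_mul] at h1
  have hc1 : c = 1 := mul_right_cancel₀ h0 (by rw [one_mul, ← h1])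
  rw [hc1, one_smul] at hc
  exact (Subtype.ext hc).symm

omit hp [CharP F p] [Fintype F] in
theorem mk_ne_one {A : SL2} (h : Matrix.trace (A : M2) * Matrix.trace (A : M2) ≠ 4) :
    (A : PSL2) ≠ 1 := by
  intro e
  obtain ⟨h01, h10, hd⟩ := exists_diag_sign e
  have := sl2_det A
  rw [Matrix.trace_fin_two] at h
  rw [h01, ← hd] at this
  exact h (by rw [← hd]; linear_combination 4 * this)

/-- Cyclic groups of order above two. -/
theorem not_isBinary_cyclic {H : Subgroup PSL2} {x : PSL2} (hxH : x ∈ H) (hxp : x ^ p ≠ 1)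
    (hx2 : x * x ≠ 1) (hx3 : (2 : F) = 0 → x * x * x ≠ 1) (hH : ∀ y ∈ H, y * x = x * y) :
    ¬ IsBinary H := by
  obtain ⟨X, rfl⟩ := QuotientGroup.mk_surjective x
  set t := Matrix.trace (X : M2) with ht
  have ht0 : t ≠ 0 := trace_ne_zero hx2
  have ht4 := trace_sq_ne_four p hx2 hxp (X := X) rfl
  obtain ⟨s, hs, hs1, hs2⟩ : ∃ s : F, (s = t ∨ s = -t) ∧ s ≠ -1 ∧ ((2 : F) = 0 → s = t ∨ s = 0) := by
    by_cases htm : t = -1
    · by_cases h2 : (2 : F) = 0
      · exfalso
        refine hx3 h2 ?_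
        rw [← QuotientGroup.mk_mul, ← QuotientGroup.mk_mul]
        refine mk_eq_one_of_smul (a := -t) ?_
        have h1 : t * t - 1 = 0 := by rw [htm]; ring
        rw [Matrix.SpecialLinearGroup.coe_mul, Matrix.SpecialLinearGroup.coe_mul, sl2_mul_self, ← ht,
          Matrix.sub_mul, smul_mul_assoc, sl2_mul_self, ← ht, Matrix.one_mul, smul_sub, smul_smul,
          neg_smul, show t * t = 1 by linear_combination h1, one_smul]
        abel
      · refine ⟨-t, Or.inr rfl, fun e => ?_, fun e => absurd e h2⟩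
        rw [htm, neg_neg] at e
        exact h2 (by linear_combination e)
    · exact ⟨t, Or.inl rfl, htm, fun _ => Or.inl rfl⟩
  obtain ⟨A, hA, hC⟩ := exists_factor_trace (G := X) (fun e => hx2 (by rw [e, mul_one])) (t := t) (s := s)
    ht4 hs2
  have hs4 : s * s ≠ 4 := by rcases hs with rfl | rfl <;> simpa using ht4
  obtain ⟨P, hP⟩ := exists_conj (p := p) (B := A) hxp (mk_ne_one (by rw [hA]; exact ht4)) (Or.inl hA)
  obtain ⟨Q, hQ⟩ := exists_conj (p := p) (B := A⁻¹ * X) hxp (mk_ne_one (by rw [hC]; exact hs4))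
    (by rw [hC]; exact hs)
  set a := (A : PSL2)
  set x := (X : PSL2)
  have hcx : ((A⁻¹ * X : SL2) : PSL2) = a⁻¹ * x := rfl
  rw [hcx] at hQ
  have ha2 : a * a ≠ 1 := trace_ne_zero (X := X) hx2 |> fun h => fun e =>
    h (by rw [← ht, ← hA, trace_of_mul_self (mk_ne_one (by rw [hA]; exact ht4)) e])
  have hax : a * x ≠ x * a := by
    intro e
    rcases eq_or_eq_inv p hx2 hxp e P hP with e' | e'
    · refine hs4 ?_
      have hAX : A = X := eq_of_trace_eq e' hA (by rw [hA]; exact ht0)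
      rw [← hC, hAX, inv_mul_cancel]
      simp
      norm_num
    · refine hs1 ?_
      have hAX : A = X⁻¹ := eq_of_trace_eq (by rw [QuotientGroup.mk_inv]; exact e')
        (by rw [trace_inverse, hA]) (by rw [hA]; exact ht0)
      have hCX : s = t * t - 2 := by
        rw [← hC, hAX, inv_inv, Matrix.SpecialLinearGroup.coe_mul, sl2_mul_self, Matrix.trace_sub,
          Matrix.trace_smul, smul_eq_mul, Matrix.trace_one, ← ht]
        simp
      rcases hs with rfl | rfl
      · rcases mul_eq_zero.mp (show (t + 1) * (t - 2) = 0 by linear_combination -hCX) with h' | h'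
        · exact eq_neg_of_add_eq_zero_left h'
        · exact absurd (by linear_combination (t + 2) * h') ht4
      · rcases mul_eq_zero.mp (show (t - 1) * (t + 2) = 0 by linear_combination -hCX) with h' | h'
        · linear_combination -h'
        · exact absurd (by linear_combination (t - 2) * h') ht4
  have hconj : ∀ R y : PSL2, R⁻¹ * y * R ∈ H → y * (R * x * R⁻¹) = R * x * R⁻¹ * y := fun R y hy => by
    calc y * (R * x * R⁻¹) = R * (R⁻¹ * y * R * x) * R⁻¹ := by group
      _ = R * (x * (R⁻¹ * y * R)) * R⁻¹ := by rw [hH _ hy]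
      _ = R * x * R⁻¹ * y := by group
  refine not_isBinary_of_triangle ⟨P, trivial, 1, trivial, Q, trivial, a, x, ?_, by simpa using hxH, ?_,
    fun g hgA hgB hgC => ?_⟩
  · rwa [← hP, show P⁻¹ * (P * x * P⁻¹) * P = x by group]
  · rwa [← hQ, show Q⁻¹ * (Q * x * Q⁻¹) * Q = x by group]
  have hga := hconj P g hgA
  rw [hP] at hga
  have hgx : g * x = x * g := hH g (by simpa using hgB)
  by_cases hg : g = 1
  · subst hg
    have := hconj Q _ hgC
    rw [hQ, inv_one, one_mul, mul_inv_cancel_left] at this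
    refine hax ?_
    calc a * x = a * (a⁻¹ * x * a) := by rw [← this]
      _ = x * a := by group
  · exact hax (comm_of_common hg ha2 hx2 hga hgx)

/-- Dihedral groups with rotation subgroup of odd order. -/
theorem not_isBinary_dihedral_odd {H : Subgroup PSL2} {x r : PSL2} (hxH : x ∈ H) (hxp : x ^ p ≠ 1)
    {k : ℕ} (hk : Odd k) (hxk : x ^ k = 1) (hrH : r ∈ H) (hr : r * r = 1) (hr1 : r ≠ 1)
    (hx3 : (2 : F) = 0 → x * x * x ≠ 1)
    (hH : ∀ y ∈ H, (y * x = x * y ∧ (y * y = 1 → y = 1)) ∨ (y * y = 1 ∧ y * x * y⁻¹ = x⁻¹)) :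
    ¬ IsBinary H := by
  obtain ⟨j, hj⟩ := hk
  have odd_kill : ∀ y : PSL2, y * y = 1 → y ^ k = 1 → y = 1 := fun y h1 h2 => by
    rwa [hj, pow_succ, pow_mul, pow_two, h1, one_pow, one_mul] at h2
  have hx1 : x ≠ 1 := fun e => hxp (by rw [e, one_pow])
  have hx2 : x * x ≠ 1 := fun e => hx1 (odd_kill x e hxk)
  obtain ⟨X, rfl⟩ := QuotientGroup.mk_surjective x
  set t := Matrix.trace (X : M2) with ht
  have ht0 : t ≠ 0 := trace_ne_zero hx2
  have ht4 := trace_sq_ne_four p hx2 hxp (X := X) rfl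
  set x := (X : PSL2) with hx
  -- the second member of the triangle
  obtain ⟨B, hBH, hBk, hB2, hB4, hne⟩ : ∃ B : SL2, (B : PSL2) ∈ H ∧ (B : PSL2) ^ k = 1 ∧
      (B : PSL2) * B ≠ 1 ∧ Matrix.trace (B : M2) * Matrix.trace (B : M2) ≠ 4 ∧
      ((2 : F) = 0 → Matrix.trace (B : M2) ≠ t) := by
    by_cases h2 : (2 : F) = 0
    · have hB2 : ((X * X : SL2) : PSL2) * ((X * X : SL2) : PSL2) ≠ 1 := fun e => hx2 (odd_kill _ e (by
        rw [← pow_two, ← pow_mul, mul_comm, pow_mul, hxk, one_pow]))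
      have htr : Matrix.trace ((X * X : SL2) : M2) = t * t - 2 := by
        rw [Matrix.SpecialLinearGroup.coe_mul, sl2_mul_self, Matrix.trace_sub, Matrix.trace_smul,
          smul_eq_mul, Matrix.trace_one, ← ht]
        simp
      refine ⟨X * X, H.mul_mem hxH hxH, ?_, hB2, ?_, fun _ e => ?_⟩
      · rw [QuotientGroup.mk_mul, ← pow_two, ← pow_mul, mul_comm, pow_mul, hxk, one_pow]
      · intro e
        exact trace_ne_zero hB2 (mul_self_eq_zero.mp (by linear_combination e + 2 * h2))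
      · rw [htr] at e
        rcases mul_eq_zero.mp (show (t + 1) * (t - 2) = 0 by linear_combination e) with h' | h'
        · refine hx3 h2 ?_
          rw [hx, ← QuotientGroup.mk_mul, ← QuotientGroup.mk_mul]
          refine mk_eq_one_of_smul (a := -t) ?_
          rw [Matrix.SpecialLinearGroup.coe_mul, Matrix.SpecialLinearGroup.coe_mul, sl2_mul_self, ← ht,
            Matrix.sub_mul, smul_mul_assoc, sl2_mul_self, ← ht, Matrix.one_mul, smul_sub, smul_smul,
            neg_smul, show t * t = 1 by linear_combination (t - 1) * h', one_smul]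
          abel
        · exact ht4 (by linear_combination (t + 2) * h')
    · exact ⟨X, hxH, hxk, hx2, ht4, fun e => absurd e h2⟩
  obtain ⟨A, hA, hC⟩ := exists_factor_trace (G := B) (mk_ne_one hB4) (t := t) (s := 0) hB4
    fun _ => Or.inr rfl
  obtain ⟨P, hP⟩ := exists_conj (p := p) (B := A) hxp (mk_ne_one (by rw [hA]; exact ht4)) (Or.inl hA)
  have hC1 : ((A⁻¹ * B : SL2) : PSL2) ≠ 1 := by
    intro e
    by_cases h2 : (2 : F) = 0
    · have hAB : (A : PSL2) = B := by rwa [QuotientGroup.mk_mul, QuotientGroup.mk_inv, inv_mul_eq_one] at e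
      obtain ⟨c, hc2, hc⟩ := exists_sign hAB
      have hc1 : c = 1 := sub_eq_zero.mp (mul_self_eq_zero.mp (by linear_combination hc2 + (1 - c) * h2))
      rw [hc1, one_smul] at hc
      exact hne h2 (by rw [hc, hA])
    · obtain ⟨h01, -, hd⟩ := exists_diag_sign e
      have hdet := sl2_det (A⁻¹ * B)
      rw [Matrix.trace_fin_two, ← hd] at hC
      rw [h01, ← hd] at hdet
      have h00 : ((A⁻¹ * B : SL2) : M2) 0 0 = 0 := (mul_eq_zero.mp
        (show 2 * ((A⁻¹ * B : SL2) : M2) 0 0 = 0 by linear_combination hC)).resolve_left h2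
      rw [h00] at hdet
      simp at hdet
  obtain ⟨R, rfl⟩ := QuotientGroup.mk_surjective r
  obtain ⟨Q, hQ⟩ : ∃ Q : PSL2, Q * (R : PSL2) * Q⁻¹ = ((A⁻¹ * B : SL2) : PSL2) := by
    by_cases hp2 : p = 2
    · subst hp2
      obtain ⟨Q, hQ⟩ := SL2Tori.Products.exists_conj_of_slTr_eq (a := R) (b := A⁻¹ * B)
        (Or.inr ⟨‹CharP F 2›, DicksonId.nonScalar_psl hr1, DicksonId.nonScalar_psl hC1⟩)
        (by rw [DicksonId.slTr_eq, DicksonId.slTr_eq, hC, trace_of_mul_self hr1 hr])
      exact ⟨Q, conj_pre_apply rfl rfl hQ⟩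
    · exact exists_conj_involution hp2 hr hr1 (mul_self_of_trace hC) hC1
  have hcc : ((A⁻¹ * B : SL2) : PSL2) * ((A⁻¹ * B : SL2) : PSL2) = 1 := mul_self_of_trace hC
  set a := (A : PSL2) with ha
  set b := (B : PSL2) with hb
  have hcab : ((A⁻¹ * B : SL2) : PSL2) = a⁻¹ * b := rfl
  rw [hcab] at hQ hC1 hcc
  set r := (R : PSL2)
  have hak : a ^ k = 1 := by rw [← hP, conj_pow, hxk, mul_one, mul_inv_cancel]
  have ha2 : a * a ≠ 1 := fun e => hx1 ((conj_eq_one_iff P x).mp (hP.trans (odd_kill a e hak)))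
  have hab : a * b ≠ b * a := fun e => hC1 (odd_kill _ hcc (by
    rw [(Commute.inv_left (show Commute a b from e)).mul_pow, inv_pow, hak, hBk, inv_one, one_mul]))
  have hconj : ∀ S y : PSL2, S⁻¹ * y * S ∈ H →
      (y * (S * x * S⁻¹) = S * x * S⁻¹ * y ∧ (y * y = 1 → y = 1)) ∨
      (y * y = 1 ∧ y * (S * x * S⁻¹) * y⁻¹ = (S * x * S⁻¹)⁻¹) := by
    intro S y hy
    have e2 : S⁻¹ * y * S * (S⁻¹ * y * S) = S⁻¹ * (y * y) * S := by group
    rcases hH _ hy with ⟨h1, h2⟩ | ⟨h1, h2⟩
    · refine Or.inl ⟨?_, fun h => ?_⟩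
      · calc y * (S * x * S⁻¹) = S * (S⁻¹ * y * S * x) * S⁻¹ := by group
          _ = S * (x * (S⁻¹ * y * S)) * S⁻¹ := by rw [h1]
          _ = S * x * S⁻¹ * y := by group
      · have := h2 (by rw [e2, h]; group)
        calc y = S * (S⁻¹ * y * S) * S⁻¹ := by group
          _ = 1 := by rw [this]; group
    · refine Or.inr ⟨?_, ?_⟩
      · rw [e2] at h1
        calc y * y = S * (S⁻¹ * (y * y) * S) * S⁻¹ := by group
          _ = 1 := by rw [h1]; group
      · calc y * (S * x * S⁻¹) * y⁻¹ = S * (S⁻¹ * y * S * x * (S⁻¹ * y * S)⁻¹) * S⁻¹ := by group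
          _ = (S * x * S⁻¹)⁻¹ := by rw [h2]; group
  refine not_isBinary_of_triangle ⟨P, trivial, 1, trivial, Q, trivial, a, b, ?_, by simpa using hBH, ?_,
    fun g hgA hgB hgC => ?_⟩
  · rwa [← hP, show P⁻¹ * (P * x * P⁻¹) * P = x by group]
  · rwa [← hQ, show Q⁻¹ * (Q * r * Q⁻¹) * Q = r by group]
  have hgC' := hconj Q _ hgC
  have hcC : Q⁻¹ * (a⁻¹ * b) * Q ∈ H := by rwa [← hQ, show Q⁻¹ * (Q * r * Q⁻¹) * Q = r by group]
  have hc' := (hconj Q _ hcC).resolve_left fun h => hC1 (h.2 hcc)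
  set y := Q * x * Q⁻¹ with hy
  have hy2 : y * y ≠ 1 := by rw [hy, sq_conj, Ne, conj_eq_one_iff]; exact hx2
  have hgA' := hconj P g hgA
  rw [hP] at hgA'
  have hgb : (g * b = b * g ∧ (g * g = 1 → g = 1)) ∨ (g * g = 1 ∧ g * b * g⁻¹ = b⁻¹) := by
    rcases hH g (by simpa using hgB) with ⟨h1, h2⟩ | ⟨h1, h2⟩
    · rcases hH b hBH with ⟨h3, -⟩ | ⟨h3, -⟩
      · by_cases hg : g = 1
        · subst hg; left; simp
        · refine Or.inl ⟨?_, h2⟩
          refine comm_of_common (g := x) hx1 (fun e => hg (h2 e)) hB2 h1.symm h3.symm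
      · exact absurd h3 hB2
    · rcases hH b hBH with ⟨h3, -⟩ | ⟨h3, -⟩
      · refine Or.inr ⟨h1, ?_⟩
        have hgb2 : (g * b) * (g * b) = 1 := by
          refine mul_self_of_inverts hx2 ?_
          calc g * b * x * (g * b)⁻¹ = g * (b * x * b⁻¹) * g⁻¹ := by group
            _ = x⁻¹ := by rw [h3, mul_inv_cancel_right, h2]
        calc g * b * g⁻¹ = (g * b) * (g * b) * b⁻¹ * (g * g)⁻¹ := by group
          _ = b⁻¹ := by rw [hgb2, h1, inv_one, mul_one, one_mul]
      · exact absurd h3 hB2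
  by_cases hg : g = 1
  · subst hg
    rw [inv_one, one_mul] at hgC'
    rcases hgC' with ⟨h1, -⟩ | ⟨h1, -⟩
    · -- then `b = a c` would invert `y`
      refine hB2 (mul_self_of_inverts hy2 ?_)
      calc b * y * b⁻¹ = a * ((a⁻¹ * b) * y * (a⁻¹ * b)⁻¹) * a⁻¹ := by group
        _ = a * y⁻¹ * a⁻¹ := by rw [hc'.2]
        _ = y⁻¹ := by
          rw [show a * y⁻¹ = y⁻¹ * a from (Commute.inv_right (show Commute a y from h1)).eq,
            mul_inv_cancel_right]
    · exact ha2 h1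
  rcases hgA' with ⟨hga, hgga⟩ | ⟨hg2, hga⟩
  · rcases hgb with ⟨hgb, -⟩ | ⟨hgb, -⟩
    · exact hab (comm_of_common hg ha2 hB2 hga hgb)
    · exact hg (hgga hgb)
  rcases hgb with ⟨-, hgb⟩ | ⟨-, hgb⟩
  · exact hg (hgb hg2)
  have hgi : g⁻¹ = g := inv_eq_of_mul_eq_one_right hg2
  rw [hgi] at hga hgb hgC'
  have hs2 : g * a * (g * a) = 1 := by
    rw [show g * a * (g * a) = g * a * g * a by group, hga, inv_mul_cancel]
  have hgb2 : g * b * (g * b) = 1 := by
    rw [show g * b * (g * b) = g * b * g * b by group, hgb, inv_mul_cancel]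
  have hs1 : g * a ≠ 1 := fun e => ha2 (by
    rw [show a = g by rw [← hgi]; exact eq_inv_of_mul_eq_one_right e, hg2])
  have hgb1 : g * b ≠ 1 := fun e => hB2 (by
    rw [show b = g by rw [← hgi]; exact eq_inv_of_mul_eq_one_right e, hg2])
  rcases hgC' with ⟨-, h⟩ | ⟨-, h⟩
  · exact hs1 (h hs2)
  have hprod : g * a * (a⁻¹ * b) = g * b := by group
  have hcom : g * b * y = y * (g * b) := by
    have : (g * b) * y * (g * b)⁻¹ = y := by
      rw [← hprod]
      calc g * a * (a⁻¹ * b) * y * (g * a * (a⁻¹ * b))⁻¹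
          = g * a * ((a⁻¹ * b) * y * (a⁻¹ * b)⁻¹) * (g * a)⁻¹ := by group
        _ = (g * a * y * (g * a)⁻¹)⁻¹ := by rw [hc'.2]; group
        _ = y := by rw [h, inv_inv]
    calc g * b * y = (g * b) * y * (g * b)⁻¹ * (g * b) := by group
      _ = y * (g * b) := by rw [this]
  have hgbH : Q⁻¹ * (g * b) * Q ∈ H := by
    have := H.mul_mem hgC hcC
    rwa [hgi, show Q⁻¹ * (g * a) * Q * (Q⁻¹ * (a⁻¹ * b) * Q) = Q⁻¹ * (g * b) * Q by group] at this
  rcases hconj Q _ hgbH with ⟨-, h'⟩ | ⟨-, h'⟩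
  · exact hgb1 (h' hgb2)
  · rw [hcom, mul_inv_cancel_right] at h'
    exact hy2 (by nth_rw 2 [h']; exact mul_inv_cancel y)

end Cfsg.Agent.Lib.BinaryPSL2
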