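import Cfsg.Agent.Lib.BinaryPSL2.Matrices

/-!
Explicit triangles: unipotent ones, monomial ones, and the special ones for groups of order six in
characteristic two and for generalised dihedral subgroups of a Borel subgroup.
-/

set_option autoImplicit false

namespace Cfsg.Agent.Lib.BinaryPSL2

open Matrix Cfsg.Agent.Lib.Linear
open Cfsg.Agent.Lib.DicksonFull (mk_eq_one_of_smul)
open Cfsg.Agent.Lib.PLocal.SLTwo (up lo up_add up_zero)
open Cfsg.Agent.Lib.Dickson (coe_up coe_lo up_inv lo_inv)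

variable {F : Type*} [Field F]

local notation "SL2" => Matrix.SpecialLinearGroup (Fin 2) F
local notation "M2" => Matrix (Fin 2) (Fin 2) F
local notation "PSL2" => Matrix.ProjectiveSpecialLinearGroup (Fin 2) F

theorem zero_iff_of_mk_eq {X Y : SL2} (h : (X : PSL2) = (Y : PSL2)) (i j : Fin 2) :
    (X : M2) i j = 0 ↔ (Y : M2) i j = 0 := by
  obtain ⟨c, hc2, hc⟩ := exists_sign h
  rw [hc, Matrix.smul_apply, smul_eq_mul, mul_eq_zero]
  refine ⟨Or.inr, fun e => e.resolve_left fun h0 => ?_⟩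
  simp [h0] at hc2

/-- A matrix with zero off-diagonal or zero diagonal. -/
def Monomial (X : Matrix.SpecialLinearGroup (Fin 2) F) : Prop :=
  ((X : Matrix (Fin 2) (Fin 2) F) 0 1 = 0 ∧ (X : Matrix (Fin 2) (Fin 2) F) 1 0 = 0) ∨
    ((X : Matrix (Fin 2) (Fin 2) F) 0 0 = 0 ∧ (X : Matrix (Fin 2) (Fin 2) F) 1 1 = 0)

theorem monomial_of_mk_eq {X Y : SL2} (h : (X : PSL2) = (Y : PSL2)) (hY : Monomial Y) :
    Monomial X := by
  rcases hY with ⟨a, b⟩ | ⟨a, b⟩
  · exact Or.inl ⟨(zero_iff_of_mk_eq h 0 1).mpr a, (zero_iff_of_mk_eq h 1 0).mpr b⟩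
  · exact Or.inr ⟨(zero_iff_of_mk_eq h 0 0).mpr a, (zero_iff_of_mk_eq h 1 1).mpr b⟩

/-- Unipotent triangles in odd characteristic. -/
theorem hasTriangle_unipotent (h2 : (2 : F) ≠ 0) {L : Subgroup PSL2} {K : PSL2 → Prop} {s : F}
    (hs : s ≠ 0) (hK : ∀ u, K u → ∃ a : F, u = ((up a : SL2) : PSL2))
    (hs1 : K ((up s : SL2) : PSL2)) (hs2 : K ((up (-s) : SL2) : PSL2))
    (hlo : ((lo (2 / s) : SL2) : PSL2) ∈ L) (hup : ((up (-s / 2) : SL2) : PSL2) ∈ L) :
    HasTriangle L K := by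
  set w : SL2 := lo (2 / s) * up (-s / 2) * lo (2 / s) with hw
  have hwc : (w : M2) = !![0, -(s / 2); 2 / s, 0] := by
    rw [hw, Matrix.SpecialLinearGroup.coe_mul, Matrix.SpecialLinearGroup.coe_mul, coe_lo, coe_up]
    ext i j
    fin_cases i <;> fin_cases j <;> simp [Matrix.mul_apply, Fin.sum_univ_two] <;> field_simp <;>
      first | ring1 | simp
  refine ⟨1, L.one_mem, (w : PSL2), ?_, ((lo (2 / s) : SL2) : PSL2), hlo,
    ((up (-s) : SL2) : PSL2), ((w * up s * w⁻¹ : SL2) : PSL2), ?_, ?_, ?_, fun g hgA hgB hgC => ?_⟩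
  · rw [hw, QuotientGroup.mk_mul, QuotientGroup.mk_mul]
    exact L.mul_mem (L.mul_mem hlo hup) hlo
  · rwa [inv_one, one_mul, mul_one]
  · rwa [← QuotientGroup.mk_inv, ← QuotientGroup.mk_mul, ← QuotientGroup.mk_mul,
      show w⁻¹ * (w * up s * w⁻¹) * w = up s by group]
  · rw [← QuotientGroup.mk_inv, ← QuotientGroup.mk_inv, ← QuotientGroup.mk_mul, ← QuotientGroup.mk_mul,
      ← QuotientGroup.mk_mul]
    convert hs2 using 1
    refine (DicksonId.mk_eq_of_smul (c := -1) ?_).symm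
    rw [up_inv, neg_neg, lo_inv, neg_one_smul]
    simp only [Matrix.SpecialLinearGroup.coe_mul, Matrix.SpecialLinearGroup.coe_inv, hwc, coe_up, coe_lo]
    ext i j
    fin_cases i <;> fin_cases j <;>
      simp [Matrix.mul_apply, Fin.sum_univ_two, Matrix.adjugate_fin_two] <;> field_simp <;> ring
  rw [inv_one, one_mul, mul_one] at hgA
  obtain ⟨a, rfl⟩ := hK g hgA
  obtain ⟨b, hb⟩ := hK _ hgB
  rw [← QuotientGroup.mk_inv, ← QuotientGroup.mk_mul, ← QuotientGroup.mk_mul] at hb
  have ha : a = 0 := by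
    have h10 := (zero_iff_of_mk_eq hb 1 0).mpr (by simp [coe_up])
    simp [Matrix.SpecialLinearGroup.coe_mul, Matrix.vecMul, dotProduct, hwc, coe_up, Matrix.mul_apply, Fin.sum_univ_two,
      Matrix.adjugate_fin_two, hs, h2] at h10
    exact h10
  subst ha
  rw [up_zero, QuotientGroup.mk_one, inv_one, one_mul] at hgC
  obtain ⟨c, hc⟩ := hK _ hgC
  rw [← QuotientGroup.mk_inv, ← QuotientGroup.mk_mul, ← QuotientGroup.mk_mul] at hc
  have h10 := (zero_iff_of_mk_eq hc 1 0).mpr (by simp [coe_up])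
  simp [Matrix.SpecialLinearGroup.coe_mul, Matrix.vecMul, dotProduct, coe_up, coe_lo, Matrix.mul_apply, Fin.sum_univ_two,
    Matrix.adjugate_fin_two, hs, h2] at h10
  field_simp at h10
  ring_nf at h10
  exact h2 (by linear_combination (exp := 2) h10)

/-- Monomial triangles. -/
theorem hasTriangle_monomial {L : Subgroup PSL2} {K : PSL2 → Prop} {l s r : F} (hl : l ≠ 0)
    (hl4 : l ^ 4 ≠ 1) (hs : s ≠ 0) (hr : r * (1 - l ^ 4) = s * l ^ 2 * (1 - l ^ 2))
    (hK : ∀ u, K u → ∃ X : SL2, (X : PSL2) = u ∧ Monomial X)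
    (hd : K ((dg l hl : SL2) : PSL2)) (hd' : K ((dg l hl : SL2) : PSL2)⁻¹)
    (hdd : K ((dg l hl * dg l hl : SL2) : PSL2))
    (hsL : ((up s : SL2) : PSL2) ∈ L) (hrL : ((up r : SL2) : PSL2) ∈ L) :
    HasTriangle L K := by
  set d : SL2 := dg l hl with hd0
  have hl2 : l ^ 2 ≠ 1 := fun e => hl4 (by linear_combination (l ^ 2 + 1) * e)
  have hr0 : r ≠ 0 := by
    rintro rfl
    rw [zero_mul, eq_comm, mul_eq_zero, mul_eq_zero] at hr
    rcases hr with (h | h) | h
    · exact hs h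
    · exact hl (eq_zero_of_pow_eq_zero h)
    · exact hl2 (sub_eq_zero.mp h).symm
  refine ⟨1, L.one_mem, ((up s : SL2) : PSL2), hsL, ((up r : SL2) : PSL2), hrL, (d : PSL2)⁻¹,
    ((up s * d * (up s)⁻¹ : SL2) : PSL2), by rwa [inv_one, one_mul, mul_one], ?_, ?_,
    fun g hgA hgB hgC => ?_⟩
  · rwa [← QuotientGroup.mk_inv, ← QuotientGroup.mk_mul, ← QuotientGroup.mk_mul,
      show (up s : SL2)⁻¹ * (up s * d * (up s)⁻¹) * up s = d by group]
  · rw [inv_inv, ← QuotientGroup.mk_inv, ← QuotientGroup.mk_mul, ← QuotientGroup.mk_mul,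
      ← QuotientGroup.mk_mul]
    convert hdd using 2
    apply Subtype.ext
    simp only [up_inv, Matrix.SpecialLinearGroup.coe_mul, hd0, coe_dg, coe_up]
    ext i j
    fin_cases i <;> fin_cases j <;> simp [Matrix.mul_apply, Fin.sum_univ_two]
    field_simp
    linear_combination -hr
  rw [inv_one, one_mul, mul_one] at hgA
  obtain ⟨X, rfl, hX⟩ := hK g hgA
  obtain ⟨Y, hY, hYm⟩ := hK _ hgB
  rw [← QuotientGroup.mk_inv, ← QuotientGroup.mk_mul, ← QuotientGroup.mk_mul] at hY
  have hm := monomial_of_mk_eq hY.symm hYm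
  rw [up_inv] at hm
  have hdet := sl2_det X
  have hX1 : (X : PSL2) = 1 := by
    rcases hX with ⟨h01, h10⟩ | ⟨h00, h11⟩
    · rcases hm with ⟨m01, -⟩ | ⟨m00, -⟩
      · simp [Matrix.SpecialLinearGroup.coe_mul, Matrix.vecMul, dotProduct, coe_up, Matrix.mul_apply, Fin.sum_univ_two,
          h01, h10] at m01
        refine mk_eq_one_of_smul (a := (X : M2) 0 0) ?_
        have he : (X : M2) 1 1 = (X : M2) 0 0 := by
          apply mul_left_cancel₀ hs
          linear_combination -m01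
        ext i j
        fin_cases i <;> fin_cases j <;> simp [h01, h10, he]
      · simp [Matrix.SpecialLinearGroup.coe_mul, Matrix.vecMul, dotProduct, coe_up, Matrix.mul_apply, Fin.sum_univ_two,
          h01, h10] at m00
        simp [m00, h01] at hdet
    · exfalso
      have h10 : (X : M2) 1 0 ≠ 0 := fun e => by simp [h00, e] at hdet
      rcases hm with ⟨-, m10⟩ | ⟨m00, -⟩
      · simp [Matrix.SpecialLinearGroup.coe_mul, Matrix.vecMul, dotProduct, coe_up, Matrix.mul_apply, Fin.sum_univ_two] at m10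
        exact h10 m10
      · simp [Matrix.SpecialLinearGroup.coe_mul, Matrix.vecMul, dotProduct, coe_up, Matrix.mul_apply, Fin.sum_univ_two,
          h00, hs] at m00
        exact h10 m00
  rw [hX1, inv_one, one_mul] at hgC
  obtain ⟨Z, hZ, hZm⟩ := hK _ hgC
  rw [← QuotientGroup.mk_inv, ← QuotientGroup.mk_inv, ← QuotientGroup.mk_mul,
    ← QuotientGroup.mk_mul] at hZ
  have hm' := monomial_of_mk_eq hZ.symm hZm
  rw [up_inv, dg_inv] at hm'
  rcases hm' with ⟨m01, -⟩ | ⟨m00, -⟩
  · simp [Matrix.SpecialLinearGroup.coe_mul, Matrix.vecMul, dotProduct, coe_up, coe_dg, Matrix.mul_apply, Fin.sum_univ_two] at m01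
    field_simp at m01
    have : r * (1 - l ^ 2) = 0 := by linear_combination m01
    rcases mul_eq_zero.mp this with h | h
    · exact hr0 h
    · exact hl2 (sub_eq_zero.mp h).symm
  · simp [Matrix.SpecialLinearGroup.coe_mul, Matrix.vecMul, dotProduct, coe_up, coe_dg, Matrix.mul_apply, Fin.sum_univ_two, hl] at m00

/-- Subgroups of a Borel subgroup whose torus part has order two. -/
theorem hasTriangle_involution (h2 : (2 : F) ≠ 0) {H : Subgroup PSL2} {i : F} (hi : i * i = -1)
    (hi0 : i ≠ 0) (hd : ((dg i hi0 : SL2) : PSL2) ∈ H)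
    (hH : ∀ X : SL2, (X : PSL2) ∈ H → (X : M2) 1 0 = 0 ∧ (X : M2) 0 0 ^ 4 = 1) :
    HasTriangle (⊤ : Subgroup PSL2) (· ∈ H) := by
  set γ : SL2 := ⟨!![1, -(1 / 2); 1, 1 / 2], by
    rw [Matrix.det_fin_two_of]; field_simp; ring⟩ with hγ
  set γ' : SL2 := ⟨!![1, 1 / (2 * i); -i, 1 / 2], by
    rw [Matrix.det_fin_two_of]; field_simp; ring⟩ with hγ'
  set d : SL2 := dg i hi0 with hd0
  have hγc : (γ : M2) = !![1, -(1 / 2); 1, 1 / 2] := rfl
  have hγ'c : (γ' : M2) = !![1, 1 / (2 * i); -i, 1 / 2] := rfl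
  have hii : i⁻¹ = -i := inv_eq_of_mul_eq_one_right (by linear_combination -hi)
  refine ⟨1, trivial, (γ : PSL2), trivial, (γ' : PSL2), trivial, (d : PSL2),
    ((γ * d * γ⁻¹ : SL2) : PSL2), by simpa using hd, ?_, ?_, fun g hgA hgB hgC => ?_⟩
  · rwa [← QuotientGroup.mk_inv, ← QuotientGroup.mk_mul, ← QuotientGroup.mk_mul,
      show γ⁻¹ * (γ * d * γ⁻¹) * γ = d by group]
  · rw [← QuotientGroup.mk_inv, ← QuotientGroup.mk_inv, ← QuotientGroup.mk_mul, ← QuotientGroup.mk_mul,
      ← QuotientGroup.mk_mul]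
    show _ ∈ H
    convert hd using 1
    refine (DicksonId.mk_eq_of_smul (c := -1) ?_).symm
    rw [neg_one_smul, hd0]
    simp only [Matrix.SpecialLinearGroup.coe_mul, Matrix.SpecialLinearGroup.coe_inv, hγc, hγ'c, coe_dg]
    ext a b
    fin_cases a <;> fin_cases b <;>
      simp [Matrix.mul_apply, Fin.sum_univ_two, Matrix.adjugate_fin_two, hii] <;> field_simp <;>
      grind
  simp only [inv_one, one_mul, mul_one] at hgA
  obtain ⟨X, rfl⟩ := QuotientGroup.mk_surjective g
  obtain ⟨h10, h00⟩ := hH X hgA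
  rw [← QuotientGroup.mk_inv, ← QuotientGroup.mk_mul, ← QuotientGroup.mk_mul] at hgB
  have e1 := (hH _ hgB).1
  simp only [Matrix.SpecialLinearGroup.coe_mul, Matrix.SpecialLinearGroup.coe_inv, hγc] at e1
  simp [Matrix.mul_apply, Matrix.vecMul, dotProduct, Fin.sum_univ_two, Matrix.adjugate_fin_two, h10] at e1
  rw [← QuotientGroup.mk_inv, ← QuotientGroup.mk_inv, ← QuotientGroup.mk_mul, ← QuotientGroup.mk_mul,
    ← QuotientGroup.mk_mul] at hgC
  have e2 := (hH _ hgC).1
  simp only [Matrix.SpecialLinearGroup.coe_mul, Matrix.SpecialLinearGroup.coe_inv, hγ'c, hd0, coe_dg] at e2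
  simp [Matrix.mul_apply, Fin.sum_univ_two, Matrix.adjugate_fin_two, h10, hii] at e2
  have hdet := sl2_det X
  rw [h10, mul_zero, sub_zero] at hdet
  set a := (X : M2) 0 0
  set b := (X : M2) 0 1
  set c := (X : M2) 1 1
  clear_value a b c
  rcases mul_eq_zero.mp (show (a * a - 1) * (a * a + 1) = 0 by linear_combination h00) with h | h
  · have hc : c = a := by linear_combination a * hdet - c * h
    have hb : b = 0 := by linear_combination hc - e1
    subst hc hb
    grind
  · have hc : c = -a := by linear_combination -a * hdet + c * h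
    have hb : b = -(2 * a) := by linear_combination hc - e1
    subst hc hb
    grind

/-- The subgroup of order six in characteristic two. -/
theorem hasTriangle_six [Fintype F] (h2 : (2 : F) = 0) (h4 : 4 ≤ Fintype.card F) {H : Subgroup PSL2}
    (hup : ((up 1 : SL2) : PSL2) ∈ H)
    (hH : ∀ X : SL2, (X : PSL2) ∈ H → ∀ i j, (X : M2) i j = 0 ∨ (X : M2) i j = 1) :
    HasTriangle (⊤ : Subgroup PSL2) (· ∈ H) := by
  classical
  obtain ⟨β, hβ0, hβ1⟩ : ∃ β : F, β ≠ 0 ∧ β ≠ 1 := by
    by_contra hall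
    push Not at hall
    have hle := Finset.card_le_card (fun x _ => by
      rcases eq_or_ne x 0 with h | h
      · simp [h]
      · simp [hall x h] : (Finset.univ : Finset F) ⊆ {0, 1})
    rw [Finset.card_univ] at hle
    have := hle.trans (Finset.card_insert_le _ _)
    simp at this
    omega
  have hc : ringChar F = 2 := by
    have h' : ringChar F ∣ 2 := (CharP.cast_eq_zero_iff F (ringChar F) 2).1 (by exact_mod_cast h2)
    exact (Nat.prime_dvd_prime_iff_eq (CharP.char_is_prime F (ringChar F)) Nat.prime_two).1 h'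
  have hβ1' : 1 + β ≠ 0 := fun e => hβ1 (by linear_combination e - h2)
  obtain ⟨δ, hδ⟩ := FiniteField.isSquare_of_char_two hc β
  obtain ⟨ε, hε⟩ := FiniteField.isSquare_of_char_two hc (1 + β)
  have hδ0 : δ ≠ 0 := fun e => hβ0 (by rw [hδ, e, zero_mul])
  have hε0 : ε ≠ 0 := fun e => hβ1' (by rw [hε, e, zero_mul])
  refine ⟨1, trivial, ((dg δ hδ0 : SL2) : PSL2), trivial, ((dg ε hε0 : SL2) : PSL2), trivial,
    ((up 1 : SL2) : PSL2), ((up β : SL2) : PSL2), by simpa using hup, ?_, ?_,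
    fun g hgA hgB hgC => ?_⟩
  · show _ ∈ H
    convert hup using 1
    rw [← QuotientGroup.mk_inv, ← QuotientGroup.mk_mul, ← QuotientGroup.mk_mul, dg_inv]
    congr 1
    apply Subtype.ext
    simp only [Matrix.SpecialLinearGroup.coe_mul, coe_up, coe_dg]
    ext i j
    fin_cases i <;> fin_cases j <;> simp [Matrix.mul_apply, Fin.sum_univ_two, hδ0]
    rw [hδ]; field_simp
  · show _ ∈ H
    convert hup using 1
    rw [← QuotientGroup.mk_inv, ← QuotientGroup.mk_inv, ← QuotientGroup.mk_mul, ← QuotientGroup.mk_mul,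
      ← QuotientGroup.mk_mul, dg_inv, up_inv, ← up_add]
    congr 1
    apply Subtype.ext
    simp only [Matrix.SpecialLinearGroup.coe_mul, coe_up, coe_dg]
    ext i j
    fin_cases i <;> fin_cases j <;> simp [Matrix.mul_apply, Fin.sum_univ_two, hε0]
    field_simp
    linear_combination hε - h2
  simp only [inv_one, one_mul, mul_one] at hgA
  obtain ⟨X, rfl⟩ := QuotientGroup.mk_surjective g
  rw [← QuotientGroup.mk_inv, ← QuotientGroup.mk_mul, ← QuotientGroup.mk_mul, dg_inv] at hgB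
  have eA := hH X hgA
  have eB := hH _ hgB
  have e10 : (X : M2) 1 0 = 0 := by
    rcases eA 1 0 with h | h
    · exact h
    exfalso
    have := eB 1 0
    simp [Matrix.SpecialLinearGroup.coe_mul, Matrix.vecMul, dotProduct, coe_dg, Matrix.mul_apply, Fin.sum_univ_two, h] at this
    rcases this with e | e
    · exact hδ0 e
    · exact hβ1 (by rw [hδ]; exact e)
  have hdet := sl2_det X
  rw [e10, mul_zero, sub_zero] at hdet
  have e00 : (X : M2) 0 0 = 1 := (eA 0 0).resolve_left fun h => by simp [h] at hdet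
  have e11 : (X : M2) 1 1 = 1 := (eA 1 1).resolve_left fun h => by simp [h] at hdet
  have e01 : (X : M2) 0 1 = 0 := by
    refine (eA 0 1).resolve_right fun h => ?_
    have := eB 0 1
    simp [Matrix.SpecialLinearGroup.coe_mul, Matrix.vecMul, dotProduct, coe_dg, Matrix.mul_apply, Fin.sum_univ_two, h] at this
    rcases this with e | e
    · exact hδ0 e
    · field_simp at e
      exact hβ1 (by rw [hδ]; linear_combination -e)
  have hX : (X : PSL2) = 1 := mk_eq_one_of_smul (a := 1) (by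
    ext i j; fin_cases i <;> fin_cases j <;> simp [e00, e01, e10, e11])
  rw [hX, inv_one, one_mul, ← QuotientGroup.mk_inv, ← QuotientGroup.mk_mul, ← QuotientGroup.mk_mul,
    dg_inv] at hgC
  have := hH _ hgC 0 1
  simp [Matrix.SpecialLinearGroup.coe_mul, Matrix.vecMul, dotProduct, coe_dg, coe_up, Matrix.mul_apply, Fin.sum_univ_two] at this
  rcases this with e | e
  · exact hε0 e
  · field_simp at e
    exact hβ0 (by linear_combination hε - e)

end Cfsg.Agent.Lib.BinaryPSL2
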