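import Cfsg.Agent.Lib.BinaryPSL2.Abstract
import Mathlib.GroupTheory.SpecificGroups.Alternating
import Mathlib.GroupTheory.SpecificGroups.Alternating.Simple

/-!
Witnesses inside small abstract groups against binary actions.
-/

set_option autoImplicit false
set_option maxRecDepth 20000
set_option synthInstance.maxSize 4096

namespace Cfsg.Agent.Lib.BinaryPSL2

variable {G E : Type*} [Group G] [Group E]

/-- Two tuples of cosets of `Kp` related pairwise but not globally. -/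
def HasWitness (Kp : E → Prop) : Prop :=
  ∃ (n : ℕ) (x y : Fin (n + 1) → E),
    (∀ i j, ∃ g : E, Kp ((y i)⁻¹ * g * x i) ∧ Kp ((y j)⁻¹ * g * x j)) ∧
      ∀ g : E, ∃ i, ¬ Kp ((y i)⁻¹ * g * x i)

/-- A witness in the orbit of `c` under the point stabiliser. -/
theorem not_isBinary_of_witness {H : Subgroup G} (φ : E →* G) (hφ : φ.range = H) (c : G)
    {Kp : E → Prop} (hK : ∀ u, c⁻¹ * φ u * c ∈ H ↔ Kp u) (hw : HasWitness Kp) : ¬ IsBinary H := by
  obtain ⟨n, x, y, hp, hno⟩ := hw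
  intro hb
  let P : Option (Fin (n + 1)) → G ⧸ H := fun o =>
    o.elim ((1 : G) : G ⧸ H) fun i => ((φ (x i) * c : G) : G ⧸ H)
  let Q : Option (Fin (n + 1)) → G ⧸ H := fun o =>
    o.elim ((1 : G) : G ⧸ H) fun i => ((φ (y i) * c : G) : G ⧸ H)
  have hbase : ∀ g : E, φ g • P none = Q none := fun g => by
    simp only [P, Q, Option.elim_none]
    rw [smul_mk_eq, inv_one, one_mul, mul_one, ← hφ]
    exact ⟨g, rfl⟩
  have hpt : ∀ (g : E) i, φ g • P (some i) = Q (some i) ↔ Kp ((y i)⁻¹ * g * x i) := fun g i => by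
    simp only [P, Q, Option.elim_some]
    rw [smul_mk_eq, ← hK, map_mul, map_mul, map_inv,
      show (φ (y i) * c)⁻¹ * φ g * (φ (x i) * c) = c⁻¹ * ((φ (y i))⁻¹ * φ g * φ (x i)) * c by group]
  obtain ⟨g, hg⟩ := hb.fintype (ι := Option (Fin (n + 1))) (by simp) P Q (by
    rintro (_ | i) (_ | j) hij
    · exact absurd rfl hij
    · obtain ⟨g, -, hj⟩ := hp j j
      exact ⟨φ g, hbase g, (hpt g j).mpr hj⟩
    · obtain ⟨g, hi, -⟩ := hp i i
      exact ⟨φ g, (hpt g i).mpr hi, hbase g⟩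
    · obtain ⟨g, hi, hj⟩ := hp i j
      exact ⟨φ g, (hpt g i).mpr hi, (hpt g j).mpr hj⟩)
  have h0 := hg none
  simp only [P, Q, Option.elim_none] at h0
  rw [smul_mk_eq, inv_one, one_mul, mul_one, ← hφ] at h0
  obtain ⟨u, rfl⟩ := h0
  obtain ⟨i, hi⟩ := hno u
  exact hi ((hpt u i).mp (hg _))

/-- A homomorphism onto a subgroup. -/
theorem exists_hom_of_equiv {H : Subgroup G} (h : Nonempty (H ≃* E)) :
    ∃ φ : E →* G, Function.Injective φ ∧ φ.range = H := by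
  obtain ⟨e⟩ := h
  refine ⟨H.subtype.comp e.symm.toMonoidHom, H.subtype_injective.comp e.symm.injective, ?_⟩
  rw [MonoidHom.range_comp, MonoidHom.range_eq_top.mpr e.symm.surjective, ← MonoidHom.range_eq_map,
    Subgroup.range_subtype]

section FinS4

local notation "S4" => Equiv.Perm (Fin 4)

/-- The four group `⟨(01), (23)⟩`. -/
abbrev InV (u : Equiv.Perm (Fin 4)) : Prop :=
  u = 1 ∨ u = Equiv.swap 0 1 ∨ u = Equiv.swap 2 3 ∨ u = Equiv.swap 0 1 * Equiv.swap 2 3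

theorem s4_witness : HasWitness InV := by
  refine ⟨2, ![1, Equiv.swap 1 2, Equiv.swap 1 3 * Equiv.swap 2 3],
    ![1, Equiv.swap 1 2, Equiv.swap 0 1 * Equiv.swap 2 3 * (Equiv.swap 1 3 * Equiv.swap 2 3)],
    ?_⟩
  decide +kernel

theorem s4_generate : ∀ u : S4, InV u ∨ ∃ p q : S4, InV p ∧ InV q ∧
    (p * u * q = Equiv.swap 0 2 * Equiv.swap 1 3 ∨
      ∃ r : S4, InV r ∧ p * u * q * r * u = Equiv.swap 0 2 * Equiv.swap 1 3) := by
  decide +kernel

theorem s4_conj : ∀ u : S4, u * Equiv.swap 2 3 * u⁻¹ ≠ Equiv.swap 0 1 * Equiv.swap 2 3 := by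
  decide +kernel

theorem s4_facts : (Equiv.swap 0 2 * Equiv.swap 1 3) * Equiv.swap 0 1 *
      (Equiv.swap 0 2 * Equiv.swap 1 3 : S4)⁻¹ = Equiv.swap 2 3 ∧
    (Equiv.swap 0 1 : S4) * Equiv.swap 2 3 = Equiv.swap 2 3 * Equiv.swap 0 1 ∧
    (Equiv.swap 0 1 : S4) * Equiv.swap 0 1 = 1 ∧ (Equiv.swap 2 3 : S4) * Equiv.swap 2 3 = 1 ∧
    (Equiv.swap 0 1 : S4) ≠ 1 ∧ (Equiv.swap 2 3 : S4) ≠ 1 ∧
    (Equiv.swap 0 1 : S4) ≠ Equiv.swap 2 3 := by
  decide +kernel

end FinS4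

section FinA4

local notation "A4" => alternatingGroup (Fin 4)

/-- `(012)`. -/
def tc : alternatingGroup (Fin 4) :=
  ⟨Equiv.swap 0 1 * Equiv.swap 1 2, Equiv.Perm.mem_alternatingGroup.mpr (by decide +kernel)⟩

/-- `(01)(23)`. -/
def tv : alternatingGroup (Fin 4) :=
  ⟨Equiv.swap 0 1 * Equiv.swap 2 3, Equiv.Perm.mem_alternatingGroup.mpr (by decide +kernel)⟩

/-- The three-group in `A₄`. -/
abbrev InT (u : alternatingGroup (Fin 4)) : Prop := u = 1 ∨ u = tc ∨ u = tc * tc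

theorem a4_witness : HasWitness InT := by
  refine ⟨2, ![1,
      ⟨Equiv.swap 1 2 * Equiv.swap 2 3, Equiv.Perm.mem_alternatingGroup.mpr (by decide +kernel)⟩,
      ⟨Equiv.swap 1 3 * Equiv.swap 2 3, Equiv.Perm.mem_alternatingGroup.mpr (by decide +kernel)⟩],
    ![1,
      ⟨Equiv.swap 1 2 * Equiv.swap 2 3, Equiv.Perm.mem_alternatingGroup.mpr (by decide +kernel)⟩,
      tc * ⟨Equiv.swap 1 3 * Equiv.swap 2 3, Equiv.Perm.mem_alternatingGroup.mpr (by decide +kernel)⟩],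
    ?_⟩
  decide +kernel

theorem a4_generate : ∀ u : A4, InT u ∨ ∃ p q : A4, InT p ∧ InT q ∧ p * u * q = tv := by
  decide +kernel

theorem a4_back : ∀ v : A4, InT v ∨ ∃ r s : A4, InT r ∧ InT s ∧ v = r * tv * s := by
  decide +kernel

theorem a4_three : ∀ v : A4, v * v * v = 1 → v ≠ 1 → ∃ h : A4, h * v * h⁻¹ = tc ∨ h * v * h⁻¹ = tc⁻¹ := by
  decide +kernel

theorem a4_orders : ∀ v : A4, v * v = 1 ∨ (v * v * v = 1 ∧ v ≠ 1) := by
  decide +kernel

theorem a4_mul : ∀ g v : A4, g * g = 1 → v * v * v = 1 → v ≠ 1 →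
    (g * v) * (g * v) * (g * v) = 1 ∧ g * v ≠ 1 := by
  decide +kernel

theorem a4_facts : tc * tc * tc = 1 ∧ tc * tc ≠ 1 ∧ tv * tv = 1 ∧ tv ≠ 1 ∧
    tc * (tv * tc * tv⁻¹) ≠ (tv * tc * tv⁻¹) * tc ∧ (tc * tv) ^ 3 = 1 ∧
    (Finset.univ.filter fun y : A4 => y * y = 1 ∧ y ≠ 1 ∧ (tc * y) ^ 3 = 1).card ≤ 3 := by
  decide +kernel

end FinA4

section FinA5

local notation "A5" => alternatingGroup (Fin 5)

/-- `(012)`. -/
def fc : alternatingGroup (Fin 5) :=
  ⟨Equiv.swap 0 1 * Equiv.swap 1 2, Equiv.Perm.mem_alternatingGroup.mpr (by decide +kernel)⟩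

/-- `(01)(34)`. -/
def fs : alternatingGroup (Fin 5) :=
  ⟨Equiv.swap 0 1 * Equiv.swap 3 4, Equiv.Perm.mem_alternatingGroup.mpr (by decide +kernel)⟩

/-- `(01)(23)`. -/
def fa : alternatingGroup (Fin 5) :=
  ⟨Equiv.swap 0 1 * Equiv.swap 2 3, Equiv.Perm.mem_alternatingGroup.mpr (by decide +kernel)⟩

/-- `(01)(24)`. -/
def fb : alternatingGroup (Fin 5) :=
  ⟨Equiv.swap 0 1 * Equiv.swap 2 4, Equiv.Perm.mem_alternatingGroup.mpr (by decide +kernel)⟩

/-- The cyclic group of `fc`. -/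
abbrev InX (u : alternatingGroup (Fin 5)) : Prop := u = 1 ∨ u = fc ∨ u = fc * fc

/-- The double coset of `d`, as a list. -/
abbrev InD (d u : alternatingGroup (Fin 5)) : Prop :=
  u ∈ [d, d * fc, d * (fc * fc), fc * d, fc * d * fc, fc * d * (fc * fc),
    fc * fc * d, fc * fc * d * fc, fc * fc * d * (fc * fc)]

/-- The subgroup of order six. -/
abbrev InS (u : alternatingGroup (Fin 5)) : Prop := InX u ∨ InD fs u

/-- A point stabiliser. -/
abbrev InA (u : alternatingGroup (Fin 5)) : Prop := InX u ∨ InD fa u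

/-- The other point stabiliser through `fc`. -/
abbrev InB (u : alternatingGroup (Fin 5)) : Prop := InX u ∨ InD fb u

theorem a5_witness_cyclic : HasWitness InX := by
  refine ⟨2, ![1,
      ⟨Equiv.swap 2 3 * Equiv.swap 3 4, Equiv.Perm.mem_alternatingGroup.mpr (by decide +kernel)⟩,
      ⟨Equiv.swap 1 2 * Equiv.swap 2 3, Equiv.Perm.mem_alternatingGroup.mpr (by decide +kernel)⟩],
    ![1,
      ⟨Equiv.swap 2 3 * Equiv.swap 3 4, Equiv.Perm.mem_alternatingGroup.mpr (by decide +kernel)⟩,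
      fc * fc * ⟨Equiv.swap 1 2 * Equiv.swap 2 3, Equiv.Perm.mem_alternatingGroup.mpr (by decide +kernel)⟩],
    ?_⟩
  decide +kernel

theorem a5_witness_s : HasWitness InS := by
  refine ⟨2, ![1,
      ⟨Equiv.swap 2 3 * Equiv.swap 3 4, Equiv.Perm.mem_alternatingGroup.mpr (by decide +kernel)⟩,
      ⟨Equiv.swap 2 4 * Equiv.swap 3 4, Equiv.Perm.mem_alternatingGroup.mpr (by decide +kernel)⟩],
    ![1,
      ⟨Equiv.swap 2 3 * Equiv.swap 3 4, Equiv.Perm.mem_alternatingGroup.mpr (by decide +kernel)⟩,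
      ⟨Equiv.swap 1 2 * Equiv.swap 3 4, Equiv.Perm.mem_alternatingGroup.mpr (by decide +kernel)⟩ *
        ⟨Equiv.swap 2 4 * Equiv.swap 3 4, Equiv.Perm.mem_alternatingGroup.mpr (by decide +kernel)⟩],
    ?_⟩
  decide +kernel

/-- An element sending `4` to `i`, resp. `3` to `i`. -/
theorem a5_witness_a : HasWitness InA := by
  refine ⟨3, ![⟨Equiv.swap 0 4 * Equiv.swap 2 3, Equiv.Perm.mem_alternatingGroup.mpr (by decide +kernel)⟩,
      ⟨Equiv.swap 1 4 * Equiv.swap 2 3, Equiv.Perm.mem_alternatingGroup.mpr (by decide +kernel)⟩,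
      ⟨Equiv.swap 2 4 * Equiv.swap 0 1, Equiv.Perm.mem_alternatingGroup.mpr (by decide +kernel)⟩,
      ⟨Equiv.swap 3 4 * Equiv.swap 0 1, Equiv.Perm.mem_alternatingGroup.mpr (by decide +kernel)⟩],
    ![⟨Equiv.swap 1 4 * Equiv.swap 2 3, Equiv.Perm.mem_alternatingGroup.mpr (by decide +kernel)⟩,
      ⟨Equiv.swap 0 4 * Equiv.swap 2 3, Equiv.Perm.mem_alternatingGroup.mpr (by decide +kernel)⟩,
      ⟨Equiv.swap 2 4 * Equiv.swap 0 1, Equiv.Perm.mem_alternatingGroup.mpr (by decide +kernel)⟩,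
      ⟨Equiv.swap 3 4 * Equiv.swap 0 1, Equiv.Perm.mem_alternatingGroup.mpr (by decide +kernel)⟩],
    ?_⟩
  decide +kernel

theorem a5_witness_b : HasWitness InB := by
  refine ⟨3, ![⟨Equiv.swap 0 3 * Equiv.swap 2 4, Equiv.Perm.mem_alternatingGroup.mpr (by decide +kernel)⟩,
      ⟨Equiv.swap 1 3 * Equiv.swap 2 4, Equiv.Perm.mem_alternatingGroup.mpr (by decide +kernel)⟩,
      ⟨Equiv.swap 2 3 * Equiv.swap 0 1, Equiv.Perm.mem_alternatingGroup.mpr (by decide +kernel)⟩,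
      ⟨Equiv.swap 4 3 * Equiv.swap 0 1, Equiv.Perm.mem_alternatingGroup.mpr (by decide +kernel)⟩],
    ![⟨Equiv.swap 1 3 * Equiv.swap 2 4, Equiv.Perm.mem_alternatingGroup.mpr (by decide +kernel)⟩,
      ⟨Equiv.swap 0 3 * Equiv.swap 2 4, Equiv.Perm.mem_alternatingGroup.mpr (by decide +kernel)⟩,
      ⟨Equiv.swap 2 3 * Equiv.swap 0 1, Equiv.Perm.mem_alternatingGroup.mpr (by decide +kernel)⟩,
      ⟨Equiv.swap 4 3 * Equiv.swap 0 1, Equiv.Perm.mem_alternatingGroup.mpr (by decide +kernel)⟩],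
    ?_⟩
  decide +kernel

theorem a5_cases : ∀ u : A5, InX u ∨ InD fs u ∨ InD fa u ∨ InD fb u ∨
    (u ^ 5 = 1 ∧ u ≠ 1) ∨ ((u * fc) ^ 5 = 1 ∧ u * fc ≠ 1) := by
  decide +kernel

theorem a5_back : ∀ d : A5, d ∈ [fs, fa, fb] → ∀ u : A5, InD d u → ∃ p q : A5, InX p ∧ InX q ∧ p * u * q = d := by
  decide +kernel

theorem a5_facts : fc * fc * fc = 1 ∧ fc * fc ≠ 1 ∧
    ((fs * fc * fa) ^ 5 = 1 ∧ fs * fc * fa ≠ 1) ∧ ((fs * fc * fb) ^ 5 = 1 ∧ fs * fc * fb ≠ 1) ∧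
    ((fa * fc * fb) ^ 5 = 1 ∧ fa * fc * fb ≠ 1) := by
  decide +kernel

theorem a5_pair : ∃ y : A5, y * y = 1 ∧ y ≠ 1 ∧ (fc * y) ^ 5 = 1 ∧
    fc * (y * fc * y⁻¹) ≠ (y * fc * y⁻¹) * fc := by
  decide +kernel

theorem a5_count :
    (Finset.univ.filter fun y : A5 => y * y = 1 ∧ y ≠ 1 ∧ (fc * y) ^ 5 = 1).card ≤ 6 := by
  decide +kernel

/-- A proper subgroup containing an element of order three has none of order five. -/
theorem a5_proper {K : Subgroup A5} (hK : K ≠ ⊤) (hx : fc ∈ K) {u : A5} (hu : u ∈ K)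
    (hu5 : u ^ 5 = 1) (hu1 : u ≠ 1) : False := by
  haveI : Fact (Nat.Prime 5) := ⟨by norm_num⟩
  haveI : Fact (Nat.Prime 3) := ⟨by norm_num⟩
  haveI := alternatingGroup.isSimpleGroup_five
  have h5 : 5 ∣ Nat.card K := by
    have e : orderOf (⟨u, hu⟩ : K) = 5 := by
      rw [Subgroup.orderOf_mk]; exact orderOf_eq_prime hu5 hu1
    have := orderOf_dvd_natCard (⟨u, hu⟩ : K)
    rwa [e] at this
  have h3 : 3 ∣ Nat.card K := by
    have e : orderOf fc = 3 := orderOf_eq_prime (by rw [pow_succ, pow_two]; exact a5_facts.1)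
      fun h => a5_facts.2.1 (by rw [h, one_mul])
    have e' : orderOf (⟨fc, hx⟩ : K) = 3 := by rw [Subgroup.orderOf_mk]; exact e
    have := orderOf_dvd_natCard (⟨fc, hx⟩ : K)
    rwa [e'] at this
  have h15 : 15 ∣ Nat.card K := Nat.Coprime.mul_dvd_of_dvd_of_dvd (m := 3) (n := 5) (by norm_num) h3 h5
  have hmul := Subgroup.card_mul_index K
  have h60 : Nat.card A5 = 60 := by rw [Nat.card_eq_fintype_card]; decide +kernel
  rw [h60] at hmul
  have hi : K.index ≤ 4 := by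
    obtain ⟨j, hj⟩ := h15
    rw [hj] at hmul
    have : j * K.index = 4 := by
      have : 15 * (j * K.index) = 15 * 4 := by rw [← mul_assoc, hmul]
      omega
    exact Nat.le_of_dvd (by norm_num) ⟨j, by rw [← this, mul_comm]⟩
  have hinj : Function.Injective (MulAction.toPermHom A5 (A5 ⧸ K)) := by
    rw [← MonoidHom.ker_eq_bot_iff]
    refine ((MonoidHom.normal_ker _).eq_bot_or_eq_top).resolve_right fun htop => hK ?_
    rw [eq_top_iff]
    intro g _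
    have hg : g ∈ (MulAction.toPermHom A5 (A5 ⧸ K)).ker := htop ▸ Subgroup.mem_top g
    have := Equiv.Perm.ext_iff.mp (MonoidHom.mem_ker.mp hg) ((1 : A5) : A5 ⧸ K)
    simp only [MulAction.toPermHom_apply, MulAction.toPerm_apply, Equiv.Perm.one_apply] at this
    rwa [smul_mk_self, inv_one, one_mul, mul_one] at this
  have hd := Subgroup.card_dvd_of_injective _ hinj
  rw [h60, Nat.card_perm, ← Subgroup.index] at hd
  interval_cases K.index <;> norm_num [Nat.factorial] at hd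

end FinA5

end Cfsg.Agent.Lib.BinaryPSL2
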