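import Cfsg.Agent.Lib.BinaryPSL2.Inverters
import Cfsg.Agent.Lib.BinaryPSL2.Rotation
import Cfsg.Agent.Lib.BinaryPSL2.Triangles
import Cfsg.Agent.Lib.BinaryPSL2.Witness
import Cfsg.Agent.Lib.DicksonId.MaxCommon
import Cfsg.Agent.Lib.DicksonId.FourGroup

/-!
The polyhedral subgroups have no binary action.
-/

set_option autoImplicit false

namespace Cfsg.Agent.Lib.BinaryPSL2

open Matrix Cfsg.Agent.Lib.Linear
open Cfsg.Agent.Lib.DicksonFull (mk_eq_one_of_smul)
open Cfsg.Agent.Lib.PLocal.SLTwo (up lo up_add up_zero)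
open Cfsg.Agent.Lib.Dickson (coe_up up_inv up_injective)
open scoped Pointwise

variable {F : Type*} [Field F] [Fintype F]

local notation "SL2" => Matrix.SpecialLinearGroup (Fin 2) F
local notation "M2" => Matrix (Fin 2) (Fin 2) F
local notation "PSL2" => Matrix.ProjectiveSpecialLinearGroup (Fin 2) F

/-- The octahedral groups. -/
theorem not_isBinary_perm_four (h2 : (2 : F) ≠ 0) {H : Subgroup PSL2}
    (he : Nonempty (H ≃* Equiv.Perm (Fin 4))) : ¬ IsBinary H := by
  obtain ⟨φ, hφ, hr⟩ := exists_hom_of_equiv he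
  obtain ⟨hd, hab, ha, hb, ha1, hb1, hne⟩ := s4_facts
  set a : PSL2 := φ (Equiv.swap 0 1) with hadef
  set b : PSL2 := φ (Equiv.swap 2 3) with hbdef
  have ho : ∀ u : Equiv.Perm (Fin 4), u * u = 1 → u ≠ 1 → orderOf (φ u) = 2 := fun u h h1 =>
    orderOf_eq_prime (by rw [pow_two, ← map_mul, h, map_one]) fun e => h1 (hφ (e.trans φ.map_one.symm))
  have haa : a * a = 1 := by rw [hadef, ← map_mul, ha, map_one]
  have hbb : b * b = 1 := by rw [hbdef, ← map_mul, hb, map_one]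
  have hcomm : a * b = b * a := by rw [hadef, hbdef, ← map_mul, hab, map_mul]
  obtain ⟨X, Y, hX, hY, hXX, hYY, hYX⟩ :=
    DicksonId.exists_lifts_four h2 (ho _ ha ha1) (ho _ hb hb1) hcomm fun e => hne (hφ e)
  obtain ⟨Z, hZ1, hZ2⟩ := DicksonId.exists_quaternion h2 hXX hYY hYX
    (DicksonId.trace_of_orderOf_two (by rw [hX]; exact ho _ ha ha1))
    (DicksonId.trace_of_orderOf_two (by rw [hY]; exact ho _ hb hb1))
  set w : PSL2 := (Z : PSL2)
  have e1 : w⁻¹ * a * w = b := by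
    have := congrArg (fun M : SL2 => (M : PSL2)) hZ1
    simp only [QuotientGroup.mk_mul, hX, hY] at this
    rw [mul_assoc, ← this, inv_mul_cancel_left]
  have e2 : w⁻¹ * b * w = a * b := by
    have := congrArg (fun M : SL2 => (M : PSL2)) hZ2
    simp only [QuotientGroup.mk_mul, hX, hY] at this
    rw [mul_assoc, ← this, inv_mul_cancel_left]
  refine not_isBinary_of_witness φ hr w (Kp := InV) (fun u => ⟨fun hu => ?_, ?_⟩) s4_witness
  · set K : Subgroup (Equiv.Perm (Fin 4)) := (H.map (MulAut.conj w).toMonoidHom).comap φ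
    have hK : ∀ u, u ∈ K ↔ w⁻¹ * φ u * w ∈ H := fun u => by
      rw [Subgroup.mem_comap, conj_smul_eq]
    have hdK : Equiv.swap 0 2 * Equiv.swap 1 3 ∉ K := fun h => by
      rw [hK, ← hr] at h
      obtain ⟨v, hv⟩ := h
      have e3 : φ v * b * (φ v)⁻¹ = a * b := by
        rw [hv, ← e1, show w⁻¹ * φ (Equiv.swap 0 2 * Equiv.swap 1 3) * w * (w⁻¹ * a * w) *
          (w⁻¹ * φ (Equiv.swap 0 2 * Equiv.swap 1 3) * w)⁻¹ =
          w⁻¹ * (φ (Equiv.swap 0 2 * Equiv.swap 1 3) * a * (φ (Equiv.swap 0 2 * Equiv.swap 1 3))⁻¹) * w by group,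
          hadef, ← map_inv, ← map_mul, ← map_mul, hd, ← hbdef, e2, ← hadef, e1]
      refine s4_conj v (hφ ?_)
      rw [map_mul, map_mul, map_inv, map_mul]
      exact e3
    have hVK : ∀ v, InV v → v ∈ K := by
      have m1 : Equiv.swap 0 1 ∈ K := by rw [hK, ← hadef, e1, hbdef, ← hr]; exact ⟨_, rfl⟩
      have m2 : Equiv.swap 2 3 ∈ K := by
        rw [hK, ← hbdef, e2, hadef, hbdef, ← map_mul, ← hr]; exact ⟨_, rfl⟩
      rintro v (rfl | rfl | rfl | rfl)
      exacts [K.one_mem, m1, m2, K.mul_mem m1 m2]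
    have huK : u ∈ K := (hK u).mpr hu
    refine (s4_generate u).resolve_right ?_
    rintro ⟨p, q, hp, hq, h | ⟨r, hr', h⟩⟩
    · exact hdK (h ▸ K.mul_mem (K.mul_mem (hVK p hp) huK) (hVK q hq))
    · exact hdK (h ▸ K.mul_mem (K.mul_mem (K.mul_mem (K.mul_mem (hVK p hp) huK) (hVK q hq)) (hVK r hr')) huK)
  · rintro (rfl | rfl | rfl | rfl)
    · rw [map_one, mul_one, inv_mul_cancel]; exact H.one_mem
    · rw [← hadef, e1, hbdef, ← hr]; exact ⟨_, rfl⟩
    · rw [← hbdef, e2, hadef, hbdef, ← map_mul, ← hr]; exact ⟨_, rfl⟩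
    · rw [map_mul, ← hadef, ← hbdef, show w⁻¹ * (a * b) * w = (w⁻¹ * a * w) * (w⁻¹ * b * w) by group,
        e1, e2, hadef, hbdef, ← map_mul, ← map_mul, ← hr]
      exact ⟨_, rfl⟩

variable {p : ℕ} [hp : Fact p.Prime] [CharP F p]

/-- Few elements commute with `φ x` and normalise the image. -/
theorem card_centralizer_le {E : Type*} [Group E] [Fintype E] [DecidableEq E] (φ : E →* PSL2)
    (hφ : Function.Injective φ) {H : Subgroup PSL2} (hr : φ.range = H) {x y : E} {k : ℕ}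
    (hx : x * x ≠ 1) (hy : y * y = 1) (hy1 : y ≠ 1) (hxy : (x * y) ^ k = 1)
    (hnc : x * (y * x * y⁻¹) ≠ (y * x * y⁻¹) * x)
    (hC : Subgroup.centralizer ({φ x} : Set PSL2) ≤ Subgroup.normalizer (H : Set PSL2)) :
    Nat.card (Subgroup.centralizer ({φ x} : Set PSL2)) ≤
      (Finset.univ.filter fun z : E => z * z = 1 ∧ z ≠ 1 ∧ (x * z) ^ k = 1).card := by
  classical
  set S := Finset.univ.filter fun z : E => z * z = 1 ∧ z ≠ 1 ∧ (x * z) ^ k = 1
  rw [← Nat.card_eq_finsetCard]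
  have hmem : ∀ g : Subgroup.centralizer ({φ x} : Set PSL2), ∃ z : S, φ z = g * φ y * (g : PSL2)⁻¹ := by
    intro g
    have hg := Subgroup.mem_centralizer_singleton_iff.mp g.2
    have hin : (g : PSL2) * φ y * (g : PSL2)⁻¹ ∈ H :=
      (Subgroup.mem_normalizer_iff.mp (hC g.2) _).mp (hr ▸ ⟨y, rfl⟩)
    rw [← hr] at hin
    obtain ⟨z, hz⟩ := hin
    refine ⟨⟨z, Finset.mem_filter.mpr ⟨Finset.mem_univ z, hφ ?_, fun e => hy1 (hφ ?_), hφ ?_⟩⟩, hz⟩
    · rw [map_mul, hz, sq_conj, ← map_mul, hy, map_one, mul_one, mul_inv_cancel]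
    · have := hz
      rw [e, map_one] at this
      rw [map_one, ← conj_eq_one_iff (g : PSL2), ← this]
    · rw [map_one, map_pow, map_mul, hz,
        show φ x * ((g : PSL2) * φ y * (g : PSL2)⁻¹) = (g : PSL2) * (φ x * φ y) * (g : PSL2)⁻¹ by
          rw [← mul_assoc (g : PSL2), hg]; group,
        conj_pow, ← map_mul, ← map_pow, hxy, map_one, mul_one, mul_inv_cancel]
  choose f hf using hmem
  refine Nat.card_le_card_of_injective f fun g g' e => ?_
  have he := hf g
  rw [e, hf g'] at he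
  by_contra hne
  have hne' : (g' : PSL2)⁻¹ * g ≠ 1 := fun h => hne (Subtype.ext (inv_mul_eq_one.mp h).symm)
  have hcx : ((g' : PSL2)⁻¹ * g) * φ x = φ x * ((g' : PSL2)⁻¹ * g) :=
    Subgroup.mem_centralizer_singleton_iff.mp
      (Subgroup.mul_mem _ (Subgroup.inv_mem _ g'.2) g.2)
  have hcy : ((g' : PSL2)⁻¹ * g) * φ y = φ y * ((g' : PSL2)⁻¹ * g) := by
    calc (g' : PSL2)⁻¹ * g * φ y = (g' : PSL2)⁻¹ * ((g : PSL2) * φ y * (g : PSL2)⁻¹) * g := by group
      _ = (g' : PSL2)⁻¹ * ((g' : PSL2) * φ y * (g' : PSL2)⁻¹) * g := by rw [he]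
      _ = φ y * ((g' : PSL2)⁻¹ * g) := by group
  refine hnc (hφ ?_)
  rw [map_mul φ x, map_mul φ (y * x * y⁻¹)]
  refine comm_of_common hne' (fun h => hx (hφ ?_)) (fun h => hx (hφ ?_)) hcx ?_
  · rw [map_mul, h, map_one]
  · rw [map_mul, map_mul, map_inv, sq_conj, conj_eq_one_iff] at h
    rw [map_mul, h, map_one]
  · rw [map_mul, map_mul, map_inv]
    exact ((Commute.mul_right (hcy : Commute _ _) (hcx : Commute _ _)).mul_right
      (Commute.inv_right (hcy : Commute _ _))).eq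

/-- A torus through an element of order three. -/
theorem exists_three_torus (hp2 : p ≠ 2) (hp3 : p ≠ 3) {x : PSL2} (hx : orderOf x = 3) :
    ∃ y : PSL2, (2 * orderOf y + 1 = Fintype.card F ∨ 2 * orderOf y = Fintype.card F + 1) ∧
      3 ∣ orderOf y ∧ orderOf y ≤ Nat.card (Subgroup.centralizer ({x} : Set PSL2)) ∧ y * x = x * y := by
  obtain ⟨f, hf, hq⟩ := exists_card_eq_pow (F := F) p
  have hodd : Fintype.card F % 2 = 1 := by
    rw [hq]; exact Nat.odd_iff.mp (hp.out.odd_of_ne_two hp2).pow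
  have hgcd : Nat.gcd 2 (Fintype.card F - 1) = 2 := Nat.gcd_eq_left (by omega)
  have h3 : ¬ 3 ∣ Fintype.card F := fun h => hp3
    ((Nat.prime_dvd_prime_iff_eq Nat.prime_three hp.out).mp (Nat.prime_three.dvd_of_dvd_pow (hq ▸ h))).symm
  have hk : ¬ p ∣ 3 := fun h => hp3 ((Nat.prime_dvd_prime_iff_eq hp.out Nat.prime_three).mp h)
  have key : ∀ N, (N = Fintype.card F - 1 ∨ N = Fintype.card F + 1) → 3 ∣ N →
      ∃ y : PSL2, 2 * orderOf y = N ∧ 3 ∣ orderOf y ∧
        orderOf y ≤ Nat.card (Subgroup.centralizer ({x} : Set PSL2)) ∧ y * x = x * y := by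
    intro N hN hN3
    have hN2 : 2 ∣ N := by rcases hN with rfl | rfl <;> omega
    have hdvd : 3 ∣ N / 2 := by omega
    obtain ⟨y, hy, hxy⟩ := DicksonId.exists_torus_of_orderOf (p := p) hx hk (by norm_num) hN (hgcd.symm ▸ hdvd)
    rw [hgcd] at hy
    have hcomm := (DicksonId.commute_of_mem_zpowers hxy).eq
    refine ⟨y, by omega, hy ▸ hdvd, ?_, hcomm⟩
    rw [← Nat.card_zpowers]
    exact Subgroup.card_le_of_le (Subgroup.zpowers_le.mpr (Subgroup.mem_centralizer_singleton_iff.mpr hcomm))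
  rcases (show 3 ∣ Fintype.card F - 1 ∨ 3 ∣ Fintype.card F + 1 by
    rw [Nat.dvd_iff_mod_eq_zero] at h3
    rw [Nat.dvd_iff_mod_eq_zero, Nat.dvd_iff_mod_eq_zero]
    rcases (show Fintype.card F % 3 = 1 ∨ Fintype.card F % 3 = 2 by omega) with e | e
    · exact Or.inl (by omega)
    · exact Or.inr (by omega)) with h | h
  · obtain ⟨y, h1, h2, h3⟩ := key _ (Or.inl rfl) h
    exact ⟨y, Or.inl (by omega), h2, h3⟩
  · obtain ⟨y, h1, h2, h3⟩ := key _ (Or.inr rfl) h
    exact ⟨y, Or.inr (by omega), h2, h3⟩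

/-- The tetrahedral groups. -/
theorem not_isBinary_alt_four (hp2 : p ≠ 2) (hp3 : p ≠ 3) (h4 : 4 ≤ Fintype.card F)
    (h5 : Fintype.card F ≠ 5) {H : Subgroup PSL2} (he : Nonempty (H ≃* alternatingGroup (Fin 4))) :
    ¬ IsBinary H := by
  classical
  have hcardH : Nat.card H = 12 := by
    obtain ⟨e⟩ := he
    rw [Nat.card_congr e.toEquiv, Nat.card_eq_fintype_card]
    decide +kernel
  obtain ⟨φ, hφ, hr⟩ := exists_hom_of_equiv he
  have hmemH : ∀ u, φ u ∈ H := fun u => hr ▸ ⟨u, rfl⟩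
  obtain ⟨hx3, hx2, hv2, hv1, hnc, hxv, hcount⟩ := a4_facts
  set x : PSL2 := φ tc with hxdef
  by_cases hcase : ∃ c : PSL2, (c⁻¹ * x * c = x ∨ c⁻¹ * x * c = x⁻¹) ∧
      c ∉ Subgroup.normalizer (H : Set PSL2)
  · obtain ⟨c, hcx, hcN⟩ := hcase
    set K : Subgroup (alternatingGroup (Fin 4)) := (H.map (MulAut.conj c).toMonoidHom).comap φ
    have hK : ∀ u, u ∈ K ↔ c⁻¹ * φ u * c ∈ H := fun u => by rw [Subgroup.mem_comap, conj_smul_eq]
    have hxK : tc ∈ K := by
      rw [hK]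
      rcases hcx with e | e <;> rw [← hxdef, e]
      · exact hmemH tc
      · exact H.inv_mem (hmemH tc)
    have hTK : ∀ u, InT u → u ∈ K := by
      rintro u (rfl | rfl | rfl)
      exacts [K.one_mem, hxK, K.mul_mem hxK hxK]
    have htv : tv ∉ K := fun h => hcN (by
      refine Subgroup.mem_normalizer_iff''.mpr ?_
      have hle : ∀ u ∈ H, c⁻¹ * u * c ∈ H := by
        intro u hu
        rw [← hr] at hu
        obtain ⟨v, rfl⟩ := hu
        rw [← hK]
        rcases a4_back v with hv | ⟨r, s, hr', hs, rfl⟩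
        · exact hTK v hv
        · exact K.mul_mem (K.mul_mem (hTK r hr') h) (hTK s hs)
      have heq : H.map (MulAut.conj c⁻¹).toMonoidHom = H :=
        Subgroup.eq_of_le_of_card_ge (by
          rintro _ ⟨u, hu, rfl⟩
          simpa using hle u hu)
          (Subgroup.card_map_of_injective (MulEquiv.injective _)).ge
      refine fun u => ⟨hle u, fun hu => ?_⟩
      rw [← heq, conj_smul_eq, inv_inv] at hu
      simpa [mul_assoc] using hu)
    refine not_isBinary_of_witness φ hr c (Kp := InT) (fun u => ⟨fun hu => ?_, fun hu => (hK u).mp (hTK u hu)⟩)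
      a4_witness
    refine (a4_generate u).resolve_right ?_
    rintro ⟨r, s, hr', hs, e⟩
    exact htv (e ▸ K.mul_mem (K.mul_mem (hTK r hr') ((hK u).mpr hu)) (hTK s hs))
  push Not at hcase
  -- the normaliser of every three-group normalises
  have hCN : Subgroup.centralizer ({x} : Set PSL2) ≤ Subgroup.normalizer (H : Set PSL2) := fun g hg => by
    refine hcase g (Or.inl ?_)
    rw [mul_assoc, ← Subgroup.mem_centralizer_singleton_iff.mp hg, inv_mul_cancel_left]
  have hxo : orderOf x = 3 := by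
    rw [hxdef, orderOf_injective φ hφ]
    haveI : Fact (Nat.Prime 3) := ⟨Nat.prime_three⟩
    exact orderOf_eq_prime (by rw [pow_succ, pow_two, hx3]) fun h => hx2 (by rw [h, one_mul])
  have h7 : Fintype.card F = 7 := by
    obtain ⟨y, hy, hy3, hyC, -⟩ := exists_three_torus hp2 hp3 hxo
    have hb := (card_centralizer_le φ hφ hr (k := 3) hx2 hv2 hv1 hxv hnc hCN).trans hcount
    rw [← hxdef] at hb
    have := hyC.trans hb
    obtain ⟨j, hj⟩ := hy3
    omega
  have h70 : (7 : F) = 0 := by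
    have := Nat.cast_card_eq_zero F
    rwa [h7, Nat.cast_ofNat] at this
  have hp7 : p = 7 := by
    have hd : p ∣ 7 := (CharP.cast_eq_zero_iff F p 7).mp (by exact_mod_cast h70)
    exact (Nat.prime_dvd_prime_iff_eq hp.out (by norm_num)).mp hd
  -- the unique conjugate through an element of order three
  have uniq : ∀ (g₁ g₂ u : PSL2), u * u * u = 1 → u ≠ 1 → g₁⁻¹ * u * g₁ ∈ H → g₂⁻¹ * u * g₂ ∈ H →
      ∀ w, g₁⁻¹ * w * g₁ ∈ H → g₂⁻¹ * w * g₂ ∈ H := by
    intro g₁ g₂ u hu3 hu1 h1 h2 w hw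
    have hstd : ∀ g : PSL2, g⁻¹ * u * g ∈ H → ∃ h ∈ H,
        h * (g⁻¹ * u * g) * h⁻¹ = x ∨ h * (g⁻¹ * u * g) * h⁻¹ = x⁻¹ := by
      intro g hg
      rw [← hr] at hg
      obtain ⟨v, hv⟩ := hg
      obtain ⟨h, hh⟩ := a4_three v (hφ (by
        rw [map_mul, map_mul, hv, map_one, show g⁻¹ * u * g * (g⁻¹ * u * g) * (g⁻¹ * u * g) =
          g⁻¹ * (u * u * u) * g by group, hu3, mul_one, inv_mul_cancel])) (fun e => hu1 (by
        rw [e, map_one] at hv
        rw [show u = g * (g⁻¹ * u * g) * g⁻¹ by group, ← hv, mul_one, mul_inv_cancel]))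
      refine ⟨φ h, hmemH h, ?_⟩
      rw [← hv]
      rcases hh with e | e
      · exact Or.inl (by rw [← map_inv, ← map_mul, ← map_mul, e])
      · exact Or.inr (by rw [← map_inv, ← map_mul, ← map_mul, e, map_inv])
    obtain ⟨k₁, hk₁, e₁⟩ := hstd g₁ h1
    obtain ⟨k₂, hk₂, e₂⟩ := hstd g₂ h2
    set n := k₁ * g₁⁻¹ * g₂ * k₂⁻¹
    have hn : n⁻¹ * x * n = x ∨ n⁻¹ * x * n = x⁻¹ := by
      have key : n⁻¹ * (k₁ * (g₁⁻¹ * u * g₁) * k₁⁻¹) * n = k₂ * (g₂⁻¹ * u * g₂) * k₂⁻¹ := by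
        simp only [n]; group
      have key' : n⁻¹ * (k₁ * (g₁⁻¹ * u * g₁) * k₁⁻¹)⁻¹ * n = (k₂ * (g₂⁻¹ * u * g₂) * k₂⁻¹)⁻¹ := by
        rw [← key]; group
      rcases e₁ with e₁ | e₁ <;> rcases e₂ with e₂ | e₂ <;> simp only [e₁, e₂, inv_inv] at key key'
      · exact Or.inl key
      · exact Or.inr key
      · exact Or.inr key'
      · exact Or.inl key'
    have hnN := hcase n hn
    have hN : ∀ {h}, h ∈ H → h ∈ Subgroup.normalizer (H : Set PSL2) := fun {h} hh => Subgroup.le_normalizer hh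
    have hg : g₁⁻¹ * g₂ ∈ Subgroup.normalizer (H : Set PSL2) := by
      have : g₁⁻¹ * g₂ = k₁⁻¹ * n * k₂ := by simp only [n]; group
      rw [this]
      exact Subgroup.mul_mem _ (Subgroup.mul_mem _ (Subgroup.inv_mem _ (hN hk₁)) hnN) (hN hk₂)
    have := (Subgroup.mem_normalizer_iff''.mp hg _).mp hw
    simpa [mul_assoc] using this
  -- the triangle
  have h2 : (2 : F) ≠ 0 := fun e => one_ne_zero (show (1 : F) = 0 by linear_combination h70 - 3 * e)
  have h30 : (3 : F) ≠ 0 := fun e => one_ne_zero (show (1 : F) = 0 by linear_combination h70 - 2 * e)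
  set l : F := 3 with hl
  have hli : l⁻¹ = -2 := inv_eq_of_mul_eq_one_right (by rw [hl]; linear_combination (-1) * h70)
  obtain ⟨X, hX⟩ := QuotientGroup.mk_surjective x
  have hXt : Matrix.trace (X : M2) = 1 ∨ Matrix.trace (X : M2) = -1 :=
    sq_eq_one_iff.mp (DicksonId.trace_of_orderOf_three (by rw [hX]; exact hxo))
  have hXp : (X : PSL2) ^ p ≠ 1 := fun h => by
    have := orderOf_dvd_of_pow_eq_one h
    rw [hX, hxo, hp7] at this
    omega
  have hconj : ∀ B : SL2, (B : PSL2) ≠ 1 → (Matrix.trace (B : M2) = 1 ∨ Matrix.trace (B : M2) = -1) →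
      ∃ P : PSL2, P⁻¹ * (B : PSL2) * P ∈ H ∧ (B : PSL2) * (B : PSL2) * (B : PSL2) = 1 := by
    intro B hB ht
    obtain ⟨P, hP⟩ := exists_conj (p := p) hXp hB (by
      rcases ht with e | e <;> rcases hXt with e' | e' <;> rw [e, e'] <;> simp)
    refine ⟨P, ?_, ?_⟩
    · rw [← hP, hX, show P⁻¹ * (P * x * P⁻¹) * P = x by group]; exact hmemH tc
    · rw [← hP, hX, show P * x * P⁻¹ * (P * x * P⁻¹) * (P * x * P⁻¹) = P * (x * x * x) * P⁻¹ by group,
        hxdef, ← map_mul, ← map_mul, hx3, map_one, mul_one, mul_inv_cancel]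
  set A : SL2 := dg l h30
  set B : SL2 := up 1 * A * up (-1)
  have hAc : (A : M2) = !![3, 0; 0, -2] := by rw [coe_dg, hli]
  have hBc : (B : M2) = !![3, -5; 0, -2] := by
    simp only [B, Matrix.SpecialLinearGroup.coe_mul, hAc, coe_up]
    ext i j
    fin_cases i <;> fin_cases j <;> simp [Matrix.mul_apply, Fin.sum_univ_two] <;> norm_num
  have hABc : ((A * B : SL2) : M2) = !![9, -15; 0, 4] := by
    rw [Matrix.SpecialLinearGroup.coe_mul, hAc, hBc]
    ext i j
    fin_cases i <;> fin_cases j <;> simp [Matrix.mul_apply, Fin.sum_univ_two] <;> norm_num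
  have h14 : (1 : F) ≠ 4 := fun e => h30 (by linear_combination -e)
  obtain ⟨ga, hga, hA3⟩ := hconj A (mk_ne_one (by rw [Matrix.trace_fin_two, hAc]; simp; norm_num; exact h14))
    (Or.inl (by rw [Matrix.trace_fin_two, hAc]; simp; norm_num))
  obtain ⟨gb, hgb, hB3⟩ := hconj B (mk_ne_one (by rw [Matrix.trace_fin_two, hBc]; simp; norm_num; exact h14))
    (Or.inl (by rw [Matrix.trace_fin_two, hBc]; simp; norm_num))
  have hABt : Matrix.trace ((A * B : SL2) : M2) = -1 := by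
    rw [Matrix.trace_fin_two, hABc]; simp; linear_combination 2 * h70
  obtain ⟨gc, hgc, hC3⟩ := hconj (A * B) (mk_ne_one (by rw [hABt]; simpa using h14)) (Or.inr hABt)
  rw [QuotientGroup.mk_mul] at hgc hC3
  set a : PSL2 := (A : PSL2)
  set b : PSL2 := (B : PSL2)
  have ha1 : a ≠ 1 := mk_ne_one (by rw [Matrix.trace_fin_two, hAc]; simp; norm_num; exact h14)
  have hb1 : b ≠ 1 := mk_ne_one (by rw [Matrix.trace_fin_two, hBc]; simp; norm_num; exact h14)
  have hab1 : a * b ≠ 1 := by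
    rw [← QuotientGroup.mk_mul]; exact mk_ne_one (by rw [hABt]; simpa using h14)
  -- no conjugate contains `a` and `b`
  have hdiff : ∀ g : PSL2, g⁻¹ * a * g ∈ H → ¬ g⁻¹ * b * g ∈ H := by
    intro g h1 h2'
    have hm : g⁻¹ * (a⁻¹ * b) * g ∈ H := by
      rw [show g⁻¹ * (a⁻¹ * b) * g = (g⁻¹ * a * g)⁻¹ * (g⁻¹ * b * g) by group]
      exact H.mul_mem (H.inv_mem h1) h2'
    obtain ⟨s, hs⟩ : ∃ s : F, a⁻¹ * b = ((up s : SL2) : PSL2) ∧ s ≠ 0 := by
      refine ⟨(-2) * (-5), ?_, mul_ne_zero (neg_ne_zero.mpr h2) (neg_ne_zero.mpr fun e => h2 (by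
        linear_combination h70 - e))⟩
      rw [← QuotientGroup.mk_inv, ← QuotientGroup.mk_mul]
      congr 1
      apply eq_of_coe <;>
        simp [Matrix.SpecialLinearGroup.coe_mul, hAc, hBc, coe_up, Matrix.vecMul, dotProduct,
          Matrix.mul_apply, Fin.sum_univ_two, Matrix.adjugate_fin_two] <;>
        first | (norm_num; done) | linear_combination (-1) * h70 | linear_combination h70
    have h12 : ((up s : SL2) : PSL2) ^ 12 = 1 := by
      have e := pow_card_eq_one' (x := (⟨_, hm⟩ : H))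
      rw [hcardH, Subtype.ext_iff] at e
      simp only [SubgroupClass.coe_pow, OneMemClass.coe_one] at e
      rw [show g⁻¹ * (a⁻¹ * b) * g = g⁻¹ * (a⁻¹ * b) * (g⁻¹)⁻¹ by rw [inv_inv], conj_pow,
        conj_eq_one_iff, hs.1] at e
      exact e
    rw [← QuotientGroup.mk_pow] at h12
    obtain ⟨e01, -, -⟩ := exists_diag_sign h12
    have hpow : ∀ n : ℕ, (up s : SL2) ^ n = up ((n : F) * s) := by
      intro n
      induction n with
      | zero => simp [up_zero]
      | succ n ih => rw [pow_succ, ih, ← up_add]; congr 1; push_cast; ring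
    rw [hpow, coe_up] at e01
    simp at e01
    rcases e01 with e | e
    · exact one_ne_zero (show (1 : F) = 0 by
        have h12 : (12 : F) = 0 := by exact_mod_cast e
        linear_combination (-5 : F) * h70 + 3 * h12)
    · exact hs.2 e
  refine not_isBinary_of_triangle ⟨ga, trivial, gb, trivial, gc, trivial, a⁻¹, b, ?_, hgb, ?_,
    fun g hgA hgB hgC => ?_⟩
  · simpa [mul_assoc] using H.inv_mem hga
  · rwa [inv_inv]
  have hg2 : g * g = 1 := by
    by_contra hne
    have hg3 : g * g * g = 1 ∧ g ≠ 1 := by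
      have := hgA
      rw [← hr] at this
      obtain ⟨v, hv⟩ := this
      rcases a4_orders v with e | ⟨e, e'⟩
      · exfalso
        apply hne
        have h' := congrArg φ e
        rw [map_mul, hv, map_one, show ga⁻¹ * g * ga * (ga⁻¹ * g * ga) = ga⁻¹ * (g * g) * (ga⁻¹)⁻¹ by group,
          conj_eq_one_iff] at h'
        exact h'
      · refine ⟨?_, fun h => hne (by rw [h, mul_one])⟩
        have h' := congrArg φ e
        rw [map_mul, map_mul, hv, map_one, show ga⁻¹ * g * ga * (ga⁻¹ * g * ga) * (ga⁻¹ * g * ga) =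
          ga⁻¹ * (g * g * g) * (ga⁻¹)⁻¹ by group, conj_eq_one_iff] at h'
        exact h'
    exact hdiff gb (uniq ga gb g hg3.1 hg3.2 hgA hgB a hga) hgb
  obtain ⟨vg, hvg⟩ : ga⁻¹ * g * ga ∈ φ.range := hr.symm ▸ hgA
  obtain ⟨va, hva⟩ : ga⁻¹ * a⁻¹ * ga ∈ φ.range := hr.symm ▸ (by simpa [mul_assoc] using H.inv_mem hga)
  have ginv : g⁻¹ = g := inv_eq_of_mul_eq_one_right hg2
  rw [ginv] at hgC
  obtain ⟨h3, h1⟩ := a4_mul vg va (hφ (by
      rw [map_mul, hvg, map_one, show ga⁻¹ * g * ga * (ga⁻¹ * g * ga) = ga⁻¹ * (g * g) * ga by group,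
        hg2, mul_one, inv_mul_cancel]))
    (hφ (by
      rw [map_mul, map_mul, hva, map_one,
        show ga⁻¹ * a⁻¹ * ga * (ga⁻¹ * a⁻¹ * ga) * (ga⁻¹ * a⁻¹ * ga) = ga⁻¹ * (a * a * a)⁻¹ * ga by group,
        hA3, inv_one, mul_one, inv_mul_cancel]))
    (fun e => ha1 (by
      have h' := congrArg φ e
      rw [hva, map_one, show ga⁻¹ * a⁻¹ * ga = ga⁻¹ * a⁻¹ * (ga⁻¹)⁻¹ by group, conj_eq_one_iff, inv_eq_one] at h'
      exact h'))
  have hprod : φ (vg * va) = ga⁻¹ * (g * a⁻¹) * ga := by rw [map_mul, hvg, hva]; group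
  have hin : ga⁻¹ * (g * a⁻¹) * ga ∈ H := hprod ▸ hmemH _
  have hAC : ∀ w, gc⁻¹ * w * gc ∈ H → ga⁻¹ * w * ga ∈ H := by
    refine uniq gc ga (g * a⁻¹) ?_ ?_ hgC hin
    · have h' := congrArg φ h3
      rw [map_mul, map_mul, hprod, map_one, show ga⁻¹ * (g * a⁻¹) * ga * (ga⁻¹ * (g * a⁻¹) * ga) *
        (ga⁻¹ * (g * a⁻¹) * ga) = ga⁻¹ * ((g * a⁻¹) * (g * a⁻¹) * (g * a⁻¹)) * (ga⁻¹)⁻¹ by group,
        conj_eq_one_iff] at h'
      exact h'
    · intro e
      exact h1 (hφ (by rw [hprod, e, mul_one, inv_mul_cancel, map_one]))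
  have hba : ga⁻¹ * b * ga ∈ H := by
    rw [show ga⁻¹ * b * ga = (ga⁻¹ * a * ga)⁻¹ * (ga⁻¹ * (a * b) * ga) by group]
    exact H.mul_mem (H.inv_mem hga) (hAC _ hgc)
  exact hdiff ga hga hba

/-- The centraliser of an element of order `p` is large. -/
theorem card_le_card_centralizer {x : PSL2} (hx : x ^ p = 1) :
    Fintype.card F ≤ Nat.card (Subgroup.centralizer ({x} : Set PSL2)) := by
  have hpg : IsPGroup p (Subgroup.zpowers x) := fun g => by
    obtain ⟨i, hi⟩ := Subgroup.mem_zpowers_iff.mp g.2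
    refine ⟨1, Subtype.ext ?_⟩
    rw [pow_one, SubgroupClass.coe_pow, OneMemClass.coe_one, ← hi, ← zpow_natCast, ← _root_.zpow_mul,
      mul_comm, _root_.zpow_mul, zpow_natCast, hx, _root_.one_zpow]
  obtain ⟨P, hP⟩ := hpg.exists_le_sylow
  set U : Sylow p PSL2 :=
    (sylowU_SL (F := F) p).mapSurjective (f := QuotientGroup.mk' _) (QuotientGroup.mk'_surjective _)
  obtain ⟨h, rfl⟩ := MulAction.exists_smul_eq PSL2 U P
  have hPeq : (((h • U : Sylow p PSL2)) : Subgroup PSL2) =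
      MulAut.conj h • (uSL (F := F)).range.map (QuotientGroup.mk' _) := rfl
  have hxP := hP (Subgroup.mem_zpowers x)
  rw [hPeq] at hxP
  obtain ⟨_, ⟨t, rfl⟩, ht⟩ := Subgroup.mem_pointwise_smul_iff_inv_smul_mem.mp hxP
  have hxt : x = h * ((uSL t : SL2) : PSL2) * h⁻¹ := by
    rw [MulAut.smul_def, MulAut.inv_apply, MulAut.conj_symm_apply] at ht
    rw [show ((uSL t : SL2) : PSL2) = h⁻¹ * x * h from ht]
    group
  let f : F → Subgroup.centralizer ({x} : Set PSL2) := fun s =>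
    ⟨h * ((uSL (Multiplicative.ofAdd s) : SL2) : PSL2) * h⁻¹, Subgroup.mem_centralizer_singleton_iff.mpr (by
      rw [hxt, conj_mul, conj_mul, ← QuotientGroup.mk_mul, ← QuotientGroup.mk_mul, ← map_mul,
        ← map_mul, mul_comm])⟩
  refine (Nat.card_eq_fintype_card (α := F)).symm.trans_le (Nat.card_le_card_of_injective f fun s s' e => ?_)
  have e' := mul_right_cancel (b := h⁻¹) (congrArg Subtype.val e)
  obtain ⟨c, -, hc⟩ := exists_sign (mul_left_cancel e')
  have h00 := congrFun (congrFun hc 0) 0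
  have h01 := congrFun (congrFun hc 0) 1
  simp [coe_uSL] at h00 h01
  rw [← h00, one_mul] at h01
  exact h01.symm

/-- The icosahedral groups. -/
theorem not_isBinary_alt_five (h4 : 4 ≤ Fintype.card F) (h5 : Fintype.card F ≠ 5) {H : Subgroup PSL2}
    (hp60 : ¬ p ∣ Nat.card H ∨ p = 3) (hH : H ≠ ⊤)
    (he : Nonempty (H ≃* alternatingGroup (Fin 5))) : ¬ IsBinary H := by
  classical
  have hcardH : Nat.card H = 60 := by
    obtain ⟨e⟩ := he
    rw [Nat.card_congr e.toEquiv, Nat.card_eq_fintype_card]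
    decide +kernel
  obtain ⟨φ, hφ, hr⟩ := exists_hom_of_equiv he
  have hmemH : ∀ u, φ u ∈ H := fun u => hr ▸ ⟨u, rfl⟩
  obtain ⟨hx3, hx2, hsa, hsb, hab⟩ := a5_facts
  obtain ⟨y₀, hy2, hy1, hxy, hnc⟩ := a5_pair
  set x : PSL2 := φ fc with hxdef
  have hxo : orderOf x = 3 := by
    rw [hxdef, orderOf_injective φ hφ]
    haveI : Fact (Nat.Prime 3) := ⟨Nat.prime_three⟩
    exact orderOf_eq_prime (by rw [pow_succ, pow_two, hx3]) fun h => hx2 (by rw [h, one_mul])
  obtain ⟨c, hc, hcN⟩ : ∃ c : PSL2, c * x = x * c ∧ c ∉ Subgroup.normalizer (H : Set PSL2) := by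
    by_contra hall
    push Not at hall
    have hCN : Subgroup.centralizer ({x} : Set PSL2) ≤ Subgroup.normalizer (H : Set PSL2) := fun g hg =>
      hall g (Subgroup.mem_centralizer_singleton_iff.mp hg)
    have hbound := (card_centralizer_le φ hφ hr (k := 5) hx2 hy2 hy1 hxy hnc hCN).trans a5_count
    rw [← hxdef] at hbound
    obtain ⟨f, hf, hq⟩ := exists_card_eq_pow (F := F) p
    by_cases hp3 : p = 3
    · have := card_le_card_centralizer (p := p) (x := x) (by rw [hp3, ← hxo]; exact pow_orderOf_eq_one x)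
      have h9 : 9 ≤ Fintype.card F := by
        rw [hq, hp3] at h4 ⊢
        rcases Nat.lt_or_ge f 2 with h | h
        · interval_cases f; omega
        · exact le_trans (by norm_num) (Nat.pow_le_pow_right (by norm_num) h)
      omega
    have hp' : ¬ p ∣ 60 := fun h => (hp60.resolve_right hp3) (hcardH ▸ h)
    have hp2 : p ≠ 2 := fun e => hp' (e ▸ by norm_num)
    obtain ⟨y, hy, hy3, hyC, hyx⟩ := exists_three_torus hp2 hp3 hxo
    have hy6 := hyC.trans hbound
    have hcard := DicksonId.card_PSL_mul (F := F) (p := p)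
    have hgcd : Nat.gcd 2 (Fintype.card F - 1) = 2 := by
      refine Nat.gcd_eq_left ?_
      have : Fintype.card F % 2 = 1 := by rw [hq]; exact Nat.odd_iff.mp (hp.out.odd_of_ne_two hp2).pow
      omega
    have h60 : 60 ∣ Nat.card PSL2 := hcardH ▸ H.card_subgroup_dvd_card
    rw [hgcd] at hcard
    obtain ⟨j, hj⟩ := hy3
    have hj2 : j = 1 ∨ j = 2 := by
      rcases hy with hy | hy <;> omega
    rcases hy with hy | hy <;> rcases hj2 with rfl | rfl <;>
      rw [hj] at hy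
    · rw [show Fintype.card F = 7 by omega] at hcard; norm_num [-Nat.card_eq_fintype_card] at hcard; omega
    · rw [show Fintype.card F = 13 by omega] at hcard; norm_num [-Nat.card_eq_fintype_card] at hcard; omega
    · omega
    · -- the centraliser is in the normaliser, which is too large
      have h11 : Fintype.card F = 11 := by omega
      rw [h11] at hcard
      norm_num [-Nat.card_eq_fintype_card] at hcard
      have h660 : Nat.card PSL2 = 660 := by omega
      set N := Subgroup.normalizer (H : Set PSL2)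
      have hyH : y ∉ H := fun h => by
        rw [← hr] at h
        obtain ⟨v, hv⟩ := h
        rw [← hv, orderOf_injective φ hφ] at hj
        have hno : ∀ w : alternatingGroup (Fin 5), w ^ 6 = 1 → w ^ 2 = 1 ∨ w ^ 3 = 1 := by decide +kernel
        rcases hno v (by rw [show (6 : ℕ) = orderOf v by omega]; exact pow_orderOf_eq_one v) with e' | e' <;>
        · have := Nat.le_of_dvd (by norm_num) (orderOf_dvd_of_pow_eq_one e')
          omega
      have hlt : H < N := lt_of_le_of_ne Subgroup.le_normalizer fun e =>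
        hyH (e ▸ hCN (Subgroup.mem_centralizer_singleton_iff.mpr hyx))
      have hd1 : 60 ∣ Nat.card N := hcardH ▸ Subgroup.card_dvd_of_le hlt.le
      have hd2 : Nat.card N ∣ 660 := h660 ▸ N.card_subgroup_dvd_card
      have hgt : 60 < Nat.card N := by
        rw [← hcardH]
        by_contra hle
        exact hlt.ne (Subgroup.eq_of_le_of_card_ge hlt.le (by omega))
      obtain ⟨i, hi⟩ := hd1
      have hi11 : i = 11 := by
        have : i ∣ 11 := (Nat.mul_dvd_mul_iff_left (by norm_num : 0 < 60)).mp (hi ▸ hd2)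
        rcases (Nat.dvd_prime (by norm_num)).mp this with e | e
        · omega
        · exact e
      have hNtop : N = ⊤ := Subgroup.eq_top_of_card_eq _ (by rw [h660, hi, hi11])
      haveI := DicksonId.isSimple (F := F) h4
      have hn : H.Normal := Subgroup.normalizer_eq_top_iff.mp hNtop
      rcases hn.eq_bot_or_eq_top with e | e
      · rw [e, Subgroup.card_bot] at hcardH; omega
      · exact hH e
  set K : Subgroup (alternatingGroup (Fin 5)) := (H.map (MulAut.conj c).toMonoidHom).comap φ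
  have hK : ∀ u, u ∈ K ↔ c⁻¹ * φ u * c ∈ H := fun u => by rw [Subgroup.mem_comap, conj_smul_eq]
  have hxK : fc ∈ K := by
    rw [hK, ← hxdef, mul_assoc, ← hc, inv_mul_cancel_left]
    exact hmemH fc
  have hKtop : K ≠ ⊤ := fun e => hcN (by
    have hle : ∀ u ∈ H, c⁻¹ * u * c ∈ H := by
      intro u hu
      rw [← hr] at hu
      obtain ⟨v, rfl⟩ := hu
      rw [← hK, e]; trivial
    have heq : H.map (MulAut.conj c⁻¹).toMonoidHom = H :=
      Subgroup.eq_of_le_of_card_ge (by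
        rintro _ ⟨u, hu, rfl⟩
        simpa using hle u hu)
        (Subgroup.card_map_of_injective (MulEquiv.injective _)).ge
    refine Subgroup.mem_normalizer_iff''.mpr fun u => ⟨hle u, fun hu => ?_⟩
    rw [← heq, conj_smul_eq, inv_inv] at hu
    simpa [mul_assoc] using hu)
  have no5 : ∀ u ∈ K, ¬ (u ^ 5 = 1 ∧ u ≠ 1) := fun u hu h => a5_proper hKtop hxK hu h.1 h.2
  have hXK : ∀ u, InX u → u ∈ K := by
    rintro u (rfl | rfl | rfl)
    exacts [K.one_mem, hxK, K.mul_mem hxK hxK]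
  have hDK : ∀ d, d ∈ K → ∀ u, InD d u → u ∈ K := by
    intro d hd u hu
    have hxx := K.mul_mem hxK hxK
    simp only [InD, List.mem_cons, List.not_mem_nil, or_false] at hu
    rcases hu with rfl | rfl | rfl | rfl | rfl | rfl | rfl | rfl | rfl
    exacts [hd, K.mul_mem hd hxK, K.mul_mem hd hxx, K.mul_mem hxK hd, K.mul_mem (K.mul_mem hxK hd) hxK,
      K.mul_mem (K.mul_mem hxK hd) hxx, K.mul_mem hxx hd, K.mul_mem (K.mul_mem hxx hd) hxK,
      K.mul_mem (K.mul_mem hxx hd) hxx]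
  have hKD : ∀ d, d ∈ [fs, fa, fb] → ∀ u ∈ K, InD d u → d ∈ K := by
    intro d hd u hu h
    obtain ⟨r, s, hr', hs, e⟩ := a5_back d hd u h
    exact e ▸ K.mul_mem (K.mul_mem (hXK r hr') hu) (hXK s hs)
  have hcases : ∀ u ∈ K, InX u ∨ (fs ∈ K ∧ InD fs u) ∨ (fa ∈ K ∧ InD fa u) ∨ (fb ∈ K ∧ InD fb u) := by
    intro u hu
    rcases a5_cases u with h | h | h | h | h | h
    · exact Or.inl h
    · exact Or.inr (Or.inl ⟨hKD fs (by simp) u hu h, h⟩)
    · exact Or.inr (Or.inr (Or.inl ⟨hKD fa (by simp) u hu h, h⟩))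
    · exact Or.inr (Or.inr (Or.inr ⟨hKD fb (by simp) u hu h, h⟩))
    · exact absurd h (no5 u hu)
    · exact absurd h (no5 _ (K.mul_mem hu hxK))
  have excl : ¬ (fs ∈ K ∧ fa ∈ K) ∧ ¬ (fs ∈ K ∧ fb ∈ K) ∧ ¬ (fa ∈ K ∧ fb ∈ K) :=
    ⟨fun h => no5 _ (K.mul_mem (K.mul_mem h.1 hxK) h.2) hsa,
      fun h => no5 _ (K.mul_mem (K.mul_mem h.1 hxK) h.2) hsb,
      fun h => no5 _ (K.mul_mem (K.mul_mem h.1 hxK) h.2) hab⟩
  by_cases hs : fs ∈ K
  · refine not_isBinary_of_witness φ hr c (Kp := InS) (fun u => ⟨fun hu => ?_, fun hu => (hK u).mp ?_⟩) a5_witness_s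
    · rcases hcases u ((hK u).mpr hu) with h | h | h | h
      exacts [Or.inl h, Or.inr h.2, absurd ⟨hs, h.1⟩ excl.1, absurd ⟨hs, h.1⟩ excl.2.1]
    · exact hu.elim (hXK u) (hDK fs hs u)
  by_cases ha : fa ∈ K
  · refine not_isBinary_of_witness φ hr c (Kp := InA) (fun u => ⟨fun hu => ?_, fun hu => (hK u).mp ?_⟩) a5_witness_a
    · rcases hcases u ((hK u).mpr hu) with h | h | h | h
      exacts [Or.inl h, absurd h.1 hs, Or.inr h.2, absurd ⟨ha, h.1⟩ excl.2.2]
    · exact hu.elim (hXK u) (hDK fa ha u)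
  by_cases hb : fb ∈ K
  · refine not_isBinary_of_witness φ hr c (Kp := InB) (fun u => ⟨fun hu => ?_, fun hu => (hK u).mp ?_⟩) a5_witness_b
    · rcases hcases u ((hK u).mpr hu) with h | h | h | h
      exacts [Or.inl h, absurd h.1 hs, absurd h.1 ha, Or.inr h.2]
    · exact hu.elim (hXK u) (hDK fb hb u)
  refine not_isBinary_of_witness φ hr c (Kp := InX) (fun u => ⟨fun hu => ?_, fun hu => (hK u).mp (hXK u hu)⟩)
    a5_witness_cyclic
  rcases hcases u ((hK u).mpr hu) with h | h | h | h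
  exacts [h, absurd h.1 hs, absurd h.1 ha, absurd h.1 hb]

end Cfsg.Agent.Lib.BinaryPSL2
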