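import Cfsg.Agent.Lib.BinaryPSL2.Inverters
import Cfsg.Agent.Lib.BinaryPSL2.Triangles
import Mathlib.Tactic.LinearCombination

/-!
The binary actions in characteristic two.
-/

set_option autoImplicit false

namespace Cfsg.Agent.Lib.BinaryPSL2

open Matrix Cfsg.Agent.Lib.Linear
open Cfsg.Agent.Lib.PLocal.SLTwo (up lo up_add up_zero)
open Cfsg.Agent.Lib.Dickson (coe_up up_inv)

variable {F : Type*} [Field F] [Fintype F]

local notation "SL2" => Matrix.SpecialLinearGroup (Fin 2) F
local notation "M2" => Matrix (Fin 2) (Fin 2) F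
local notation "PSL2" => Matrix.ProjectiveSpecialLinearGroup (Fin 2) F

/-- The translations in characteristic two. -/
theorem isBinary_translations (h2 : (2 : F) = 0) {U : Subgroup PSL2}
    (hU : ∀ X : SL2, (X : PSL2) ∈ U ↔ ∃ a, (X : PSL2) = ((up a : SL2) : PSL2)) : IsBinary U := by
  have hsq : ∀ u ∈ U, u * u = 1 := by
    intro u hu
    obtain ⟨X, rfl⟩ := QuotientGroup.mk_surjective u
    obtain ⟨a, ha⟩ := (hU X).mp hu
    rw [ha, ← QuotientGroup.mk_mul, ← up_add, show a + a = 0 by linear_combination a * h2, up_zero,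
      QuotientGroup.mk_one]
  refine isBinary_of_no_triangle U fun x y z a b hne ha hb hab => ?_
  rw [or_iff_not_imp_left]
  intro ha1
  by_contra hb1
  apply hne
  -- move `x` to the identity
  set w := x⁻¹ * y with hw
  have ha' : x⁻¹ * a * x ∈ U := ha
  obtain ⟨A, hA⟩ := QuotientGroup.mk_surjective (x⁻¹ * a * x)
  obtain ⟨s, hs⟩ := (hU A).mp (by rw [hA]; exact ha')
  obtain ⟨B, hB⟩ := QuotientGroup.mk_surjective (x⁻¹ * b * x)
  have hs0 : s ≠ 0 := fun e => ha1 (by
    rw [e, up_zero, QuotientGroup.mk_one, hA] at hs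
    calc a = x * (x⁻¹ * a * x) * x⁻¹ := by group
      _ = 1 := by rw [hs, mul_one, mul_inv_cancel])
  have hB1 : (B : PSL2) ≠ 1 := fun e => hb1 (by
    rw [hB] at e
    calc b = x * (x⁻¹ * b * x) * x⁻¹ := by group
      _ = 1 := by rw [e, mul_one, mul_inv_cancel])
  have hbb : b * b = 1 := by
    have h := hsq _ hb
    calc b * b = y * (y⁻¹ * b * y * (y⁻¹ * b * y)) * y⁻¹ := by group
      _ = 1 := by rw [h, mul_one, mul_inv_cancel]
  have habab : a * b * (a * b) = 1 := by
    have h := hsq _ hab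
    calc a * b * (a * b) = z * (z⁻¹ * (a * b) * z * (z⁻¹ * (a * b) * z)) * z⁻¹ := by group
      _ = 1 := by rw [h, mul_one, mul_inv_cancel]
  have hBt := trace_of_mul_self hB1 (by
    rw [hB, show x⁻¹ * b * x * (x⁻¹ * b * x) = x⁻¹ * (b * b) * x by group, hbb, mul_one, inv_mul_cancel])
  rw [Matrix.trace_fin_two] at hBt
  have hprod : ((up s * B : SL2) : PSL2) = x⁻¹ * (a * b) * x := by
    rw [QuotientGroup.mk_mul, ← hs, hA, hB]; group
  have h10 : (B : M2) 1 0 = 0 := by
    by_cases h1 : ((up s * B : SL2) : PSL2) = 1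
    · rw [QuotientGroup.mk_mul, mul_eq_one_iff_eq_inv', ← QuotientGroup.mk_inv] at h1
      exact (zero_iff_of_mk_eq h1 1 0).mpr (by simp [up_inv, coe_up])
    · have ht := trace_of_mul_self h1 (by
        rw [hprod, show x⁻¹ * (a * b) * x * (x⁻¹ * (a * b) * x) = x⁻¹ * (a * b * (a * b)) * x by group,
          habab, mul_one, inv_mul_cancel])
      rw [Matrix.trace_fin_two] at ht
      simp [Matrix.SpecialLinearGroup.coe_mul, coe_up, Matrix.mul_apply, Fin.sum_univ_two] at ht
      have : s * (B : M2) 1 0 = 0 := by linear_combination ht - hBt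
      exact (mul_eq_zero.mp this).resolve_left hs0
  have hdet := sl2_det B
  rw [h10, mul_zero, sub_zero] at hdet
  have he : (B : M2) 1 1 = (B : M2) 0 0 := by linear_combination hBt - (B : M2) 0 0 * h2
  rw [he] at hdet
  have h00 : (B : M2) 0 0 = 1 := by
    have : ((B : M2) 0 0 - 1) * ((B : M2) 0 0 - 1) = 0 := by linear_combination hdet - ((B : M2) 0 0 - 1) * h2
    exact sub_eq_zero.mp (mul_self_eq_zero.mp this)
  have hBU : B = up ((B : M2) 0 1) := by
    apply eq_of_coe <;> simp [coe_up, h10, he, h00]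
  -- `w` normalises the translations
  obtain ⟨W, hW⟩ := QuotientGroup.mk_surjective w
  have hwb : w⁻¹ * (B : PSL2) * w ∈ U := by
    rw [hB, hw]
    convert hb using 1
    group
  set t := (B : M2) 0 1
  have ht0 : t ≠ 0 := fun e => hB1 (by rw [hBU, e, up_zero, QuotientGroup.mk_one])
  rw [hBU, ← hW, ← QuotientGroup.mk_inv, ← QuotientGroup.mk_mul, ← QuotientGroup.mk_mul] at hwb
  obtain ⟨t', ht'⟩ := (hU _).mp hwb
  have hW10 : (W : M2) 1 0 = 0 := by
    have h := (zero_iff_of_mk_eq ht' 1 0).mpr (by simp [coe_up])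
    simp [Matrix.SpecialLinearGroup.coe_mul, Matrix.vecMul, dotProduct, coe_up, Matrix.mul_apply,
      Fin.sum_univ_two, Matrix.adjugate_fin_two] at h
    refine mul_self_eq_zero.mp (mul_left_cancel₀ ht0 ?_)
    rw [mul_zero]
    linear_combination -h
  have hdetW := sl2_det W
  rw [hW10, mul_zero, sub_zero] at hdetW
  have hnorm : ∀ c, ((W⁻¹ * up c * W : SL2) : PSL2) = ((up (c * (W : M2) 1 1 * (W : M2) 1 1) : SL2) : PSL2) := by
    intro c
    congr 1
    apply eq_of_coe <;>
      simp [Matrix.SpecialLinearGroup.coe_mul, Matrix.vecMul, dotProduct, coe_up, Matrix.mul_apply,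
        Fin.sum_univ_two, Matrix.adjugate_fin_two, hW10]
    · linear_combination hdetW
    · ring
    · linear_combination hdetW
  have hle : ∀ u ∈ U, w⁻¹ * u * w ∈ U := by
    intro u hu
    obtain ⟨X, rfl⟩ := QuotientGroup.mk_surjective u
    obtain ⟨c, hc⟩ := (hU X).mp hu
    rw [hc, ← hW, ← QuotientGroup.mk_inv, ← QuotientGroup.mk_mul, ← QuotientGroup.mk_mul, hU, hnorm]
    exact ⟨_, rfl⟩
  refine Subgroup.eq_of_le_of_card_ge (fun u hu => ?_) ?_
  · rw [conj_smul_eq] at hu ⊢
    have := hle _ hu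
    rwa [hw, show (x⁻¹ * y)⁻¹ * (x⁻¹ * u * x) * (x⁻¹ * y) = y⁻¹ * u * y by group] at this
  · rw [Subgroup.card_map_of_injective (MulEquiv.injective _),
      Subgroup.card_map_of_injective (MulEquiv.injective _)]

omit [Fintype F] in
/-- The companion matrix of trace one. -/
theorem det_companion : (!![0, -1; 1, 1] : M2).det = 1 := by
  simp [Matrix.det_fin_two]

/-- Groups of order three in `PSL(2, 2^a)`, `a` odd. -/
theorem isBinary_three [CharP F 2] {a : ℕ} (ha : Odd a) (hq : Fintype.card F = 2 ^ a) {H : Subgroup PSL2}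
    (hcard : Nat.card H = 3) : IsBinary H := by
  haveI : Fact (Nat.Prime 2) := ⟨Nat.prime_two⟩
  haveI : Fact (Nat.Prime 3) := ⟨Nat.prime_three⟩
  have h2 : (2 : F) = 0 := CharP.cast_eq_zero F 2
  have hquad : ∀ z : F, z * z + z + 1 ≠ 0 := by
    intro z hz
    have hz3 : z ^ 3 = 1 := by linear_combination (z - 1) * hz
    have hz1 : z ≠ 1 := fun e => one_ne_zero (show (1 : F) = 0 by rw [e] at hz; linear_combination hz - h2)
    have hz0 : z ≠ 0 := fun e => by rw [e] at hz; simp at hz
    have h := orderOf_dvd_of_pow_eq_one (FiniteField.pow_card_sub_one_eq_one z hz0)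
    rw [orderOf_eq_prime hz3 hz1, hq] at h
    obtain ⟨j, rfl⟩ := ha
    have : 2 ^ (2 * j + 1) % 3 = 2 := by
      rw [pow_succ, pow_mul, Nat.mul_mod, Nat.pow_mod]; norm_num
    have := Nat.one_le_two_pow (n := 2 * j + 1)
    generalize 2 ^ (2 * j + 1) = n at *
    omega
  have hord : ∀ u ∈ H, u ≠ 1 → orderOf u = 3 := by
    intro u hu hu1
    have h := orderOf_dvd_natCard (⟨u, hu⟩ : H)
    rw [hcard, Subgroup.orderOf_mk] at h
    exact ((Nat.dvd_prime Nat.prime_three).mp h).resolve_left fun e => hu1 (orderOf_eq_one_iff.mp e)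
  have htr : ∀ X : SL2, orderOf (X : PSL2) = 3 → Matrix.trace (X : M2) = 1 := fun X hX => by
    have := DicksonId.trace_of_orderOf_three hX
    have h' : (Matrix.trace (X : M2) - 1) * (Matrix.trace (X : M2) - 1) = 0 := by
      linear_combination this - (Matrix.trace (X : M2) - 1) * h2
    exact sub_eq_zero.mp (mul_self_eq_zero.mp h')
  refine isBinary_of_no_triangle H fun x y z a b hne ha hb hab => ?_
  rw [or_iff_not_imp_left]
  intro ha1
  by_contra hb1
  apply hne
  have hc : ∀ g u : PSL2, g⁻¹ * u * g ∈ H → u ≠ 1 → orderOf u = 3 ∧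
      H.map (MulAut.conj g).toMonoidHom = Subgroup.zpowers u := by
    intro g u hu hu1
    have h1 : g⁻¹ * u * g ≠ 1 := fun e => hu1 (by
      calc u = g * (g⁻¹ * u * g) * g⁻¹ := by group
        _ = 1 := by rw [e, mul_one, mul_inv_cancel])
    have ho : orderOf u = 3 := by
      rw [← hord _ hu h1, ← orderOf_injective (MulAut.conj g⁻¹).toMonoidHom (MulEquiv.injective _) u]
      simp
    refine ⟨ho, (Subgroup.eq_of_le_of_card_ge (Subgroup.zpowers_le.mpr ((conj_smul_eq H g u).mpr hu)) ?_).symm⟩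
    rw [Nat.card_zpowers, ho, Subgroup.card_map_of_injective (MulEquiv.injective _), hcard]
  obtain ⟨hao, hA'⟩ := hc x a ha ha1
  obtain ⟨hbo, hB'⟩ := hc y b hb hb1
  rw [hA', hB']
  by_cases hab1 : a * b = 1
  · rw [eq_inv_of_mul_eq_one_right hab1, Subgroup.zpowers_inv]
  obtain ⟨habo, -⟩ := hc z (a * b) hab hab1
  obtain ⟨A, hA⟩ := QuotientGroup.mk_surjective a
  set C : SL2 := ⟨!![0, -1; 1, 1], det_companion⟩
  have hCc : (C : M2) = !![0, -1; 1, 1] := rfl
  have hC1 : (C : PSL2) ≠ 1 := fun e => by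
    have := (exists_diag_sign e).2.1
    simp [hCc] at this
  obtain ⟨P, hP⟩ := exists_conj (p := 2) (A := A) (B := C) (fun e => by
      have := orderOf_dvd_of_pow_eq_one e
      rw [hA, hao] at this
      omega) hC1
    (Or.inl (by rw [htr A (by rw [hA]; exact hao), Matrix.trace_fin_two, hCc]; simp))
  obtain ⟨B, hB⟩ := QuotientGroup.mk_surjective (P * b * P⁻¹)
  have hord' : ∀ u : PSL2, orderOf (P * u * P⁻¹) = orderOf u := fun u => by
    rw [← orderOf_injective (MulAut.conj P).toMonoidHom (MulEquiv.injective _) u]; simp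
  have t1 := htr B (by rw [hB, hord', hbo])
  have t2 := htr (C * B) (by
    rw [QuotientGroup.mk_mul, hB, ← hP, hA, show P * a * P⁻¹ * (P * b * P⁻¹) = P * (a * b) * P⁻¹ by group,
      hord', habo])
  have hdet := sl2_det B
  rw [Matrix.trace_fin_two] at t1 t2
  simp [Matrix.SpecialLinearGroup.coe_mul, hCc, Matrix.mul_apply, Fin.sum_univ_two] at t2
  set s := (B : M2) 0 0
  set t := (B : M2) 0 1 + 1 with htdef
  have h11 : (B : M2) 1 1 = 1 - s := by linear_combination t1
  have h10 : (B : M2) 1 0 = t - s - 1 := by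
    rw [h11] at t2; linear_combination -t2 - htdef
  have hst : s * s + s * t + t * t = 0 := by
    rw [h11, h10] at hdet
    have h01 : (B : M2) 0 1 = t - 1 := by rw [htdef]; ring
    rw [h01] at hdet
    linear_combination -hdet + (s * t + t - 1) * h2
  have ht : t = 0 := by
    by_contra ht
    refine hquad (s / t) ?_
    field_simp
    linear_combination hst
  have hs : s = 0 := by rw [ht] at hst; exact mul_self_eq_zero.mp (by linear_combination hst)
  have hBC : B = C := by
    apply eq_of_coe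
    · simpa [hCc] using hs
    · simpa [hCc] using eq_neg_of_add_eq_zero_left (htdef.symm.trans ht)
    · rw [h10, ht, hs, hCc]; simp; linear_combination (-1 : F) * h2
    · rw [h11, hs, hCc]; simp
  have : b = a := by
    rw [hBC, ← hP, hA] at hB
    exact (mul_left_cancel (mul_right_cancel hB)).symm
  rw [this]

end Cfsg.Agent.Lib.BinaryPSL2
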