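import Cfsg.Agent.Lib.BinaryPSL2.Triangles
import Cfsg.Agent.Lib.DicksonId.Classify
import Cfsg.Agent.Lib.DicksonId.MaxCommon

/-!
Subfield subgroups have no binary action.
-/

set_option autoImplicit false

namespace Cfsg.Agent.Lib.BinaryPSL2

open Matrix Cfsg.Agent.Lib.Linear
open Cfsg.Agent.Lib.DicksonFull (pslExt slExt)
open Cfsg.Agent.Lib.DicksonId (conjG IsSubfieldGroup)
open Cfsg.Agent.Lib.PLocal.SLTwo (up lo up_add up_zero)
open Cfsg.Agent.Lib.Dickson (coe_up coe_lo up_inv)

variable {F : Type*} [Field F] [Fintype F]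

local notation "SL2" => Matrix.SpecialLinearGroup (Fin 2) F
local notation "M2" => Matrix (Fin 2) (Fin 2) F
local notation "PSL2" => Matrix.ProjectiveSpecialLinearGroup (Fin 2) F

/-- Conjugating a monomial-free element over a subfield by a diagonal matrix leaves it. -/
theorem eq_zero_of_scaled {S : Subfield F} {β : F} (hβ : β ∉ S) {a b c c' A A' B B' : F}
    (ha : a = c * A) (ha' : a = c' * A') (hb : b = c * B) (hb' : β * b = c' * B')
    (hA : A ∈ S) (hA' : A' ∈ S) (hB : B ∈ S) (hB' : B' ∈ S) : a = 0 ∨ b = 0 := by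
  by_contra hne
  rw [not_or] at hne
  obtain ⟨ha0, hb0⟩ := hne
  have hc : c ≠ 0 := fun e => ha0 (by rw [ha, e, zero_mul])
  have hA0 : A' ≠ 0 := fun e => ha0 (by rw [ha', e, mul_zero])
  have hB0 : B ≠ 0 := fun e => hb0 (by rw [hb, e, mul_zero])
  apply hβ
  have h : β = A * B' / (A' * B) := by
    rw [eq_div_iff (mul_ne_zero hA0 hB0)]
    apply mul_left_cancel₀ hc
    linear_combination (-β * A') * hb + A' * hb' - B' * ha' + B' * ha
  rw [h]
  exact S.div_mem (S.mul_mem hA hB') (S.mul_mem hA' hB)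

/-- Subfield groups. -/
theorem not_isBinary_subfield (p : ℕ) [Fact p.Prime] [CharP F p] {H : Subgroup PSL2} (hH : H ≠ ⊤)
    {k : ℕ} (h : IsSubfieldGroup p H k) : ¬ IsBinary H := by
  classical
  obtain ⟨hk, h3, -, g, φ, hcase⟩ := h
  rw [← isBinary_map_iff (AutPSL.conjAut g)]
  set S : Subfield F := φ.fieldRange
  set H' : Subgroup PSL2 := H.map (AutPSL.conjAut g).toMonoidHom
  have hR : (pslExt φ).range ≤ H' := by
    rcases hcase with e | ⟨-, -, ψ, hψ, e⟩
    · exact e.ge
    · exact (DicksonId.pslExt_range_le hψ).trans e.ge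
  have hent : ∀ X : SL2, (X : PSL2) ∈ H' → ∃ c : F, ∀ i j, ∃ s ∈ S, (X : M2) i j = c * s := by
    intro X hX
    rcases hcase with e | ⟨-, -, ψ, hψ, e⟩
    · rw [show H' = (pslExt φ).range from e] at hX
      obtain ⟨z, hz⟩ := hX
      obtain ⟨x, rfl⟩ := QuotientGroup.mk_surjective z
      rw [DicksonFull.pslExt_mk] at hz
      obtain ⟨c, -, hc⟩ := exists_sign hz
      exact ⟨c, fun i j => ⟨_, ⟨_, rfl⟩, by rw [hc]; rfl⟩⟩
    · rw [show H' = ψ.range from e] at hX
      obtain ⟨x, M, c, hx, hz⟩ := hψ.surj _ hX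
      obtain ⟨d, -, hd⟩ := exists_sign hz.symm
      exact ⟨d * c, fun i j => ⟨_, ⟨_, rfl⟩, by rw [hd, hx, mul_assoc]; rfl⟩⟩
  have hmem : ∀ X : SL2, (∀ i j, (X : M2) i j ∈ S) → (X : PSL2) ∈ H' := by
    intro X hX
    obtain ⟨y, rfl⟩ := DicksonId.slExt_mem_range φ (x := X) hX
    exact hR ⟨(y : Matrix.ProjectiveSpecialLinearGroup (Fin 2) (GaloisField p k)), rfl⟩
  obtain ⟨β, hβ⟩ : ∃ β : F, β ∉ S := by
    by_contra hall
    push Not at hall
    apply hH
    have htop : H' = ⊤ := eq_top_iff.mpr fun u _ => by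
      obtain ⟨X, rfl⟩ := QuotientGroup.mk_surjective u
      exact hmem X fun i j => hall _
    refine eq_top_iff.mpr fun u _ => ?_
    have hu : AutPSL.conjAut g u ∈ H' := htop ▸ Subgroup.mem_top _
    rwa [Subgroup.mem_map_equiv, MulEquiv.symm_apply_apply] at hu
  by_cases h2 : (2 : F) = 0
  · -- characteristic two: a diagonal conjugator
    have hc : ringChar F = 2 := by
      have h' : p ∣ 2 := (CharP.cast_eq_zero_iff F p 2).1 (by exact_mod_cast h2)
      rw [ringChar.eq F p]
      exact (Nat.prime_dvd_prime_iff_eq Fact.out Nat.prime_two).1 h'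
    obtain ⟨μ, hμ⟩ := FiniteField.isSquare_of_char_two hc β
    have hμ0 : μ ≠ 0 := fun e => hβ (by rw [hμ, e, mul_zero]; exact S.zero_mem)
    set c : SL2 := dg μ hμ0
    letI : Fintype (GaloisField p k) := Fintype.ofFinite _
    obtain ⟨lk, hl0, hl1⟩ : ∃ l : GaloisField p k, l ≠ 0 ∧ l ≠ 1 := by
      by_contra hall
      push Not at hall
      have hsub : (Finset.univ : Finset (GaloisField p k)) ⊆ {0, 1} := fun x _ => by
        simp only [Finset.mem_insert, Finset.mem_singleton]
        tauto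
      have hle := (Finset.card_le_card hsub).trans Finset.card_le_two
      rw [Finset.card_univ, ← Nat.card_eq_fintype_card, GaloisField.card p k hk.ne'] at hle
      omega
    set l : F := φ lk
    have hl : l ≠ 0 := (map_ne_zero φ).mpr hl0
    have hlS : l ∈ S := ⟨lk, rfl⟩
    have hl2 : 1 - l ^ 4 ≠ 0 := fun e => hl1 (φ.injective (by
      rw [map_one]
      have : (l - 1) ^ 4 = 0 := by
        linear_combination -e + (1 - 2 * l + 3 * l ^ 2 - 2 * l ^ 3) * h2
      exact sub_eq_zero.mp (eq_zero_of_pow_eq_zero this)))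
    have hdH : ∀ a (ha : a ≠ 0), a ∈ S → ((dg a ha : SL2) : PSL2) ∈ H' ∧
        (c : PSL2)⁻¹ * ((dg a ha : SL2) : PSL2) * (c : PSL2) ∈ H' := by
      intro a ha haS
      have h1 : ((dg a ha : SL2) : PSL2) ∈ H' := hmem _ fun i j => by
        fin_cases i <;> fin_cases j <;> simp [coe_dg, S.zero_mem, haS, S.inv_mem haS]
      refine ⟨h1, ?_⟩
      rwa [← QuotientGroup.mk_inv, ← QuotientGroup.mk_mul, ← QuotientGroup.mk_mul,
        show c⁻¹ * dg a ha * c = dg a ha by
          rw [dg_inv, dg_mul, dg_mul]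
          apply Subtype.ext
          simp [coe_dg, hμ0, mul_comm μ⁻¹, mul_assoc]]
    refine not_isBinary_of_orbit_triangle (c : PSL2) (hasTriangle_monomial (l := l) (s := 1)
      (r := l ^ 2 * (1 - l ^ 2) / (1 - l ^ 4)) hl (fun e => hl2 (by rw [e, sub_self])) one_ne_zero
      (by rw [div_mul_cancel₀ _ hl2]; ring) ?_ (hdH l hl hlS) ?_ ?_ ?_ ?_)
    · rintro u ⟨hu, hu'⟩
      obtain ⟨X, rfl⟩ := QuotientGroup.mk_surjective u
      obtain ⟨a, hA⟩ := hent X hu
      rw [← QuotientGroup.mk_inv, ← QuotientGroup.mk_mul, ← QuotientGroup.mk_mul] at hu'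
      obtain ⟨a', hA'⟩ := hent _ hu'
      have e00 : ((c⁻¹ * X * c : SL2) : M2) 0 0 = (X : M2) 0 0 := by
        simp [c, coe_dg, Matrix.SpecialLinearGroup.coe_mul, Matrix.vecMul, dotProduct, Matrix.mul_apply, Fin.sum_univ_two, Matrix.adjugate_fin_two, hμ0]
        field_simp
      have e11 : ((c⁻¹ * X * c : SL2) : M2) 1 1 = (X : M2) 1 1 := by
        simp [c, coe_dg, Matrix.SpecialLinearGroup.coe_mul, Matrix.vecMul, dotProduct, Matrix.mul_apply, Fin.sum_univ_two, Matrix.adjugate_fin_two, hμ0]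
        field_simp
      have e10 : ((c⁻¹ * X * c : SL2) : M2) 1 0 = β * (X : M2) 1 0 := by
        simp [c, coe_dg, Matrix.SpecialLinearGroup.coe_mul, Matrix.vecMul, dotProduct, Matrix.mul_apply, Fin.sum_univ_two, Matrix.adjugate_fin_two, hμ]
        ring
      have e01 : ((c⁻¹ * X * c : SL2) : M2) 0 1 = β⁻¹ * (X : M2) 0 1 := by
        simp [c, coe_dg, Matrix.SpecialLinearGroup.coe_mul, Matrix.vecMul, dotProduct, Matrix.mul_apply, Fin.sum_univ_two, Matrix.adjugate_fin_two, hμ]
        field_simp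
      have hβ' : β⁻¹ ∉ S := fun e => hβ (by simpa using S.inv_mem e)
      have key : ∀ i j : Fin 2, (i = j) → ∀ i' j' : Fin 2, i' ≠ j' →
          (X : M2) i j = 0 ∨ (X : M2) i' j' = 0 := by
        intro i j hij i' j' hij'
        obtain ⟨A, hAS, hAe⟩ := hA i j
        obtain ⟨B, hBS, hBe⟩ := hA i' j'
        obtain ⟨A', hAS', hAe'⟩ := hA' i j
        obtain ⟨B', hBS', hBe'⟩ := hA' i' j'
        have hd : ((c⁻¹ * X * c : SL2) : M2) i j = (X : M2) i j := by
          subst hij; fin_cases i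
          exacts [e00, e11]
        rw [hd] at hAe'
        fin_cases i' <;> fin_cases j'
        · exact absurd rfl hij'
        · exact eq_zero_of_scaled hβ' hAe hAe' hBe (e01.symm.trans hBe') hAS hAS' hBS hBS'
        · exact eq_zero_of_scaled hβ hAe hAe' hBe (e10.symm.trans hBe') hAS hAS' hBS hBS'
        · exact absurd rfl hij'
      refine ⟨X, rfl, ?_⟩
      by_cases hoff : (X : M2) 0 1 = 0 ∧ (X : M2) 1 0 = 0
      · exact Or.inl hoff
      refine Or.inr ⟨?_, ?_⟩
      · by_contra h0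
        exact hoff ⟨(key 0 0 rfl 0 1 (by decide)).resolve_left h0, (key 0 0 rfl 1 0 (by decide)).resolve_left h0⟩
      · by_contra h0
        exact hoff ⟨(key 1 1 rfl 0 1 (by decide)).resolve_left h0, (key 1 1 rfl 1 0 (by decide)).resolve_left h0⟩
    · obtain ⟨h1, h1'⟩ := hdH l hl hlS
      refine ⟨H'.inv_mem h1, ?_⟩
      rw [show (c : PSL2)⁻¹ * ((dg l hl : SL2) : PSL2)⁻¹ * (c : PSL2) =
        ((c : PSL2)⁻¹ * ((dg l hl : SL2) : PSL2) * (c : PSL2))⁻¹ by group]
      exact H'.inv_mem h1'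
    · rw [dg_mul]
      exact hdH _ _ (S.mul_mem hlS hlS)
    · exact hmem _ fun i j => by fin_cases i <;> fin_cases j <;> simp [coe_up, S.zero_mem, S.one_mem]
    · exact hmem _ fun i j => by
        fin_cases i <;> fin_cases j <;> simp [coe_up, S.zero_mem, S.one_mem]
        exact S.div_mem (S.mul_mem (S.pow_mem hlS 2) (S.sub_mem S.one_mem (S.pow_mem hlS 2)))
          (S.sub_mem S.one_mem (S.pow_mem hlS 4))
  · -- odd characteristic: a translation as conjugator
    set c : SL2 := up β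
    have hupS : ∀ a ∈ S, ((up a : SL2) : PSL2) ∈ H' := fun a ha => hmem _ fun i j => by
      fin_cases i <;> fin_cases j <;> simp [coe_up, S.zero_mem, S.one_mem, ha]
    have hupK : ∀ a ∈ S, ((up a : SL2) : PSL2) ∈ H' ∧
        (c : PSL2)⁻¹ * ((up a : SL2) : PSL2) * (c : PSL2) ∈ H' := fun a ha => by
      refine ⟨hupS a ha, ?_⟩
      rw [← QuotientGroup.mk_inv, ← QuotientGroup.mk_mul, ← QuotientGroup.mk_mul,
        show c⁻¹ * up a * c = up a by rw [up_inv, ← up_add, ← up_add]; congr 1; ring]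
      exact hupS a ha
    refine not_isBinary_of_orbit_triangle (c : PSL2) (hasTriangle_unipotent (s := 1) h2 one_ne_zero
      ?_ (hupK 1 S.one_mem) (hupK (-1) (S.neg_mem S.one_mem)) ?_ ?_)
    · rintro u ⟨hu, hu'⟩
      obtain ⟨X, rfl⟩ := QuotientGroup.mk_surjective u
      obtain ⟨a, hA⟩ := hent X hu
      rw [← QuotientGroup.mk_inv, ← QuotientGroup.mk_mul, ← QuotientGroup.mk_mul] at hu'
      obtain ⟨a', hA'⟩ := hent _ hu'
      obtain ⟨A, hAS, hAe⟩ := hA 0 0
      obtain ⟨B, hBS, hBe⟩ := hA 0 1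
      obtain ⟨G, hGS, hGe⟩ := hA 1 0
      obtain ⟨D, hDS, hDe⟩ := hA 1 1
      obtain ⟨A', hAS', hAe'⟩ := hA' 0 0
      obtain ⟨B', hBS', hBe'⟩ := hA' 0 1
      obtain ⟨G', hGS', hGe'⟩ := hA' 1 0
      simp [c, coe_up, Matrix.SpecialLinearGroup.coe_mul, Matrix.vecMul, dotProduct, Matrix.mul_apply, Fin.sum_univ_two, Matrix.adjugate_fin_two] at hAe' hBe' hGe'
      have hdet := sl2_det X
      have ha : a ≠ 0 := fun e => by
        rw [hAe, hBe, hGe, hDe, e] at hdet
        simp at hdet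
      have hG0 : (X : M2) 1 0 = 0 := by
        by_contra hne
        have hG : G ≠ 0 := fun e => hne (by rw [hGe, e, mul_zero])
        have hG' : G' ≠ 0 := fun e => hne (by rw [hGe', e, mul_zero])
        apply hβ
        have hb : β = A / G - A' / G' := by
          rw [eq_comm, div_sub_div _ _ hG hG', div_eq_iff (mul_ne_zero hG hG')]
          apply mul_left_cancel₀ ha
          linear_combination (-G') * hAe + G' * hAe' + (β * G' + A') * hGe - A' * hGe'
        rw [hb]
        exact S.sub_mem (S.div_mem hAS hGS) (S.div_mem hAS' hGS')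
      have hG00 : G = 0 := by
        rw [hG0, eq_comm, mul_eq_zero] at hGe
        exact hGe.resolve_left ha
      rw [hG0, mul_zero, sub_zero] at hdet
      have hA0 : A' ≠ 0 := fun e => by
        rw [e, mul_zero, hG0] at hAe'
        simp at hAe'
        simp [hAe'] at hdet
      have hAD : (X : M2) 0 0 = (X : M2) 1 1 := by
        by_contra hne
        apply hβ
        have hAD' : A - D ≠ 0 := fun e => hne (by rw [hAe, hDe, sub_eq_zero.mp e])
        have hb : β = (B' * (A / A') - B) / (A - D) := by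
          rw [eq_div_iff hAD']
          have hc' : a' = a * (A / A') := by
            rw [mul_div_assoc', eq_div_iff hA0, ← hAe, ← hAe', hG0]; ring
          apply mul_left_cancel₀ ha
          rw [hG0] at hBe'
          linear_combination hBe' + B' * hc' - β * hAe + β * hDe - hBe
        rw [hb]
        exact S.div_mem (S.sub_mem (S.mul_mem hBS' (S.div_mem hAS hAS')) hBS) (S.sub_mem hAS hDS)
      refine ⟨(X : M2) 0 0 * (X : M2) 0 1, DicksonId.mk_eq_of_smul (c := (X : M2) 0 0) ?_⟩
      rw [coe_up]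
      ext i j
      fin_cases i <;> fin_cases j <;> simp [hG0, ← hAD] <;> rw [← hAD] at hdet <;>
        linear_combination -hdet
    · exact hmem _ fun i j => by
        fin_cases i <;> fin_cases j <;> simp [coe_lo, S.zero_mem, S.one_mem]
    · exact hmem _ fun i j => by
        fin_cases i <;> fin_cases j <;> simp [coe_up, S.zero_mem, S.one_mem]
        exact S.div_mem (S.neg_mem S.one_mem) (by simpa using S.add_mem S.one_mem S.one_mem)

end Cfsg.Agent.Lib.BinaryPSL2
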