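import Cfsg.Agent.Lib.BinaryPSL2.Borel
import Cfsg.Agent.Lib.BinaryPSL2.Involutions
import Cfsg.Agent.Lib.BinaryPSL2.Polyhedral
import Cfsg.Agent.Lib.BinaryPSL2.Positive
import Cfsg.Agent.Lib.BinaryPSL2.Rotation
import Cfsg.Agent.Lib.BinaryPSL2.Subfield

/-!
The subgroups with binary coset action.
-/

set_option autoImplicit false

namespace Cfsg.Agent.Lib.BinaryPSL2

open Matrix Cfsg.Agent.Lib.Linear
open Cfsg.Agent.Lib.PLocal.SLTwo (up lo up_add up_zero)
open Cfsg.Agent.Lib.Dickson (coe_up up_inv up_injective)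
open scoped Pointwise

variable {F : Type*} [Field F] [Fintype F] {p : ℕ} [hp : Fact p.Prime] [CharP F p]

local notation "SL2" => Matrix.SpecialLinearGroup (Fin 2) F
local notation "M2" => Matrix (Fin 2) (Fin 2) F
local notation "PSL2" => Matrix.ProjectiveSpecialLinearGroup (Fin 2) F

theorem char_two_iff : (2 : F) = 0 ↔ p = 2 := by
  refine ⟨fun h => ?_, fun h => by subst h; exact CharP.cast_eq_zero F 2⟩
  exact (Nat.prime_dvd_prime_iff_eq hp.out Nat.prime_two).mp
    ((CharP.cast_eq_zero_iff F p 2).mp (by exact_mod_cast h))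

/-- The standard Sylow `p`-subgroup. -/
theorem exists_transl_sylow : ∃ U : Sylow p PSL2,
    ∀ X : SL2, (X : PSL2) ∈ (U : Subgroup PSL2) ↔ ∃ a, (X : PSL2) = ((up a : SL2) : PSL2) := by
  refine ⟨(sylowU_SL (F := F) p).mapSurjective (f := QuotientGroup.mk' _) (QuotientGroup.mk'_surjective _),
    fun X => ?_⟩
  show (X : PSL2) ∈ (uSL (F := F)).range.map (QuotientGroup.mk' _) ↔ _
  constructor
  · rintro ⟨_, ⟨t, rfl⟩, ht⟩
    exact ⟨t.toAdd, by rw [← ht]; exact congrArg (QuotientGroup.mk' _) (Subtype.ext (by rw [coe_uSL, coe_up]))⟩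
  · rintro ⟨a, ha⟩
    exact ⟨up a, ⟨Multiplicative.ofAdd a, Subtype.ext (by rw [coe_uSL, coe_up]; rfl)⟩, ha.symm⟩

/-- Subgroups of a Borel subgroup. -/
theorem binary_borel {H : Subgroup PSL2} (hb : IsBinary H) (hne : H ≠ ⊥) {P : Sylow p PSL2}
    (hH : H ≤ Subgroup.normalizer ((P : Subgroup PSL2) : Set PSL2)) :
    p = 2 ∧ ∃ Q : Sylow p PSL2, H = Q := by
  obtain ⟨g, hg⟩ := exists_upper_conj p hH
  obtain ⟨h2, hU⟩ := upper_cases ((isBinary_map_iff (MulAut.conj g)).mpr hb)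
    (fun e => hne ((Subgroup.map_eq_bot_iff_of_injective _ (MulEquiv.injective _)).mp e)) hg
  obtain ⟨U, hU'⟩ := exists_transl_sylow (F := F) (p := p)
  have he : H.map (MulAut.conj g).toMonoidHom = (U : Subgroup PSL2) := by
    ext u
    obtain ⟨X, rfl⟩ := QuotientGroup.mk_surjective u
    rw [hU X, hU' X]
  refine ⟨char_two_iff.mp h2, g⁻¹ • U, ?_⟩
  rw [Sylow.coe_subgroup_smul, ← he]
  ext u
  rw [Subgroup.mem_pointwise_smul_iff_inv_smul_mem, conj_smul_eq, MulAut.smul_def, MulAut.inv_apply,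
    MulAut.conj_symm_apply, show g⁻¹ * ((g⁻¹)⁻¹ * u * g⁻¹) * g = u by group]

omit [Fintype F] hp [CharP F p] in
/-- Diagonal matrices. -/
theorem diag_mul {X Y : SL2} (hX : (X : M2) 0 1 = 0 ∧ (X : M2) 1 0 = 0)
    (hY : (Y : M2) 0 1 = 0 ∧ (Y : M2) 1 0 = 0) :
    ((X * Y : SL2) : M2) 0 1 = 0 ∧ ((X * Y : SL2) : M2) 1 0 = 0 := by
  simp [Matrix.SpecialLinearGroup.coe_mul, Matrix.mul_apply, Fin.sum_univ_two, hX.1, hX.2, hY.1, hY.2]

omit [Fintype F] hp [CharP F p] in
theorem diag_inv {X : SL2} (hX : (X : M2) 0 1 = 0 ∧ (X : M2) 1 0 = 0) :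
    ((X⁻¹ : SL2) : M2) 0 1 = 0 ∧ ((X⁻¹ : SL2) : M2) 1 0 = 0 := by
  simp [Matrix.adjugate_fin_two, hX.1, hX.2]

/-- The diagonal subgroup. -/
def diagonalSL (F : Type*) [Field F] : Subgroup (Matrix.SpecialLinearGroup (Fin 2) F) where
  carrier := {X | (X : Matrix (Fin 2) (Fin 2) F) 0 1 = 0 ∧ (X : Matrix (Fin 2) (Fin 2) F) 1 0 = 0}
  mul_mem' hX hY := diag_mul hX hY
  one_mem' := ⟨by simp, by simp⟩
  inv_mem' hX := diag_inv hX

omit hp [CharP F p] in
/-- Groups of order three in characteristic two. -/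
theorem three_odd [CharP F 2] {H : Subgroup PSL2} (hb : IsBinary H) (h2 : (2 : F) = 0) {a : ℕ}
    (hq : Fintype.card F = 2 ^ a) {x : PSL2} (hx : orderOf x = 3)
    (hgen : Subgroup.zpowers x = H) : Odd a := by
  classical
  haveI : Fact (Nat.Prime 2) := ⟨Nat.prime_two⟩
  by_contra ha
  rw [Nat.not_odd_iff_even] at ha
  haveI : Fact (Nat.Prime 3) := ⟨Nat.prime_three⟩
  have hmod : 2 ^ a % 3 = 1 := by
    obtain ⟨j, rfl⟩ := ha
    rw [← two_mul, pow_mul, Nat.pow_mod]; norm_num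
  have h1 := Nat.one_le_two_pow (n := a)
  have h3 : 3 ∣ Fintype.card Fˣ := by
    rw [Fintype.card_units, hq]
    generalize 2 ^ a = n at *
    omega
  obtain ⟨u, hu⟩ := exists_prime_orderOf_dvd_card 3 h3
  set ω : F := (u : F)
  have hω3 : ω * ω * ω = 1 := by
    have h := pow_orderOf_eq_one u
    rw [hu, Units.ext_iff, Units.val_pow_eq_pow_val, Units.val_one] at h
    rw [← h]; ring
  have hω1 : ω ≠ 1 := fun e => by
    rw [show u = 1 from Units.ext e, orderOf_one] at hu; omega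
  have hω0 : ω ≠ 0 := u.ne_zero
  have hquad : ω * ω + ω + 1 = 0 := by
    have : (ω - 1) * (ω * ω + ω + 1) = 0 := by linear_combination hω3
    exact (mul_eq_zero.mp this).resolve_left (sub_ne_zero.mpr hω1)
  obtain ⟨X, rfl⟩ := QuotientGroup.mk_surjective x
  have hXt : Matrix.trace (X : M2) = 1 := by
    have h := DicksonId.trace_of_orderOf_three hx
    have h' : (Matrix.trace (X : M2) - 1) * (Matrix.trace (X : M2) - 1) = 0 := by
      linear_combination h - (Matrix.trace (X : M2) - 1) * h2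
    exact sub_eq_zero.mp (mul_self_eq_zero.mp h')
  have hωi : ω⁻¹ = ω * ω := inv_eq_of_mul_eq_one_right (by linear_combination hω3)
  have hD1 : ((dg ω hω0 : SL2) : PSL2) ≠ 1 := fun e => by
    have := (exists_diag_sign e).2.2
    simp [coe_dg, hωi] at this
    have h' : ω * (ω - 1) = 0 := by linear_combination -this
    exact (mul_eq_zero.mp h').elim hω0 (fun e => hω1 (sub_eq_zero.mp e))
  obtain ⟨P, hP⟩ := exists_conj (p := 2) (A := X) (B := dg ω hω0) (fun e => by
      have := orderOf_dvd_of_pow_eq_one e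
      rw [hx] at this
      omega) hD1 (Or.inl (by
    rw [hXt, Matrix.trace_fin_two, coe_dg]
    simp [hωi]
    linear_combination hquad - h2))
  have hmem : ∀ u, u ∈ H.map (MulAut.conj P).toMonoidHom ↔ u ∈ Subgroup.zpowers ((dg ω hω0 : SL2) : PSL2) := by
    intro u
    rw [← hgen, MonoidHom.map_zpowers]
    simp [hP]
  obtain ⟨-, hU⟩ := upper_cases ((isBinary_map_iff (MulAut.conj P)).mpr hb) (fun e => hD1 (by
      have : ((dg ω hω0 : SL2) : PSL2) ∈ H.map (MulAut.conj P).toMonoidHom := (hmem _).mpr (Subgroup.mem_zpowers _)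
      rwa [e, Subgroup.mem_bot] at this)) (fun Y hY => by
    have hfix : Subgroup.zpowers ((dg ω hω0 : SL2) : PSL2) ≤
        (diagonalSL F).map (QuotientGroup.mk' _) := Subgroup.zpowers_le.mpr
      ⟨dg ω hω0, ⟨by simp [coe_dg], by simp [coe_dg]⟩, rfl⟩
    obtain ⟨D, hD, e⟩ := hfix ((hmem _).mp hY)
    exact (zero_iff_of_mk_eq e 1 0).mp hD.2)
  obtain ⟨c, hc⟩ := (hU (dg ω hω0)).mp ((hmem _).mpr (Subgroup.mem_zpowers _))
  obtain ⟨d, hd2, hd⟩ := exists_sign hc
  have h00 := congrFun (congrFun hd 0) 0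
  simp [coe_dg, coe_up] at h00
  have hd1 : d = 1 := by
    have : (d - 1) * (d - 1) = 0 := by linear_combination hd2 - (d - 1) * h2
    exact sub_eq_zero.mp (mul_self_eq_zero.mp this)
  rw [hd1, one_mul] at h00
  exact hω1 h00.symm

omit hp [CharP F p] in
/-- The symmetric group on three letters in characteristic two. -/
theorem not_isBinary_six [CharP F 2] (h4 : 4 ≤ Fintype.card F) (h2 : (2 : F) = 0) {H : Subgroup PSL2} {x r : PSL2}
    (hx : orderOf x = 3) (hr : r * r = 1) (hr1 : r ≠ 1) (hrx : r * x * r⁻¹ = x⁻¹)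
    (hH : ∀ y, y ∈ H ↔ y ∈ Subgroup.zpowers x ∨ y * r ∈ Subgroup.zpowers x) : ¬ IsBinary H := by
  classical
  haveI : Fact (Nat.Prime 2) := ⟨Nat.prime_two⟩
  have hc : ringChar F = 2 := ringChar.eq F 2
  -- move `r` to a translation
  obtain ⟨U, hU⟩ := exists_transl_sylow (F := F) (p := 2)
  have hpg : IsPGroup 2 (Subgroup.zpowers r) := fun g => by
    obtain ⟨i, hi⟩ := Subgroup.mem_zpowers_iff.mp g.2
    refine ⟨1, Subtype.ext ?_⟩
    rw [pow_one, SubgroupClass.coe_pow, OneMemClass.coe_one, ← hi, ← zpow_natCast, ← _root_.zpow_mul,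
      mul_comm, _root_.zpow_mul, zpow_natCast, pow_two, hr, _root_.one_zpow]
  obtain ⟨P, hP⟩ := hpg.exists_le_sylow
  obtain ⟨h, rfl⟩ := MulAction.exists_smul_eq PSL2 U P
  have hrP := hP (Subgroup.mem_zpowers r)
  rw [Sylow.coe_subgroup_smul, Subgroup.mem_pointwise_smul_iff_inv_smul_mem, MulAut.smul_def,
    MulAut.inv_apply, MulAut.conj_symm_apply] at hrP
  obtain ⟨R, hR⟩ := QuotientGroup.mk_surjective (h⁻¹ * r * h)
  obtain ⟨s, hs⟩ := (hU R).mp (hR ▸ hrP)
  rw [hR] at hs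
  have hs0 : s ≠ 0 := fun e => hr1 (by
    rw [e, up_zero, QuotientGroup.mk_one] at hs
    calc r = h * (h⁻¹ * r * h) * h⁻¹ := by group
      _ = 1 := by rw [hs, mul_one, mul_inv_cancel])
  obtain ⟨μ, hμ⟩ := FiniteField.isSquare_of_char_two hc s⁻¹
  have hμ0 : μ ≠ 0 := fun e => inv_ne_zero hs0 (by rw [hμ, e, mul_zero])
  obtain ⟨g₀, hg₀⟩ : ∃ g : PSL2, g * r * g⁻¹ = ((up 1 : SL2) : PSL2) := by
    refine ⟨((dg μ hμ0 : SL2) : PSL2) * h⁻¹, ?_⟩
    rw [show ((dg μ hμ0 : SL2) : PSL2) * h⁻¹ * r * (((dg μ hμ0 : SL2) : PSL2) * h⁻¹)⁻¹ =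
      ((dg μ hμ0 : SL2) : PSL2) * (h⁻¹ * r * h) * ((dg μ hμ0 : SL2) : PSL2)⁻¹ by group, hs,
      ← QuotientGroup.mk_inv, ← QuotientGroup.mk_mul, ← QuotientGroup.mk_mul, dg_inv]
    congr 1
    apply eq_of_coe <;>
      simp [Matrix.SpecialLinearGroup.coe_mul, coe_dg, coe_up, Matrix.vecMul, dotProduct,
        Matrix.mul_apply, Fin.sum_univ_two, hμ0]
    rw [show μ * s * μ = s * (μ * μ) by ring, ← hμ, mul_inv_cancel₀ hs0]
  set x₀ := g₀ * x * g₀⁻¹
  have hx₀ : orderOf x₀ = 3 := by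
    rw [← hx, ← orderOf_injective (MulAut.conj g₀).toMonoidHom (MulEquiv.injective _) x]; simp [x₀]
  obtain ⟨X, hX⟩ := QuotientGroup.mk_surjective x₀
  have hXt : Matrix.trace (X : M2) = 1 := by
    have h' := DicksonId.trace_of_orderOf_three (Z := X) (by rw [hX, hx₀])
    have h'' : (Matrix.trace (X : M2) - 1) * (Matrix.trace (X : M2) - 1) = 0 := by
      linear_combination h' - (Matrix.trace (X : M2) - 1) * h2
    exact sub_eq_zero.mp (mul_self_eq_zero.mp h'')
  have hrX : ((up 1 * X * (up 1)⁻¹ : SL2) : PSL2) = ((X⁻¹ : SL2) : PSL2) := by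
    rw [QuotientGroup.mk_mul, QuotientGroup.mk_mul, QuotientGroup.mk_inv, QuotientGroup.mk_inv, ← hg₀, hX,
      show g₀ * r * g₀⁻¹ * x₀ * (g₀ * r * g₀⁻¹)⁻¹ = g₀ * (r * x * r⁻¹) * g₀⁻¹ by simp only [x₀]; group, hrx]
    simp only [x₀]; group
  have hXeq : up 1 * X * (up 1)⁻¹ = X⁻¹ :=
    eq_of_trace_eq hrX (by rw [trace_conjugate, trace_inverse]) (by rw [trace_conjugate, hXt]; exact one_ne_zero)
  have h10 : (X : M2) 1 0 = 1 := by
    have e := congrArg (fun M : SL2 => (M : M2) 0 0) hXeq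
    simp [Matrix.SpecialLinearGroup.coe_mul, Matrix.vecMul, dotProduct, coe_up, Matrix.mul_apply,
      Fin.sum_univ_two, Matrix.adjugate_fin_two] at e
    rw [Matrix.trace_fin_two] at hXt
    linear_combination e + hXt - ((X : M2) 0 0) * h2
  set t := (X : M2) 0 0 with htdef
  set g := ((up t : SL2) : PSL2) * g₀ with hg
  have hgr : g * r * g⁻¹ = ((up 1 : SL2) : PSL2) := by
    rw [hg, show ((up t : SL2) : PSL2) * g₀ * r * (((up t : SL2) : PSL2) * g₀)⁻¹ =
      ((up t : SL2) : PSL2) * (g₀ * r * g₀⁻¹) * ((up t : SL2) : PSL2)⁻¹ by group, hg₀,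
      ← QuotientGroup.mk_inv, ← QuotientGroup.mk_mul, ← QuotientGroup.mk_mul, up_inv, ← up_add, ← up_add]
    congr 2; ring
  set Y : SL2 := up t * X * (up t)⁻¹
  have hgx : g * x * g⁻¹ = (Y : PSL2) := by
    rw [hg, QuotientGroup.mk_mul, QuotientGroup.mk_mul, QuotientGroup.mk_inv, hX]; simp only [x₀]; group
  have hdet := sl2_det X
  rw [h10, mul_one] at hdet
  rw [Matrix.trace_fin_two] at hXt
  have hY : (Y : M2) = !![0, 1; 1, 1] := by
    simp only [Y, up_inv]
    ext i j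
    fin_cases i <;> fin_cases j <;>
      simp [Matrix.SpecialLinearGroup.coe_mul, Matrix.vecMul, dotProduct, coe_up, Matrix.mul_apply, Fin.sum_univ_two, h10, ← htdef]
    · linear_combination t * h2
    · linear_combination -hdet + (t * (X : M2) 1 1 - t * t) * h2 - h2
    · linear_combination hXt - t * h2
  -- the group consists of six matrices over the prime field
  have hY2 : ((Y * Y : SL2) : M2) = !![1, 1; 1, 0] := by
    rw [Matrix.SpecialLinearGroup.coe_mul, hY]
    ext i j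
    fin_cases i <;> fin_cases j <;> simp [Matrix.mul_apply, Fin.sum_univ_two]
    linear_combination h2
  refine (isBinary_map_iff (MulAut.conj g)).not.mp (not_isBinary_of_triangle (hasTriangle_six h2 h4 ?_ ?_))
  · rw [conj_smul_eq, hH, ← hgr]
    refine Or.inr ?_
    rw [show g⁻¹ * (g * r * g⁻¹) * g * r = r * r by group, hr]
    exact Subgroup.one_mem _
  intro Z hZ
  rw [conj_smul_eq, hH] at hZ
  have hpow : ∀ w, w ∈ Subgroup.zpowers x → w = 1 ∨ w = x ∨ w = x * x := by
    intro w hw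
    rw [← (isOfFinOrder_of_finite x).mem_powers_iff_mem_zpowers,
      (isOfFinOrder_of_finite x).mem_powers_iff_mem_range_orderOf, hx] at hw
    simp [Finset.range_add_one, pow_two] at hw
    tauto
  have key : ∃ M : SL2, (Z : PSL2) = (M : PSL2) ∧ ∀ i j, (M : M2) i j = 0 ∨ (M : M2) i j = 1 := by
    rcases hZ with hw | hw
    · have e : (Z : PSL2) = g * (g⁻¹ * (Z : PSL2) * g) * g⁻¹ := by group
      rcases hpow _ hw with e' | e' | e' <;> rw [e'] at e
      · refine ⟨1, by rw [e, QuotientGroup.mk_one]; group, fun i j => ?_⟩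
        fin_cases i <;> fin_cases j <;> simp
      · refine ⟨Y, by rw [e, hgx], fun i j => ?_⟩
        rw [hY]; fin_cases i <;> fin_cases j <;> simp
      · refine ⟨Y * Y, by rw [e, QuotientGroup.mk_mul, ← hgx]; group, fun i j => ?_⟩
        rw [hY2]; fin_cases i <;> fin_cases j <;> simp
    · have e : (Z : PSL2) = g * (g⁻¹ * (Z : PSL2) * g * r) * g⁻¹ * (g * r * g⁻¹) := by
        rw [show g * (g⁻¹ * (Z : PSL2) * g * r) * g⁻¹ * (g * r * g⁻¹) = (Z : PSL2) * g * (r * r) * g⁻¹ by group,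
          hr]; group
      rcases hpow _ hw with e' | e' | e' <;> rw [e'] at e
      · refine ⟨up 1, by rw [e, hgr]; group, fun i j => ?_⟩
        rw [coe_up]; fin_cases i <;> fin_cases j <;> simp
      · refine ⟨Y * up 1, by rw [e, QuotientGroup.mk_mul, hgr, hgx], fun i j => ?_⟩
        rw [Matrix.SpecialLinearGroup.coe_mul, hY, coe_up]
        fin_cases i <;> fin_cases j <;> simp [Matrix.mul_apply, Fin.sum_univ_two]
        linear_combination h2
      · refine ⟨Y * Y * up 1, by rw [e, QuotientGroup.mk_mul, QuotientGroup.mk_mul, hgr, ← hgx]; group,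
          fun i j => ?_⟩
        rw [Matrix.SpecialLinearGroup.coe_mul, hY2, coe_up]
        fin_cases i <;> fin_cases j <;> simp [Matrix.mul_apply, Fin.sum_univ_two]
        linear_combination h2
  obtain ⟨M, hM, hM01⟩ := key
  obtain ⟨d, hd2, hd⟩ := exists_sign hM.symm
  have hd1 : d = 1 := by
    have : (d - 1) * (d - 1) = 0 := by linear_combination hd2 - (d - 1) * h2
    exact sub_eq_zero.mp (mul_self_eq_zero.mp this)
  intro i j
  rw [hd, hd1, one_smul]
  exact hM01 i j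

/-- Dihedral groups. -/
theorem dihedral_cases (h4 : 4 ≤ Fintype.card F) (h5 : Fintype.card F ≠ 5) {H : Subgroup PSL2}
    (hb : IsBinary H) {k : ℕ} (hk : ¬ p ∣ k) (he : Nonempty (H ≃* DihedralGroup k)) :
    p = 2 ∧ ∃ Q : Sylow p PSL2, H = Q := by
  classical
  obtain ⟨e⟩ := he
  have hk0 : k ≠ 0 := fun h => hk (h ▸ dvd_zero p)
  haveI : NeZero k := ⟨hk0⟩
  have hcard : Nat.card H = 2 * k := by rw [Nat.card_congr e.toEquiv, DihedralGroup.nat_card]
  set φ : DihedralGroup k →* PSL2 := H.subtype.comp e.symm.toMonoidHom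
  have hφ : Function.Injective φ := H.subtype_injective.comp e.symm.injective
  have hmem : ∀ u, φ u ∈ H := fun u => (e.symm u).2
  have hsurj : ∀ y ∈ H, ∃ u, φ u = y := fun y hy => ⟨e ⟨y, hy⟩, by simp [φ]⟩
  have h7 : p ≠ 2 → 7 ≤ Fintype.card F := fun hp2 => by
    obtain ⟨f, hf, hq⟩ := exists_card_eq_pow (F := F) p
    have : Fintype.card F % 2 = 1 := by rw [hq]; exact Nat.odd_iff.mp (hp.out.odd_of_ne_two hp2).pow
    omega
  set r : PSL2 := φ (DihedralGroup.sr 0) with hr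
  set x : PSL2 := φ (DihedralGroup.r 1) with hx
  have hrr : r * r = 1 := by rw [hr, ← map_mul, DihedralGroup.sr_mul_self, map_one]
  have hr1 : r ≠ 1 := fun h => by
    have h' := hφ (h.trans φ.map_one.symm)
    rw [DihedralGroup.one_def] at h'
    cases h'
  rcases eq_or_ne k 1 with hk1 | hk1
  · rw [hk1] at hcard
    have hH2 : ∀ g, g ∈ H ↔ g = 1 ∨ g = r := by
      intro g
      refine ⟨fun hg => ?_, fun h => h.elim (fun e => e ▸ H.one_mem) fun e => e ▸ hmem _⟩
      obtain ⟨u, rfl⟩ := hsurj g hg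
      subst hk1
      match u with
      | .r i => exact Or.inl (by rw [Subsingleton.elim i 0, DihedralGroup.r_zero, map_one])
      | .sr i => exact Or.inr (by rw [hr, Subsingleton.elim i 0])
    by_cases hp2 : p = 2
    · subst hp2
      have hpg : IsPGroup 2 H := IsPGroup.of_card (n := 1) (by rw [hcard]; norm_num)
      obtain ⟨P, hP⟩ := hpg.exists_le_sylow
      exact binary_borel hb (fun e => hr1 (by simpa [e] using hmem (DihedralGroup.sr 0)))
        (hP.trans Subgroup.le_normalizer)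
    · exact absurd hb (not_isBinary_two p hp2 hrr hr1 hH2)
  exfalso
  have hxo : orderOf x = k := by rw [hx, orderOf_injective φ hφ, DihedralGroup.orderOf_r_one]
  have hx1 : x ≠ 1 := fun h => by rw [h, orderOf_one] at hxo; exact hk1 hxo.symm
  have hxp : x ^ p ≠ 1 := fun h => by
    rcases (Nat.dvd_prime hp.out).mp (hxo ▸ orderOf_dvd_of_pow_eq_one h) with e | e
    · exact hk1 e
    · exact hk (e ▸ dvd_rfl)
  have hrx : r * x * r⁻¹ = x⁻¹ := by
    rw [hr, hx, ← map_inv, ← map_inv, ← map_mul, ← map_mul, DihedralGroup.inv_sr, DihedralGroup.inv_r,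
      DihedralGroup.sr_mul_r, DihedralGroup.sr_mul_sr, zero_add, zero_sub]
  have hH : ∀ y ∈ H, (y * x = x * y ∧ ∃ i : ℤ, x ^ i = y) ∨ (y * y = 1 ∧ y * x * y⁻¹ = x⁻¹) := by
    intro y hy
    obtain ⟨u, rfl⟩ := hsurj y hy
    match u with
    | .r i =>
      refine Or.inl ⟨?_, (i.val : ℤ), ?_⟩
      · rw [hx, ← map_mul, ← map_mul, DihedralGroup.r_mul_r, DihedralGroup.r_mul_r, add_comm]
      · rw [zpow_natCast, hx, ← map_pow, DihedralGroup.r_one_pow, ZMod.natCast_zmod_val]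
    | .sr i =>
      refine Or.inr ⟨by rw [← map_mul, DihedralGroup.sr_mul_self, map_one], ?_⟩
      rw [hx, ← map_inv, ← map_inv, ← map_mul, ← map_mul, DihedralGroup.inv_sr, DihedralGroup.inv_r,
        DihedralGroup.sr_mul_r, DihedralGroup.sr_mul_sr]
      congr 1
      simp
  rcases eq_or_ne k 2 with hk2 | hk2
  · subst hk2
    have hp2 : p ≠ 2 := fun h => hk (h ▸ dvd_rfl)
    refine not_isBinary_four p hp2 (h7 hp2) (hmem (DihedralGroup.r 1)) hx1 (by omega) (fun g hg => ?_) hb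
    rcases hH g hg with ⟨-, i, rfl⟩ | ⟨h, -⟩
    · rw [← _root_.zpow_add, show i + i = 2 * i by ring, _root_.zpow_mul, zpow_ofNat, orderOf_dvd_iff_pow_eq_one.mp hxo.dvd,
        _root_.one_zpow]
    · exact h
  have hx2 : x * x ≠ 1 := fun h => by
    have := orderOf_dvd_of_pow_eq_one ((pow_two x).trans h)
    rw [hxo] at this
    have := Nat.le_of_dvd two_pos this
    omega
  rcases Nat.even_or_odd k with ⟨j, hj⟩ | hodd
  · have hp2 : p ≠ 2 := fun h => hk (h ▸ ⟨j, by rw [hj]; ring⟩)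
    set z : PSL2 := x ^ j with hzdef
    have hz : z * z = 1 := by rw [hzdef, ← pow_add, ← hj, orderOf_dvd_iff_pow_eq_one.mp hxo.dvd]
    have hz1 : z ≠ 1 := fun h => by
      have := Nat.le_of_dvd (by omega) (hxo ▸ orderOf_dvd_of_pow_eq_one h)
      omega
    have hzi : z⁻¹ = z := inv_eq_of_mul_eq_one_right hz
    have hzc : ∀ y ∈ H, y * z = z * y := by
      intro y hy
      rcases hH y hy with ⟨h, -⟩ | ⟨-, h⟩
      · exact ((show Commute y x from h).pow_right j).eq
      · have h' : y * z * y⁻¹ = z := by rw [hzdef, ← conj_pow, h, inv_pow, ← hzdef, hzi]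
        calc y * z = y * z * y⁻¹ * y := by group
          _ = z * y := by rw [h']
    have hzH : z ∈ H := H.pow_mem (hmem _) j
    by_cases hfull : ∀ c : PSL2, c * x * c⁻¹ = x⁻¹ → c ∈ H
    · exact not_isBinary_centralizer p hp2 (h7 hp2) hz hz1
        (mem_iff_commute p hxp hx2 hzH hz hz1 hzc (hmem _) (hmem _) hrx hfull) hb
    · push Not at hfull
      obtain ⟨c, hc, hcH⟩ := hfull
      exact not_isBinary_dihedral_even p hp2 (hmem _) hx2 hzH hz hz1 hzc
        (fun y hy => (hH y hy).imp And.left id) hc hcH hb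
  · by_cases h6 : (2 : F) = 0 ∧ x * x * x = 1
    · obtain ⟨h2, hx3⟩ := h6
      have hk3 : k = 3 := by
        have h := Nat.le_of_dvd (by norm_num) (hxo ▸ orderOf_dvd_of_pow_eq_one
          (show x ^ 3 = 1 by rw [pow_succ, pow_two]; exact hx3))
        obtain ⟨j, hj⟩ := hodd
        omega
      haveI : CharP F 2 := char_two_iff.mp h2 ▸ ‹CharP F p›
      refine not_isBinary_six h4 h2 (hxo.trans hk3) hrr hr1 hrx (fun y => ⟨fun hy => ?_, ?_⟩) hb
      · rcases hH y hy with ⟨-, i, rfl⟩ | ⟨-, h⟩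
        · exact Or.inl (Subgroup.zpow_mem _ (Subgroup.mem_zpowers x) i)
        · obtain ⟨u, rfl⟩ := hsurj y hy
          match u with
          | .r i =>
            refine Or.inl ?_
            rw [← ZMod.natCast_zmod_val i, ← DihedralGroup.r_one_pow, map_pow, ← hx]
            exact Subgroup.pow_mem _ (Subgroup.mem_zpowers x) _
          | .sr i =>
            refine Or.inr ?_
            rw [hr, ← map_mul, DihedralGroup.sr_mul_sr, ← ZMod.natCast_zmod_val (0 - i),
              ← DihedralGroup.r_one_pow, map_pow, ← hx]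
            exact Subgroup.pow_mem _ (Subgroup.mem_zpowers x) _
      · rintro (h | h)
        · exact Subgroup.zpowers_le.mpr (hmem _) h
        · have := H.mul_mem (Subgroup.zpowers_le.mpr (hmem _) h) (H.inv_mem (hmem (DihedralGroup.sr 0)))
          rwa [← hr, mul_inv_cancel_right] at this
    · refine not_isBinary_dihedral_odd p (hmem _) hxp hodd (orderOf_dvd_iff_pow_eq_one.mp hxo.dvd) (hmem _) hrr hr1
        (fun h2 hx3 => h6 ⟨h2, hx3⟩) (fun y hy => ?_) hb
      rcases hH y hy with ⟨h, i, rfl⟩ | h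
      · refine Or.inl ⟨h, fun h2' => ?_⟩
        have hk' : (x ^ i) ^ k = 1 := by
          rw [← zpow_natCast, ← _root_.zpow_mul, mul_comm, _root_.zpow_mul, zpow_natCast,
            orderOf_dvd_iff_pow_eq_one.mp hxo.dvd, _root_.one_zpow]
        obtain ⟨j, hj⟩ := hodd
        rwa [hj, pow_succ, pow_mul, pow_two, h2', one_pow, one_mul] at hk'
      · exact Or.inr h

/-- The subgroups with binary action. -/
theorem binary_cases (h4 : 4 ≤ Fintype.card F) (h5 : Fintype.card F ≠ 5) {H : Subgroup PSL2}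
    (hH : H ≠ ⊤) (hb : IsBinary H) :
    H = ⊥ ∨ (p = 2 ∧ ∃ Q : Sylow p PSL2, H = Q) ∨
      ((∃ a, Odd a ∧ Fintype.card F = 2 ^ a) ∧ Nat.card H = 3) := by
  classical
  by_cases hne : H = ⊥
  · exact Or.inl hne
  rcases DicksonId.classify (p := p) H with ⟨hc, hpH⟩ | ⟨k, hk, -, he⟩ | ⟨P, hP⟩ | ⟨hpH, he⟩ | ⟨hpH, he⟩ |
    ⟨hpH, he⟩ | ⟨k, hk⟩
  · obtain ⟨x, hgen⟩ := H.isCyclic_iff_exists_zpowers_eq_top.mp hc
    have hord : orderOf x = Nat.card H := by rw [← hgen, Nat.card_zpowers]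
    have hxH : x ∈ H := hgen ▸ Subgroup.mem_zpowers x
    have hx1 : x ≠ 1 := fun e => hne (by rw [← hgen, e, Subgroup.zpowers_one_eq_bot])
    have hmem : ∀ y ∈ H, ∃ i : ℤ, x ^ i = y := fun y hy =>
      Subgroup.mem_zpowers_iff.mp (hgen.symm ▸ hy)
    by_cases hx2 : x * x = 1
    · have h2 : orderOf x = 2 := orderOf_eq_prime (by rw [pow_two, hx2]) hx1
      have hp2 : p ≠ 2 := fun e => hpH (by rw [← hord, h2, e])
      refine absurd hb (not_isBinary_two p hp2 hx2 hx1 fun g => ⟨fun hg => ?_, ?_⟩)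
      · obtain ⟨i, rfl⟩ := hmem g hg
        rcases Int.even_or_odd i with ⟨j, rfl⟩ | ⟨j, rfl⟩
        · left; rw [← two_mul, _root_.zpow_mul, zpow_ofNat, pow_two, hx2, _root_.one_zpow]
        · right; rw [_root_.zpow_add, _root_.zpow_mul, zpow_ofNat, pow_two, hx2, _root_.one_zpow, one_mul, zpow_one]
      · rintro (rfl | rfl)
        exacts [H.one_mem, hxH]
    · have hxp : x ^ p ≠ 1 := fun e => by
        rcases (Nat.dvd_prime hp.out).mp (orderOf_dvd_of_pow_eq_one e) with h | h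
        · exact hx1 (orderOf_eq_one_iff.mp h)
        · exact hpH (by rw [← hord, h])
      by_cases h6 : (2 : F) = 0 ∧ x * x * x = 1
      · obtain ⟨h2, hx3⟩ := h6
        haveI : Fact (Nat.Prime 3) := ⟨Nat.prime_three⟩
        have hxo : orderOf x = 3 := orderOf_eq_prime (by rw [pow_succ, pow_two]; exact hx3) hx1
        obtain ⟨a, -, hq⟩ := exists_card_eq_pow (F := F) p
        rw [char_two_iff.mp h2] at hq
        haveI : CharP F 2 := char_two_iff.mp h2 ▸ ‹CharP F p›
        exact Or.inr (Or.inr ⟨⟨a, three_odd hb h2 hq hxo hgen, hq⟩, by rw [← hord, hxo]⟩)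
      · refine absurd hb (not_isBinary_cyclic p hxH hxp hx2 (fun h2 h3 => h6 ⟨h2, h3⟩) fun y hy => ?_)
        obtain ⟨i, rfl⟩ := hmem y hy
        exact ((Commute.refl x).zpow_left i).eq
  · exact Or.inr (Or.inl (dihedral_cases h4 h5 hb hk he))
  · exact Or.inr (Or.inl (binary_borel hb hne hP))
  · have hc : Nat.card H = 12 := by
      obtain ⟨e⟩ := he
      rw [Nat.card_congr e.toEquiv, Nat.card_eq_fintype_card]
      decide +kernel
    exact absurd hb (not_isBinary_alt_four (p := p) (fun e => hpH (by rw [hc, e]; norm_num))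
      (fun e => hpH (by rw [hc, e]; norm_num)) h4 h5 he)
  · have hc : Nat.card H = 24 := by
      obtain ⟨e⟩ := he
      rw [Nat.card_congr e.toEquiv, Nat.card_eq_fintype_card]
      decide +kernel
    refine absurd hb (not_isBinary_perm_four (fun e => hpH ?_) he)
    rw [hc, char_two_iff.mp e]; norm_num
  · exact absurd hb (not_isBinary_alt_five h4 h5 hpH hH he)
  · exact absurd hb (not_isBinary_subfield p hH hk)

end Cfsg.Agent.Lib.BinaryPSL2
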