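import Cfsg.Agent.Lib.BinaryPSL2.Triangles
import Cfsg.Agent.Lib.DicksonId.Classify

/-!
Subgroups of a Borel subgroup.
-/

set_option autoImplicit false

namespace Cfsg.Agent.Lib.BinaryPSL2

open Matrix Cfsg.Agent.Lib.Linear
open Cfsg.Agent.Lib.DicksonFull (mk_eq_one_of_smul)
open Cfsg.Agent.Lib.PLocal.SLTwo (up lo up_add up_zero)
open Cfsg.Agent.Lib.Dickson (coe_up coe_lo up_inv transl mem_transl up_injective)
open Cfsg.Agent.Lib.DicksonId (pre mem_pre)
open scoped Pointwise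

variable {F : Type*} [Field F] [Fintype F]

local notation "SL2" => Matrix.SpecialLinearGroup (Fin 2) F
local notation "M2" => Matrix (Fin 2) (Fin 2) F
local notation "PSL2" => Matrix.ProjectiveSpecialLinearGroup (Fin 2) F

/-- A conjugate upper triangular form. -/
theorem exists_upper_conj (p : ℕ) [Fact p.Prime] [CharP F p] {H : Subgroup PSL2} {P : Sylow p PSL2}
    (hH : H ≤ Subgroup.normalizer ((P : Subgroup PSL2) : Set PSL2)) :
    ∃ g : PSL2, ∀ X : SL2, (X : PSL2) ∈ H.map (MulAut.conj g).toMonoidHom → (X : M2) 1 0 = 0 := by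
  set U : Sylow p PSL2 :=
    (sylowU_SL (F := F) p).mapSurjective (f := QuotientGroup.mk' _) (QuotientGroup.mk'_surjective _)
  obtain ⟨h, rfl⟩ := MulAction.exists_smul_eq PSL2 U P
  have hPeq : (((h • U : Sylow p PSL2)) : Subgroup PSL2) =
      MulAut.conj h • (uSL (F := F)).range.map (QuotientGroup.mk' _) := rfl
  refine ⟨h⁻¹, fun X hX => ?_⟩
  rw [conj_smul_eq, inv_inv] at hX
  have hu : h * ((up (1 : F) : SL2) : PSL2) * h⁻¹ ∈ ((h • U : Sylow p PSL2) : Subgroup PSL2) := by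
    rw [hPeq]
    exact Subgroup.mem_pointwise_smul_iff_inv_smul_mem.mpr ⟨up 1,
      ⟨Multiplicative.ofAdd 1, Subtype.ext (coe_uSL _)⟩, by simp [MulAut.smul_def, mul_assoc]⟩
  have h' := (Subgroup.mem_normalizer_iff.mp (hH hX) _).mp hu
  rw [hPeq] at h'
  obtain ⟨_, ⟨t, rfl⟩, ht⟩ := Subgroup.mem_pointwise_smul_iff_inv_smul_mem.mp h'
  have e : ((X * up 1 * X⁻¹ : SL2) : PSL2) = ((uSL t : SL2) : PSL2) := by
    rw [QuotientGroup.mk_mul, QuotientGroup.mk_mul, QuotientGroup.mk_inv]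
    refine Eq.trans ?_ ht.symm
    rw [MulAut.smul_def, MulAut.inv_apply, MulAut.conj_symm_apply]
    group
  have h10 := (zero_iff_of_mk_eq e 1 0).mpr (by simp [coe_uSL])
  simp [Matrix.SpecialLinearGroup.coe_mul, Matrix.vecMul, dotProduct, coe_up, Matrix.mul_apply,
    Fin.sum_univ_two, Matrix.adjugate_fin_two] at h10
  refine mul_self_eq_zero.mp ?_
  linear_combination -h10

/-- Proper subgroups of a Sylow `2`-subgroup in characteristic two. -/
theorem not_isBinary_transl_two (h2 : (2 : F) = 0) {H : Subgroup PSL2} (W : AddSubgroup F)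
    (hW : ∀ X : SL2, (X : PSL2) ∈ H ↔ ∃ a ∈ W, (X : PSL2) = ((up a : SL2) : PSL2))
    (hbot : W ≠ ⊥) (htop : W ≠ ⊤) : ¬ IsBinary H := by
  classical
  have hc : ringChar F = 2 := by
    have h' : ringChar F ∣ 2 := (CharP.cast_eq_zero_iff F (ringChar F) 2).1 (by exact_mod_cast h2)
    exact (Nat.prime_dvd_prime_iff_eq (CharP.char_is_prime F (ringChar F)) Nat.prime_two).1 h'
  choose rt hrt using fun a : F => FiniteField.isSquare_of_char_two hc a
  let Inter : Finset Fˣ → Finset F := fun S =>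
    Finset.univ.filter fun x => ∀ l ∈ S, (l : F)⁻¹ * x ∈ W
  have mem_I : ∀ (S : Finset Fˣ) x, x ∈ Inter S ↔ ∀ l ∈ S, (l : F)⁻¹ * x ∈ W := fun S x => by simp [Inter]
  have add_I : ∀ (S : Finset Fˣ) x y, x ∈ Inter S → y ∈ Inter S → x + y ∈ Inter S := fun S x y hx hy => by
    rw [mem_I] at hx hy ⊢
    intro l hl
    rw [mul_add]
    exact W.add_mem (hx l hl) (hy l hl)
  -- a minimal intersection of scalar multiples of `W`
  let good : Finset (Finset Fˣ) := Finset.univ.filter fun S => S.Nonempty ∧ ∃ x ∈ Inter S, x ≠ 0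
  have hgood : good.Nonempty := by
    obtain ⟨⟨x, hx⟩, hx0⟩ := @exists_ne _ ((AddSubgroup.nontrivial_iff_ne_bot _).mpr hbot) 0
    refine ⟨{1}, ?_⟩
    simp only [good, Finset.mem_filter, Finset.mem_univ, true_and]
    exact ⟨Finset.singleton_nonempty 1, x, (mem_I _ _).mpr fun l hl => by
      rw [Finset.mem_singleton.mp hl]; simpa using hx, fun e => hx0 (Subtype.ext e)⟩
  obtain ⟨S, hS, hmin⟩ := Finset.exists_min_image good (fun S => (Inter S).card) hgood
  simp only [good, Finset.mem_filter, Finset.mem_univ, true_and] at hS hmin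
  obtain ⟨hSne, m₁, hm₁, hm₁0⟩ := hS
  -- translates of the minimal intersection
  let tr : Fˣ → Finset Fˣ := fun μ => S.image (μ * ·)
  have mem_tr : ∀ (μ : Fˣ) x, x ∈ Inter (tr μ) ↔ (μ : F)⁻¹ * x ∈ Inter S := fun μ x => by
    rw [mem_I, mem_I]
    simp only [tr, Finset.forall_mem_image, Units.val_mul, mul_inv]
    refine forall₂_congr fun l _ => ?_
    constructor <;> intro h <;> convert h using 1 <;> ring
  have sep : ∀ μ : Fˣ, Inter (tr μ) ≠ Inter S → ∀ x, x ∈ Inter (tr μ) → x ∈ Inter S → x = 0 := by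
    intro μ hne x hx hxS
    by_contra hx0
    have hsub : Inter (S ∪ tr μ) ⊆ Inter S := fun y hy => (mem_I _ _).mpr fun l hl =>
      (mem_I _ _).mp hy l (Finset.mem_union_left _ hl)
    have hxU : x ∈ Inter (S ∪ tr μ) := (mem_I _ _).mpr fun l hl => by
      rcases Finset.mem_union.mp hl with h | h
      · exact (mem_I _ _).mp hxS l h
      · exact (mem_I _ _).mp hx l h
    have heq := Finset.eq_of_subset_of_card_le hsub
      (hmin _ ⟨hSne.mono Finset.subset_union_left, x, hxU, hx0⟩)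
    refine hne (Finset.eq_of_subset_of_card_le (t := Inter S) ?_ ?_)
    · intro y hy
      -- both sets have the same cardinality, and `Inter S ⊆ Inter (tr μ)`
      have hS' : Inter S ⊆ Inter (tr μ) := fun z hz => by
        rw [← heq] at hz
        exact (mem_I _ _).mpr fun l hl => (mem_I _ _).mp hz l (Finset.mem_union_right _ hl)
      have hcard : (Inter (tr μ)).card ≤ (Inter S).card :=
        Finset.card_le_card_of_injOn (fun z => (μ : F)⁻¹ * z) (fun z hz => (mem_tr μ z).mp hz)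
          fun a _ b _ e => mul_left_cancel₀ (inv_ne_zero μ.ne_zero) e
      rwa [Finset.eq_of_subset_of_card_le hS' hcard]
    · exact Finset.card_le_card fun z hz => by
        rw [← heq] at hz
        exact (mem_I _ _).mpr fun l hl => (mem_I _ _).mp hz l (Finset.mem_union_right _ hl)
  obtain ⟨μ, hμ⟩ : ∃ μ : Fˣ, Inter (tr μ) ≠ Inter S := by
    by_contra hall
    push Not at hall
    apply htop
    rw [AddSubgroup.eq_top_iff']
    intro w
    rcases eq_or_ne w 0 with rfl | hw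
    · exact W.zero_mem
    obtain ⟨l, hl⟩ := hSne
    set μ : Fˣ := Units.mk0 ((l : F) * w / m₁) (div_ne_zero (mul_ne_zero l.ne_zero hw) hm₁0)
    have h1 : (l : F) * w ∈ Inter (tr μ) := (mem_tr μ _).mpr (by
      convert hm₁ using 1
      simp only [μ, Units.val_mk0]
      field_simp)
    rw [hall μ] at h1
    have := (mem_I _ _).mp h1 l hl
    rwa [inv_mul_cancel_left₀ l.ne_zero] at this
  set m₂ := (μ : F) * m₁ with hm₂def
  have hm₂ : m₂ ∈ Inter (tr μ) := (mem_tr μ _).mpr (by rwa [inv_mul_cancel_left₀ μ.ne_zero])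
  have hm₂S : m₂ ∉ Inter S := fun h => mul_ne_zero μ.ne_zero hm₁0 (sep μ hμ _ hm₂ h)
  set m₃ := m₁ + m₂ with hm₃def
  have neg2 : ∀ a b : F, a - b = a + b := fun a b => by linear_combination (-b) * h2
  have hm₃S : m₃ ∉ Inter S := fun h => hm₂S (by
    have := add_I S _ _ hm₁ h
    rwa [show m₁ + m₃ = m₂ by rw [hm₃def]; linear_combination m₁ * h2] at this)
  have hm₃0 : m₃ ≠ 0 := fun e => hm₃S ((mem_I _ _).mpr fun l _ => by rw [e, mul_zero]; exact W.zero_mem)
  set ν : Fˣ := Units.mk0 (m₃ / m₁) (div_ne_zero hm₃0 hm₁0) with hν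
  have hm₃ : m₃ ∈ Inter (tr ν) := (mem_tr ν _).mpr (by
    convert hm₁ using 1
    simp only [hν, Units.val_mk0]
    field_simp)
  have hν' : Inter (tr ν) ≠ Inter S := fun e => hm₃S (e ▸ hm₃)
  -- the points
  have hrt0 : ∀ l : Fˣ, rt (l : F) ≠ 0 := fun l e => l.ne_zero (by rw [hrt (l : F), e, zero_mul])
  let D : Fˣ → SL2 := fun l => dg (rt (l : F)) (hrt0 l)
  have upD : ∀ (l : Fˣ) (a : F), (D l)⁻¹ * up a * D l = up ((l : F)⁻¹ * a) := fun l a => by
    show (dg (rt (l : F)) (hrt0 l))⁻¹ * up a * dg (rt (l : F)) (hrt0 l) = _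
    rw [dg_inv]
    apply Subtype.ext
    simp only [Matrix.SpecialLinearGroup.coe_mul, coe_dg, coe_up]
    have := hrt0 l
    ext i j
    fin_cases i <;> fin_cases j <;> simp [Matrix.mul_apply, Fin.sum_univ_two, this]
    conv_rhs => rw [hrt (l : F)]
    field_simp
  have hmem : ∀ a, ((up a : SL2) : PSL2) ∈ H ↔ a ∈ W := fun a => by
    rw [hW]
    refine ⟨fun ⟨b, hb, e⟩ => ?_, fun h => ⟨a, h, rfl⟩⟩
    obtain ⟨c, -, hc'⟩ := exists_sign e
    have h00 := congrFun (congrFun hc' 0) 0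
    have h01 := congrFun (congrFun hc' 0) 1
    simp [coe_up] at h00 h01
    rw [← h00, one_mul] at h01
    rwa [← h01]
  let cs : Fin 3 → F := ![0, m₃, 0]
  let lists : Fin 3 → Finset Fˣ := ![S, tr μ, tr ν]
  let ι := Σ k : Fin 3, lists k
  have hmove : ∀ (i : ι) (w : F), (((up w : SL2) : PSL2) •
      (((D i.2.1 : SL2) : PSL2) : PSL2 ⧸ H) = ((((up (cs i.1) : SL2) : PSL2) * ((D i.2.1 : SL2) : PSL2) : PSL2) : PSL2 ⧸ H)) ↔
      (i.2.1 : F)⁻¹ * (w + cs i.1) ∈ W := by
    intro i w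
    rw [smul_mk_eq, ← QuotientGroup.mk_mul, ← QuotientGroup.mk_inv, ← QuotientGroup.mk_mul,
      ← QuotientGroup.mk_mul, show (up (cs i.1) * D i.2.1)⁻¹ * up w * D i.2.1 =
        (D i.2.1)⁻¹ * up (-cs i.1 + w) * D i.2.1 by rw [up_add, ← up_inv]; group, upD, hmem,
      show -cs i.1 + w = w + cs i.1 by linear_combination (-(cs i.1)) * h2]
  intro hb
  have hcard : 2 ≤ Fintype.card ι := by
    rw [Fintype.card_sigma, Fin.sum_univ_three]
    simp only [Fintype.card_coe]
    simp only [lists, Matrix.cons_val]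
    have h1 := hSne.card_pos
    have h3 : 0 < (tr μ).card := (hSne.image _).card_pos
    omega
  -- a common translation for each pair of blocks
  have pair : ∀ k k' : Fin 3, ∃ w : F, (∀ l ∈ lists k, (l : F)⁻¹ * (w + cs k) ∈ W) ∧
      ∀ l ∈ lists k', (l : F)⁻¹ * (w + cs k') ∈ W := by
    have blk : ∀ k, ∀ l ∈ lists k, (l : F)⁻¹ * (cs k + cs k) ∈ W := fun k l _ => by
      rw [show cs k + cs k = 0 by linear_combination (cs k) * h2, mul_zero]; exact W.zero_mem
    have p01 : (∀ l ∈ lists 0, (l : F)⁻¹ * (m₁ + cs 0) ∈ W) ∧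
        ∀ l ∈ lists 1, (l : F)⁻¹ * (m₁ + cs 1) ∈ W := by
      refine ⟨fun l hl => ?_, fun l hl => ?_⟩
      · simpa [cs] using (mem_I _ _).mp hm₁ l hl
      · have : m₁ + m₃ = m₂ := by rw [hm₃def]; linear_combination m₁ * h2
        simp [cs, this]
        exact (mem_I _ _).mp hm₂ l hl
    have p02 : (∀ l ∈ lists 0, (l : F)⁻¹ * ((0 : F) + cs 0) ∈ W) ∧
        ∀ l ∈ lists 2, (l : F)⁻¹ * ((0 : F) + cs 2) ∈ W := by
      constructor <;> intro l _ <;> simp [cs]
    have p12 : (∀ l ∈ lists 1, (l : F)⁻¹ * (m₃ + cs 1) ∈ W) ∧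
        ∀ l ∈ lists 2, (l : F)⁻¹ * (m₃ + cs 2) ∈ W := by
      refine ⟨fun l hl => ?_, fun l hl => ?_⟩
      · exact blk 1 l hl
      · simpa [cs] using (mem_I _ _).mp hm₃ l hl
    intro k k'
    fin_cases k <;> fin_cases k'
    · exact ⟨_, blk 0, blk 0⟩
    · exact ⟨_, p01.1, p01.2⟩
    · exact ⟨_, p02.1, p02.2⟩
    · exact ⟨_, p01.2, p01.1⟩
    · exact ⟨_, blk 1, blk 1⟩
    · exact ⟨_, p12.1, p12.2⟩
    · exact ⟨_, p02.2, p02.1⟩
    · exact ⟨_, p12.2, p12.1⟩
    · exact ⟨_, blk 2, blk 2⟩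
  obtain ⟨g, hg⟩ := hb.fintype hcard (fun i : ι => (((D i.2.1 : SL2) : PSL2) : PSL2 ⧸ H))
    (fun i : ι => ((((up (cs i.1) : SL2) : PSL2) * ((D i.2.1 : SL2) : PSL2) : PSL2) : PSL2 ⧸ H))
    fun i j _ => by
      obtain ⟨w, h1, h2'⟩ := pair i.1 j.1
      exact ⟨((up w : SL2) : PSL2), (hmove i w).mpr (h1 _ i.2.2), (hmove j w).mpr (h2' _ j.2.2)⟩
  -- the global element is a translation
  obtain ⟨l₀, hl₀⟩ := hSne
  obtain ⟨w, rfl⟩ : ∃ w : F, g = ((up w : SL2) : PSL2) := by
    obtain ⟨G, rfl⟩ := QuotientGroup.mk_surjective g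
    have h0 := hg ⟨0, ⟨l₀, by simpa [lists] using hl₀⟩⟩
    simp only [cs, Matrix.cons_val_zero, up_zero, QuotientGroup.mk_one, one_mul, smul_mk_eq,
      ← QuotientGroup.mk_inv, ← QuotientGroup.mk_mul, hW] at h0
    obtain ⟨a, -, ha⟩ := h0
    refine ⟨(l₀ : F) * a, ?_⟩
    rw [show ((G : SL2) : PSL2) = ((D l₀ * ((D l₀)⁻¹ * G * D l₀) * (D l₀)⁻¹ : SL2) : PSL2) by group,
      QuotientGroup.mk_mul, QuotientGroup.mk_mul, ha, ← QuotientGroup.mk_mul, ← QuotientGroup.mk_mul]
    congr 1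
    have := upD l₀ ((l₀ : F) * a)
    rw [inv_mul_cancel_left₀ l₀.ne_zero] at this
    rw [← this]; group
  have hw : ∀ k : Fin 3, w + cs k ∈ Inter (lists k) := fun k => (mem_I _ _).mpr fun l hl =>
    (hmove ⟨k, ⟨l, hl⟩⟩ w).mp (hg _)
  have hw0 : w ∈ Inter S := by simpa [cs, lists] using hw 0
  have hw1 : w + m₃ ∈ Inter (tr μ) := by simpa [cs, lists] using hw 1
  have hw2 : w ∈ Inter (tr ν) := by simpa [cs, lists] using hw 2
  have hwz := sep ν hν' w hw2 hw0
  rw [hwz, zero_add] at hw1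
  refine hm₁0 (sep μ hμ m₁ ?_ hm₁)
  have := add_I _ _ _ hw1 hm₂
  rwa [show m₃ + m₂ = m₁ by rw [hm₃def]; linear_combination m₂ * h2] at this

/-- Upper triangular subgroups. -/
theorem upper_cases {H : Subgroup PSL2} (hb : IsBinary H) (hne : H ≠ ⊥)
    (hup : ∀ X : SL2, (X : PSL2) ∈ H → (X : M2) 1 0 = 0) :
    (2 : F) = 0 ∧ ∀ X : SL2, (X : PSL2) ∈ H ↔ ∃ a, (X : PSL2) = ((up a : SL2) : PSL2) := by
  classical
  have conjUp : ∀ (t : F), (∀ X : SL2, (X : PSL2) ∈
      H.map (MulAut.conj ((up t : SL2) : PSL2)).toMonoidHom → (X : M2) 1 0 = 0) ∧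
      IsBinary (H.map (MulAut.conj ((up t : SL2) : PSL2)).toMonoidHom) := fun t => by
    refine ⟨fun X hX => ?_, (isBinary_map_iff (MulAut.conj _)).mpr hb⟩
    rw [conj_smul_eq, ← QuotientGroup.mk_inv, ← QuotientGroup.mk_mul, ← QuotientGroup.mk_mul] at hX
    have := hup _ hX
    simpa [Matrix.SpecialLinearGroup.coe_mul, Matrix.vecMul, dotProduct, coe_up, Matrix.mul_apply,
      Fin.sum_univ_two, Matrix.adjugate_fin_two] using this
  -- bring a semisimple element to diagonal form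
  have toDiag : ∀ X : SL2, (X : PSL2) ∈ H → (X : M2) 0 0 * (X : M2) 0 0 ≠ 1 →
      ∃ t : F, ∃ h0 : (X : M2) 0 0 ≠ 0, ((dg ((X : M2) 0 0) h0 : SL2) : PSL2) ∈
        H.map (MulAut.conj ((up t : SL2) : PSL2)).toMonoidHom := by
    intro X hX hne
    have h10 := hup X hX
    have hdet := sl2_det X
    rw [h10, mul_zero, sub_zero] at hdet
    have h0 : (X : M2) 0 0 ≠ 0 := fun e => by rw [e, zero_mul] at hdet; exact zero_ne_one hdet
    have hd : (X : M2) 1 1 - (X : M2) 0 0 ≠ 0 := fun e => hne (by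
      rw [sub_eq_zero.mp e] at hdet; exact hdet)
    refine ⟨-(X : M2) 0 1 / ((X : M2) 1 1 - (X : M2) 0 0), h0, ?_⟩
    rw [conj_smul_eq, ← QuotientGroup.mk_inv, ← QuotientGroup.mk_mul, ← QuotientGroup.mk_mul]
    convert hX using 2
    apply eq_of_coe <;>
      simp [Matrix.SpecialLinearGroup.coe_mul, Matrix.vecMul, dotProduct, coe_up, coe_dg, Matrix.mul_apply,
        Fin.sum_univ_two, Matrix.adjugate_fin_two, h10]
    · field_simp
      linear_combination -((X : M2) 0 1) * hdet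
    · exact (eq_inv_of_mul_eq_one_right hdet).symm
  by_cases h4 : ∃ X : SL2, (X : PSL2) ∈ H ∧ (X : M2) 0 0 ^ 4 ≠ 1
  · exfalso
    obtain ⟨X, hX, hl4⟩ := h4
    obtain ⟨t, hl, hd⟩ := toDiag X hX fun e => hl4 (by
      rw [show (X : M2) 0 0 ^ 4 = ((X : M2) 0 0 * (X : M2) 0 0) ^ 2 by ring, e, one_pow])
    obtain ⟨hup', hb'⟩ := conjUp t
    set l := (X : M2) 0 0
    set H' := H.map (MulAut.conj ((up t : SL2) : PSL2)).toMonoidHom
    set T := transl (pre H')
    have hT : ∀ a, a ∈ T ↔ ((up a : SL2) : PSL2) ∈ H' := fun a => Iff.rfl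
    have hTsmul : ∀ a ∈ T, l * l * a ∈ T := fun a ha => by
      rw [hT] at ha ⊢
      convert H'.mul_mem (H'.mul_mem hd ha) (H'.inv_mem hd) using 1
      rw [← QuotientGroup.mk_inv, ← QuotientGroup.mk_mul, ← QuotientGroup.mk_mul, dg_inv]
      congr 1
      apply Subtype.ext
      simp only [Matrix.SpecialLinearGroup.coe_mul, coe_up, coe_dg]
      have hl0 : (X : M2) 0 0 ≠ 0 := hl
      ext i j
      fin_cases i <;> fin_cases j <;> simp [Matrix.mul_apply, Fin.sum_univ_two, hl0, l]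
      ring
    have hl4' : 1 - l ^ 4 ≠ 0 := sub_ne_zero.mpr (Ne.symm hl4)
    by_cases hT0 : T = ⊥
    · -- a diagonal group
      have hdiag : ∀ u, u ∈ H' → ∃ Y : SL2, (Y : PSL2) = u ∧ Monomial Y := by
        intro u hu
        obtain ⟨Y, rfl⟩ := QuotientGroup.mk_surjective u
        refine ⟨Y, rfl, Or.inl ⟨?_, hup' Y hu⟩⟩
        have h10 := hup' Y hu
        have hdet := sl2_det Y
        rw [h10, mul_zero, sub_zero] at hdet
        have hmem : (Y : M2) 0 0 * (Y : M2) 0 1 * (1 - l * l) ∈ T := by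
          rw [hT]
          convert H'.mul_mem (H'.mul_mem (H'.mul_mem hu hd) (H'.inv_mem hu)) (H'.inv_mem hd) using 1
          rw [← QuotientGroup.mk_inv, ← QuotientGroup.mk_inv, ← QuotientGroup.mk_mul,
            ← QuotientGroup.mk_mul, ← QuotientGroup.mk_mul]
          congr 1
          apply eq_of_coe <;>
            simp [Matrix.SpecialLinearGroup.coe_mul, Matrix.vecMul, dotProduct, coe_up, coe_dg,
              Matrix.mul_apply, Fin.sum_univ_two, Matrix.adjugate_fin_two, h10, hl]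
          · field_simp
            linear_combination -hdet
          · field_simp
            ring
          · field_simp
            linear_combination -hdet
        rw [hT0, AddSubgroup.mem_bot, mul_eq_zero, mul_eq_zero] at hmem
        rcases hmem with (e | e) | e
        · simp [e] at hdet
        · exact e
        · exfalso; exact hl4 (by linear_combination (-(l * l + 1)) * e)
      refine not_isBinary_of_triangle (hasTriangle_monomial (L := ⊤) (l := l) (s := 1)
        (r := l ^ 2 * (1 - l ^ 2) / (1 - l ^ 4)) hl hl4 one_ne_zero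
        (by rw [div_mul_cancel₀ _ hl4']; ring) hdiag hd (H'.inv_mem hd) ?_ trivial trivial) hb'
      rw [QuotientGroup.mk_mul]; exact H'.mul_mem hd hd
    · obtain ⟨⟨s, hs⟩, hs0⟩ := @exists_ne _ ((AddSubgroup.nontrivial_iff_ne_bot _).mpr hT0) 0
      have hs0' : s ≠ 0 := fun e => hs0 (Subtype.ext e)
      have hmul : ∀ a ∈ T, (1 - l ^ 4) * a ∈ T := fun a ha => by
        rw [sub_mul, one_mul, show l ^ 4 * a = l * l * (l * l * a) by ring]
        exact T.sub_mem ha (hTsmul _ (hTsmul _ ha))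
      obtain ⟨⟨r, hr⟩, hre⟩ := (Finite.injective_iff_surjective
        (f := fun a : T => (⟨(1 - l ^ 4) * a, hmul a a.2⟩ : T))).mp
        (fun a b e => Subtype.ext (mul_left_cancel₀ hl4' (congrArg Subtype.val e)))
        ⟨s * l ^ 2 * (1 - l ^ 2), by
          rw [show s * l ^ 2 * (1 - l ^ 2) = l * l * s - l * l * (l * l * s) by ring]
          exact T.sub_mem (hTsmul _ hs) (hTsmul _ (hTsmul _ hs))⟩
      let w : SL2 := ⟨!![0, 1; -1, 0], by simp [Matrix.det_fin_two]⟩
      have hwc : (w : M2) = !![0, 1; -1, 0] := rfl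
      refine not_isBinary_of_orbit_triangle (w : PSL2) (hasTriangle_monomial (L := H') (l := l) (s := s)
        (r := r) hl hl4 hs0' (by rw [mul_comm]; exact congrArg Subtype.val hre) ?_ ?_ ?_ ?_ hs hr) hb'
      · rintro u ⟨hu, hu'⟩
        obtain ⟨Y, rfl⟩ := QuotientGroup.mk_surjective u
        rw [← QuotientGroup.mk_inv, ← QuotientGroup.mk_mul, ← QuotientGroup.mk_mul] at hu'
        have h01 := hup' _ hu'
        simp [Matrix.SpecialLinearGroup.coe_mul, hwc, Matrix.vecMul, dotProduct, Matrix.mul_apply,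
          Fin.sum_univ_two, Matrix.adjugate_fin_two] at h01
        exact ⟨Y, rfl, Or.inl ⟨h01, hup' Y hu⟩⟩
      all_goals
        have hwd : (w : PSL2)⁻¹ * ((dg l hl : SL2) : PSL2) * (w : PSL2) = ((dg l hl : SL2) : PSL2)⁻¹ := by
          rw [← QuotientGroup.mk_inv, ← QuotientGroup.mk_inv, ← QuotientGroup.mk_mul, ← QuotientGroup.mk_mul,
            dg_inv]
          congr 1
          apply eq_of_coe <;>
            simp [Matrix.SpecialLinearGroup.coe_mul, hwc, coe_dg, Matrix.vecMul, dotProduct, Matrix.mul_apply,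
              Fin.sum_univ_two, Matrix.adjugate_fin_two]
      · exact ⟨hd, by rw [hwd]; exact H'.inv_mem hd⟩
      · refine ⟨H'.inv_mem hd, ?_⟩
        rw [show (w : PSL2)⁻¹ * ((dg l hl : SL2) : PSL2)⁻¹ * (w : PSL2) =
          ((w : PSL2)⁻¹ * ((dg l hl : SL2) : PSL2) * (w : PSL2))⁻¹ by group, hwd, inv_inv]
        exact hd
      · rw [QuotientGroup.mk_mul]
        refine ⟨H'.mul_mem hd hd, ?_⟩
        rw [show (w : PSL2)⁻¹ * (((dg l hl : SL2) : PSL2) * ((dg l hl : SL2) : PSL2)) * (w : PSL2) =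
          ((w : PSL2)⁻¹ * ((dg l hl : SL2) : PSL2) * (w : PSL2)) *
            ((w : PSL2)⁻¹ * ((dg l hl : SL2) : PSL2) * (w : PSL2)) by group, hwd]
        exact H'.mul_mem (H'.inv_mem hd) (H'.inv_mem hd)
  push Not at h4
  by_cases h2' : ∃ X : SL2, (X : PSL2) ∈ H ∧ (X : M2) 0 0 * (X : M2) 0 0 ≠ 1
  · exfalso
    obtain ⟨X, hX, hsq⟩ := h2'
    have hi : (X : M2) 0 0 * (X : M2) 0 0 = -1 := by
      rcases mul_eq_zero.mp (show ((X : M2) 0 0 * (X : M2) 0 0 - 1) * ((X : M2) 0 0 * (X : M2) 0 0 + 1) = 0 by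
        linear_combination h4 X hX) with e | e
      · exact absurd (sub_eq_zero.mp e) hsq
      · exact eq_neg_of_add_eq_zero_left e
    have h2 : (2 : F) ≠ 0 := fun h => hsq (by linear_combination hi - h)
    obtain ⟨t, hl, hd⟩ := toDiag X hX hsq
    obtain ⟨hup', hb'⟩ := conjUp t
    refine not_isBinary_of_triangle (hasTriangle_involution h2 hi hl hd fun Y hY => ⟨hup' Y hY, ?_⟩) hb'
    rw [conj_smul_eq, ← QuotientGroup.mk_inv, ← QuotientGroup.mk_mul, ← QuotientGroup.mk_mul] at hY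
    have := h4 _ hY
    simpa [Matrix.SpecialLinearGroup.coe_mul, Matrix.vecMul, dotProduct, coe_up, Matrix.mul_apply,
      Fin.sum_univ_two, Matrix.adjugate_fin_two, hup' Y (by rwa [conj_smul_eq, ← QuotientGroup.mk_inv,
        ← QuotientGroup.mk_mul, ← QuotientGroup.mk_mul])] using this
  push Not at h2'
  -- a group of translations
  set T := transl (pre H) with hTdef
  have hT : ∀ a, a ∈ T ↔ ((up a : SL2) : PSL2) ∈ H := fun a => Iff.rfl
  have helt : ∀ X : SL2, (X : PSL2) ∈ H → (X : PSL2) = ((up ((X : M2) 0 0 * (X : M2) 0 1) : SL2) : PSL2) := by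
    intro X hX
    have h10 := hup X hX
    have h00 := h2' X hX
    have hdet := sl2_det X
    rw [h10, mul_zero, sub_zero] at hdet
    refine DicksonId.mk_eq_of_smul (c := (X : M2) 0 0) ?_
    rw [coe_up]
    ext i j
    fin_cases i <;> fin_cases j <;> simp [h10, h00]
    linear_combination -1 * hdet
  have hT0 : T ≠ ⊥ := fun e => hne (by
    rw [Subgroup.eq_bot_iff_forall]
    intro u hu
    obtain ⟨X, rfl⟩ := QuotientGroup.mk_surjective u
    have := helt X hu
    have hmem : (X : M2) 0 0 * (X : M2) 0 1 ∈ T := by rw [hT, ← this]; exact hu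
    rw [e, AddSubgroup.mem_bot] at hmem
    rw [this, hmem, up_zero, QuotientGroup.mk_one])
  by_cases h2 : (2 : F) = 0
  · refine ⟨h2, ?_⟩
    have htop : T = ⊤ := by
      by_contra htop
      exact not_isBinary_transl_two h2 T (fun X => ⟨fun hX => ⟨_, by
        rw [hT, ← helt X hX]; exact hX, helt X hX⟩, fun ⟨a, ha, e⟩ => e ▸ (hT a).mp ha⟩) hT0 htop hb
    exact fun X => ⟨fun hX => ⟨_, helt X hX⟩, fun ⟨a, e⟩ => e ▸ (hT a).mp (htop ▸ AddSubgroup.mem_top a)⟩
  · exfalso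
    obtain ⟨⟨s, hs⟩, hs0⟩ := @exists_ne _ ((AddSubgroup.nontrivial_iff_ne_bot _).mpr hT0) 0
    refine not_isBinary_of_triangle (hasTriangle_unipotent (L := ⊤) h2 (fun e => hs0 (Subtype.ext e))
      (fun u hu => ?_) hs ((hT _).mp (T.neg_mem hs)) trivial trivial) hb
    obtain ⟨X, rfl⟩ := QuotientGroup.mk_surjective u
    exact ⟨_, helt X hu⟩

end Cfsg.Agent.Lib.BinaryPSL2
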