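import Cfsg.Agent.Lib.BinaryPSL2.Matrices

/-!
Elements inverting an element of order above two, and centralisers of involutions.
-/

set_option autoImplicit false

namespace Cfsg.Agent.Lib.BinaryPSL2

open Matrix Cfsg.Agent.Lib.Linear
open Cfsg.Agent.Lib.DicksonFull (mem_center_iff_smul mk_eq_one_of_smul)

variable {F : Type*} [Field F]

local notation "SL2" => Matrix.SpecialLinearGroup (Fin 2) F
local notation "M2" => Matrix (Fin 2) (Fin 2) F
local notation "PSL2" => Matrix.ProjectiveSpecialLinearGroup (Fin 2) F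

theorem sq_conj {G : Type*} [Group G] (P x : G) : P * x * P⁻¹ * (P * x * P⁻¹) = P * (x * x) * P⁻¹ := by
  group

theorem conj_eq_one_iff {G : Type*} [Group G] (P x : G) : P * x * P⁻¹ = 1 ↔ x = 1 := by
  rw [mul_inv_eq_one, mul_eq_left]

/-- An element inverting an element of order above two is an involution. -/
theorem mul_self_of_inverts {b y : PSL2} (hy : y * y ≠ 1) (h : b * y * b⁻¹ = y⁻¹) : b * b = 1 := by
  by_contra hb
  have hbb : (b * b) * y = y * (b * b) := by
    have : b * (b * y * b⁻¹) * b⁻¹ = y := by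
      calc b * (b * y * b⁻¹) * b⁻¹ = b * y⁻¹ * b⁻¹ := by rw [h]
        _ = (b * y * b⁻¹)⁻¹ := by group
        _ = y := by rw [h, inv_inv]
    conv_rhs => rw [← this]
    group
  have hcomm : b * y = y * b := by
    refine comm_of_common (g := b * b) hb hb hy ?_ hbb
    group
  rw [hcomm, mul_inv_cancel_right] at h
  exact hy (by nth_rw 2 [h]; exact mul_inv_cancel y)

theorem trace_sq_ne_four [Fintype F] (p : ℕ) [Fact p.Prime] [CharP F p] {x : PSL2}
    (hx2 : x * x ≠ 1) (hxp : x ^ p ≠ 1) {X : SL2} (hX : (X : PSL2) = x) :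
    Matrix.trace (X : M2) * Matrix.trace (X : M2) ≠ 4 := by
  subst hX
  intro h
  by_cases h2 : (2 : F) = 0
  · exact trace_ne_zero hx2 (mul_self_eq_zero.mp (by linear_combination h + 2 * h2))
  · exact HallPSL.trace_sq_ne_four p h2 hxp (by linear_combination h)

/-- Conjugates in the same torus. -/
theorem eq_or_eq_inv [Fintype F] (p : ℕ) [Fact p.Prime] [CharP F p] {x w : PSL2} (hx : x * x ≠ 1)
    (hxp : x ^ p ≠ 1) (h : w * x = x * w) (P : PSL2) (hP : P * x * P⁻¹ = w) : w = x ∨ w = x⁻¹ := by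
  obtain ⟨X, rfl⟩ := QuotientGroup.mk_surjective x
  obtain ⟨Q, rfl⟩ := QuotientGroup.mk_surjective P
  have hW : ((Q * X * Q⁻¹ : SL2) : PSL2) = w := by
    rw [QuotientGroup.mk_mul, QuotientGroup.mk_mul, QuotientGroup.mk_inv, hP]
  obtain ⟨W, hWt, rfl⟩ : ∃ W : SL2, Matrix.trace (W : M2) = Matrix.trace (X : M2) ∧ (W : PSL2) = w :=
    ⟨_, trace_conjugate Q X, hW⟩
  obtain ⟨u, v, e⟩ := coeff_of_commute (trace_ne_zero hx) (fun e => hx (by rw [e, mul_one])) h
  have h4 := trace_sq_ne_four p hx hxp (X := X) rfl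
  set a := (X : M2) 0 0
  set d := (X : M2) 1 1
  have hdW := sl2_det W
  have hdX := sl2_det X
  rw [Matrix.trace_fin_two, Matrix.trace_fin_two] at hWt
  rw [Matrix.trace_fin_two] at h4
  simp [e] at hWt hdW
  have same : v = 1 → u = 0 → (W : PSL2) = (X : PSL2) := fun hv hu => by
    congr 1; apply eq_of_coe <;> simp [e, hv, hu]
  have other : v = -1 → u = a + d → (W : PSL2) = (X : PSL2)⁻¹ := fun hv hu => by
    rw [← QuotientGroup.mk_inv]; congr 1
    apply eq_of_coe <;> simp [e, hv, hu, Matrix.adjugate_fin_two, a, d]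
  have hv : (v - 1) * (v + 1) = 0 := by
    refine (mul_eq_zero.mp (show (v - 1) * (v + 1) * ((a + d) * (a + d) - 4) = 0 from ?_)).resolve_right
      (sub_ne_zero.mpr h4)
    linear_combination (2 * u + v * (a + d) + (a + d)) * hWt - 4 * hdW + 4 * v ^ 2 * hdX
  by_cases h2 : (2 : F) = 0
  · have hv1 : v = 1 := by
      rcases mul_eq_zero.mp hv with e' | e'
      · exact sub_eq_zero.mp e'
      · linear_combination e' - h2
    have hu : u * (u + (a + d)) = 0 := by
      rw [hv1] at hdW
      linear_combination hdW - hdX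
    rcases mul_eq_zero.mp hu with hu' | hu'
    · exact Or.inl (same hv1 hu')
    · exact Or.inr (other (by linear_combination hv1 + h2) (by linear_combination hu' - (a + d) * h2))
  · rcases mul_eq_zero.mp hv with e' | e'
    · refine Or.inl (same (sub_eq_zero.mp e') ?_)
      exact (mul_eq_zero.mp (show 2 * u = 0 by
        linear_combination hWt - (a + d) * e')).resolve_left h2
    · refine Or.inr (other (eq_neg_of_add_eq_zero_left e') (sub_eq_zero.mp ?_))
      exact (mul_eq_zero.mp (show 2 * (u - (a + d)) = 0 by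
        linear_combination hWt - (a + d) * e')).resolve_left h2

/-- A conjugate of an inverter. -/
theorem inverts_of_commute [Fintype F] (p : ℕ) [Fact p.Prime] [CharP F p] {x z y : PSL2}
    (hx : x * x ≠ 1) (hxp : x ^ p ≠ 1) (hz1 : z ≠ 1) (hzx : z * x = x * z) (hzy : z * y = y * z) :
    y * x * y⁻¹ = x ∨ y * x * y⁻¹ = x⁻¹ := by
  refine eq_or_eq_inv p hx hxp ?_ y rfl
  refine comm_of_common hz1 (fun e => hx ((conj_eq_one_iff y _).mp (by rw [← sq_conj]; exact e))) hx ?_ hzx
  calc z * (y * x * y⁻¹) = (z * y) * x * y⁻¹ := by group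
    _ = y * (z * x) * y⁻¹ := by rw [hzy]; group
    _ = y * x * (z * y⁻¹) := by rw [hzx]; group
    _ = y * x * y⁻¹ * z := by
      rw [show z * y⁻¹ = y⁻¹ * z from (Commute.inv_right (show Commute z y from hzy)).eq]; group

/-- At most one involution commutes with an element of order above two. -/
theorem involution_unique {x w z : PSL2} (hx : x * x ≠ 1) (hw : w * w = 1) (hw1 : w ≠ 1)
    (hz : z * z = 1) (hz1 : z ≠ 1) (hwx : w * x = x * w) (hzx : z * x = x * z) : w = z := by
  obtain ⟨X, rfl⟩ := QuotientGroup.mk_surjective x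
  obtain ⟨W, rfl⟩ := QuotientGroup.mk_surjective w
  obtain ⟨Z, rfl⟩ := QuotientGroup.mk_surjective z
  have hX1 : (X : PSL2) ≠ 1 := fun e => hx (by rw [e, mul_one])
  obtain ⟨u, v, e⟩ := coeff_of_commute (trace_ne_zero hx) hX1 hwx
  obtain ⟨u', v', e'⟩ := coeff_of_commute (trace_ne_zero hx) hX1 hzx
  have t1 := trace_of_mul_self hw1 hw
  have t2 := trace_of_mul_self hz1 hz
  rw [Matrix.trace_fin_two] at t1 t2
  simp [e] at t1
  simp [e'] at t2
  have hv : v ≠ 0 := fun h => hw1 (mk_eq_one_of_smul (a := u) (by rw [e, h, zero_smul, add_zero]))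
  have hv' : v' ≠ 0 := fun h => hz1 (mk_eq_one_of_smul (a := u') (by rw [e', h, zero_smul, add_zero]))
  by_cases h2 : (2 : F) = 0
  · exfalso
    refine trace_ne_zero hx ?_
    rw [Matrix.trace_fin_two]
    refine (mul_eq_zero.mp (show v * ((X : M2) 0 0 + (X : M2) 1 1) = 0 from ?_)).resolve_left hv
    linear_combination t1 - u * h2
  · refine DicksonId.mk_eq_of_smul (c := v' / v) ?_
    have h0 : v' * u = v * u' := by
      apply mul_left_cancel₀ h2
      linear_combination v' * t1 - v * t2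
    rw [e, e', smul_add, smul_smul, smul_smul, div_mul_eq_mul_div, div_mul_cancel₀ _ hv, h0,
      mul_div_cancel_left₀ _ hv]

end Cfsg.Agent.Lib.BinaryPSL2
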