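import Cfsg.Agent.Lib.BinaryPSL2.Abstract
import Cfsg.Agent.Lib.DicksonId.Torus
import Cfsg.Agent.Lib.DicksonId.Pairs
import Cfsg.Agent.Lib.DicksonId.Normal

/-!
Elementary facts about lifts to `SL(2, F)` of commuting elements and of involutions.
-/

set_option autoImplicit false

namespace Cfsg.Agent.Lib.BinaryPSL2

open Matrix Cfsg.Agent.Lib.Linear
open Cfsg.Agent.Lib.DicksonFull (mem_center_iff_smul mk_eq_one_of_smul)

variable {F : Type*} [Field F]

local notation "SL2" => Matrix.SpecialLinearGroup (Fin 2) F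
local notation "M2" => Matrix (Fin 2) (Fin 2) F
local notation "PSL2" => Matrix.ProjectiveSpecialLinearGroup (Fin 2) F

/-- `diag(a, a⁻¹)`. -/
def dg (a : F) (ha : a ≠ 0) : Matrix.SpecialLinearGroup (Fin 2) F :=
  ⟨!![a, 0; 0, a⁻¹], by simp [Matrix.det_fin_two, ha]⟩

theorem coe_dg (a : F) (ha : a ≠ 0) : ((dg a ha : SL2) : M2) = !![a, 0; 0, a⁻¹] := rfl

theorem dg_inv (a : F) (ha : a ≠ 0) : (dg a ha : SL2)⁻¹ = dg a⁻¹ (inv_ne_zero ha) := by
  apply Subtype.ext
  simp [coe_dg, Matrix.adjugate_fin_two]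

theorem dg_mul (a b : F) (ha : a ≠ 0) (hb : b ≠ 0) :
    (dg a ha : SL2) * dg b hb = dg (a * b) (mul_ne_zero ha hb) := by
  apply Subtype.ext
  simp [coe_dg, Matrix.mul_fin_two, mul_comm]

theorem eq_of_coe {X Y : SL2} (h00 : (X : M2) 0 0 = (Y : M2) 0 0) (h01 : (X : M2) 0 1 = (Y : M2) 0 1)
    (h10 : (X : M2) 1 0 = (Y : M2) 1 0) (h11 : (X : M2) 1 1 = (Y : M2) 1 1) : X = Y := by
  apply Subtype.ext
  ext i j
  fin_cases i <;> fin_cases j <;> assumption

/-- Two lifts of the same element differ by a sign. -/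
theorem exists_sign {X Y : SL2} (h : (X : PSL2) = (Y : PSL2)) :
    ∃ c : F, c * c = 1 ∧ (Y : M2) = c • (X : M2) := by
  obtain ⟨c, hc⟩ := (AutPSL.mk_eq_mk_iff X Y).mp h
  refine ⟨c, ?_, hc⟩
  have hd := congrArg Matrix.det hc
  rw [Matrix.det_smul, Fintype.card_fin, X.2, Y.2, mul_one] at hd
  rw [← pow_two, ← hd]

theorem exists_diag_sign {X : SL2} (h : (X : PSL2) = 1) :
    (X : M2) 0 1 = 0 ∧ (X : M2) 1 0 = 0 ∧ (X : M2) 0 0 = (X : M2) 1 1 := by
  obtain ⟨c, hc⟩ := (mem_center_iff_smul X).mp ((QuotientGroup.eq_one_iff X).mp h)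
  simp [hc]

theorem trace_of_mul_self {Z : SL2} (h1 : (Z : PSL2) ≠ 1) (h : (Z : PSL2) * (Z : PSL2) = 1) :
    Matrix.trace (Z : M2) = 0 := by
  refine DicksonId.coeff_eq_zero h1 (Y := Z * Z) (b := -1) ?_ (by rw [QuotientGroup.mk_mul, h])
  rw [Matrix.SpecialLinearGroup.coe_mul, sl2_mul_self, neg_one_smul, ← sub_eq_add_neg]

theorem mul_self_of_trace {Z : SL2} (h : Matrix.trace (Z : M2) = 0) :
    (Z : PSL2) * (Z : PSL2) = 1 := by
  rw [← QuotientGroup.mk_mul]
  refine mk_eq_one_of_smul (a := -1) ?_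
  rw [Matrix.SpecialLinearGroup.coe_mul, sl2_mul_self, h, zero_smul, zero_sub, neg_one_smul]

theorem trace_ne_zero {X : SL2} (h : (X : PSL2) * (X : PSL2) ≠ 1) :
    Matrix.trace (X : M2) ≠ 0 := fun ht => h (mul_self_of_trace ht)

theorem trace_conjugate (P X : SL2) :
    Matrix.trace ((P * X * P⁻¹ : SL2) : M2) = Matrix.trace (X : M2) := by
  rw [Matrix.SpecialLinearGroup.coe_mul, Matrix.SpecialLinearGroup.coe_mul, Matrix.trace_mul_comm,
    ← Matrix.mul_assoc, ← Matrix.SpecialLinearGroup.coe_mul, inv_mul_cancel,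
    Matrix.SpecialLinearGroup.coe_one, Matrix.one_mul]

theorem trace_inverse (X : SL2) : Matrix.trace ((X⁻¹ : SL2) : M2) = Matrix.trace (X : M2) := by
  simp [Matrix.adjugate_fin_two, Matrix.trace_fin_two, add_comm]

/-- An element with non-zero trace commutes in `PSL` only with what commutes in `SL`. -/
theorem commute_lift {X Y : SL2} (hX : Matrix.trace (X : M2) ≠ 0)
    (h : (Y : PSL2) * (X : PSL2) = (X : PSL2) * (Y : PSL2)) : Y * X = X * Y := by
  have h' : (X : PSL2) = ((Y * X * Y⁻¹ : SL2) : PSL2) := by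
    rw [QuotientGroup.mk_mul, QuotientGroup.mk_mul, QuotientGroup.mk_inv, h, mul_inv_cancel_right]
  obtain ⟨c, -, hc⟩ := exists_sign h'
  have ht := congrArg Matrix.trace hc
  rw [trace_conjugate, Matrix.trace_smul, smul_eq_mul] at ht
  have hc1 : c = 1 := mul_right_cancel₀ hX (by rw [one_mul, ← ht])
  rw [hc1, one_smul] at hc
  have : Y * X * Y⁻¹ = X := Subtype.ext hc
  rw [← mul_inv_eq_iff_eq_mul, this]

/-- The lift of a commuting element. -/
theorem coeff_of_commute {X Y : SL2} (hX : Matrix.trace (X : M2) ≠ 0) (hX1 : (X : PSL2) ≠ 1)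
    (h : (Y : PSL2) * (X : PSL2) = (X : PSL2) * (Y : PSL2)) :
    ∃ u v : F, (Y : M2) = u • 1 + v • (X : M2) :=
  exists_eq_add_smul_of_commute (DicksonId.nonScalar_of_ne hX1) (commute_lift hX h)

/-- Elements of order above two commuting with a common element commute. -/
theorem comm_of_common {g a b : PSL2} (hg : g ≠ 1) (ha : a * a ≠ 1) (hb : b * b ≠ 1)
    (hga : g * a = a * g) (hgb : g * b = b * g) : a * b = b * a := by
  obtain ⟨G, rfl⟩ := QuotientGroup.mk_surjective g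
  obtain ⟨A, rfl⟩ := QuotientGroup.mk_surjective a
  obtain ⟨B, rfl⟩ := QuotientGroup.mk_surjective b
  have hA := commute_lift (trace_ne_zero ha) hga
  have hB := commute_lift (trace_ne_zero hb) hgb
  obtain ⟨u, v, e1⟩ := exists_eq_add_smul_of_commute (DicksonId.nonScalar_of_ne hg) hA.symm
  obtain ⟨u', v', e2⟩ := exists_eq_add_smul_of_commute (DicksonId.nonScalar_of_ne hg) hB.symm
  rw [← QuotientGroup.mk_mul, ← QuotientGroup.mk_mul]
  congr 1
  apply Subtype.ext
  rw [Matrix.SpecialLinearGroup.coe_mul, Matrix.SpecialLinearGroup.coe_mul, e1, e2]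
  simp only [Matrix.mul_add, Matrix.add_mul, smul_mul_assoc, mul_smul_comm, Matrix.one_mul,
    Matrix.mul_one, smul_smul]
  match_scalars <;> ring

/-- Elements with the same trace, prime to `p`, are conjugate. -/
theorem exists_conj [Fintype F] {p : ℕ} [Fact p.Prime] [CharP F p] {A B : SL2}
    (hA : (A : PSL2) ^ p ≠ 1) (hB : (B : PSL2) ≠ 1)
    (h : Matrix.trace (B : M2) = Matrix.trace (A : M2) ∨ Matrix.trace (B : M2) = -Matrix.trace (A : M2)) :
    ∃ P : PSL2, P * (A : PSL2) * P⁻¹ = (B : PSL2) := by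
  rcases h with h | h
  · obtain ⟨P, rfl⟩ := DicksonId.exists_conj_of_trace (p := p) hA hB h
    exact ⟨P, by rw [← QuotientGroup.mk_inv, ← QuotientGroup.mk_mul, ← QuotientGroup.mk_mul]⟩
  · have hn : ((Dickson.negI * B : SL2) : PSL2) = (B : PSL2) := DicksonId.mk_negI_mul B
    obtain ⟨P, hP⟩ := DicksonId.exists_conj_of_trace (p := p) (b := Dickson.negI * B) hA
      (by rw [hn]; exact hB) (by rw [DicksonId.trace_negI_mul, h, neg_neg])
    exact ⟨P, by rw [← hn, ← hP, QuotientGroup.mk_mul, QuotientGroup.mk_mul, QuotientGroup.mk_inv]⟩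

/-- An involution conjugate is found by its trace. -/
theorem exists_conj_involution [Fintype F] {p : ℕ} [Fact p.Prime] [CharP F p] (hp2 : p ≠ 2)
    {a b : PSL2} (ha : a * a = 1) (ha1 : a ≠ 1) (hb : b * b = 1) (hb1 : b ≠ 1) :
    ∃ P : PSL2, P * a * P⁻¹ = b := by
  obtain ⟨A, rfl⟩ := QuotientGroup.mk_surjective a
  obtain ⟨B, rfl⟩ := QuotientGroup.mk_surjective b
  refine exists_conj (p := p) ?_ hb1 (Or.inl (by rw [trace_of_mul_self ha1 ha, trace_of_mul_self hb1 hb]))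
  obtain ⟨j, hj⟩ := ((Fact.out : p.Prime).odd_of_ne_two hp2)
  rw [hj, pow_succ, pow_mul, pow_two, ha, one_pow, one_mul]
  exact ha1

/-- Transport along conjugation. -/
theorem conj_smul_eq {G : Type*} [Group G] (H : Subgroup G) (x : G) (y : G) :
    y ∈ H.map (MulAut.conj x).toMonoidHom ↔ x⁻¹ * y * x ∈ H := by
  rw [Subgroup.mem_map_equiv, MulAut.conj_symm_apply]

theorem conj_pre_apply {X Y P : SL2} {x y : PSL2} (hX : (X : PSL2) = x) (hY : (Y : PSL2) = y)
    (h : P * X * P⁻¹ = Y) : (P : PSL2) * x * (P : PSL2)⁻¹ = y := by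
  rw [← hX, ← hY, ← QuotientGroup.mk_inv, ← QuotientGroup.mk_mul, ← QuotientGroup.mk_mul, h]

end Cfsg.Agent.Lib.BinaryPSL2
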